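import Cfsg.Agent.Lib.Unitary.Simple
import Cfsg.Agent.Lib.Unitary.Subspaces
/-
Counting tools for the minimal index of SU_n.
* hchar, annih, card_annih_mul_le, exists_mem_annih, pair_bound, pair_bound_one: orthogonality through a character
* trs, trsAt, card_class_mul_le, card_orb_le: translates of a subset
* suPerm; cls, cmin, cmin_le_cls; perp, card_perp; exists_norm_one_perp (one vector, pairs)
* move_one, move_pair; orb, orb_lower_iso, orb_lower_aniso
-/
set_option autoImplicit false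

namespace Cfsg.Agent.MinIndexU

open Cfsg.Agent.Unitary
open scoped Matrix

variable {F : Type*} [Field F] [Fintype F] {q m : ℕ}

local notation "hm" => Cfsg.hermForm m F q
local notation "Vm" => (Fin m → F)

theorem card_F (hF : Fintype.card F = q ^ 2) : Nat.card F = q ^ 2 := by
  rw [Nat.card_eq_fintype_card, hF]

theorem card_V (hF : Fintype.card F = q ^ 2) (m : ℕ) : Nat.card (Fin m → F) = (q ^ 2) ^ m := by
  rw [Nat.card_fun, card_F hF, Nat.card_fin]

/-! ### Characters -/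

/-- A non-trivial character killing a proper subgroup. -/
theorem exists_char_kills {A : Type*} [AddCommGroup A] [Finite A] {K : AddSubgroup A} (hK : K ≠ ⊤) :
    ∃ ψ : AddChar A ℂ, (∃ a, ψ a ≠ 1) ∧ ∀ x ∈ K, ψ x = 1 := by
  obtain ⟨a, ha⟩ : ∃ a, a ∉ K := by
    by_contra h
    simp only [not_exists, not_not] at h
    exact hK (eq_top_iff.2 fun x _ => h x)
  have ha' : (QuotientAddGroup.mk a : A ⧸ K) ≠ 0 := fun h =>
    ha ((QuotientAddGroup.eq_zero_iff a).1 h)
  obtain ⟨χ, hχ⟩ := AddChar.exists_apply_ne_zero.2 ha'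
  refine ⟨χ.compAddMonoidHom (QuotientAddGroup.mk' K), ⟨a, hχ⟩, fun x hx => ?_⟩
  show χ (QuotientAddGroup.mk x) = 1
  rw [(QuotientAddGroup.eq_zero_iff x).2 hx, AddChar.map_zero_eq_one]

/-- The character `x ↦ ψ (h x y)`. -/
def hchar (hF : Fintype.card F = q ^ 2) (ψ : AddChar F ℂ) (y : Fin m → F) : AddChar (Fin m → F) ℂ :=
  ψ.compAddMonoidHom
    { toFun := fun x => Cfsg.hermForm m F q x y
      map_zero' := (hermForm_isHerm hF m).zero_left y
      map_add' := fun a b => (hermForm_isHerm hF m).add_left a b y }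

theorem hchar_apply (hF : Fintype.card F = q ^ 2) (ψ : AddChar F ℂ) (x y : Vm) :
    hchar hF ψ y x = ψ (hm x y) := rfl

theorem hchar_injective (hF : Fintype.card F = q ^ 2) {ψ : AddChar F ℂ} (hψ : ∃ a, ψ a ≠ 1) :
    Function.Injective (hchar (m := m) hF ψ) := by
  intro y y' h
  obtain ⟨a, ha⟩ := hψ
  have H := hermForm_isHerm hF m
  by_contra hne
  obtain ⟨i, hi⟩ := Function.ne_iff.1 (sub_ne_zero.2 hne)
  let x : Vm := (a / ((y - y') i) ^ q) • Pi.single i 1
  have h1 : hm x (y - y') = a := by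
    show Cfsg.hermForm m F q _ _ = a
    rw [H.smul_left, hermForm_single_left,
      div_mul_cancel₀ _ (fun e => hi ((pow_q_eq_zero hF).1 e))]
  have h2 := DFunLike.congr_fun h x
  rw [hchar_apply, hchar_apply] at h2
  have h3 : hm x y = hm x (y - y') + hm x y' := by rw [← H.add_right hF, sub_add_cancel]
  rw [h3, AddChar.map_add_eq_mul, h1] at h2
  have : ψ (hm x y') ≠ 0 := by
    intro h0
    have := AddChar.map_add_eq_mul ψ (hm x y') (-hm x y')
    rw [add_neg_cancel, AddChar.map_zero_eq_one, h0, zero_mul] at this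
    exact one_ne_zero this
  exact ha (mul_right_cancel₀ this (h2.trans (one_mul _).symm))

theorem hchar_bijective (hF : Fintype.card F = q ^ 2) {ψ : AddChar F ℂ} (hψ : ∃ a, ψ a ≠ 1) :
    Function.Bijective (hchar (m := m) hF ψ) := by
  classical
  exact (Fintype.bijective_iff_injective_and_card _).2 ⟨hchar_injective hF hψ, AddChar.card_eq.symm⟩

/-- The orthogonal of `X` through `ψ`. -/
def annih (hF : Fintype.card F = q ^ 2) (ψ : AddChar F ℂ) (X : AddSubgroup (Fin m → F)) :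
    AddSubgroup (Fin m → F) where
  carrier := {y | ∀ x ∈ X, ψ (Cfsg.hermForm m F q x y) = 1}
  zero_mem' x _ := by rw [(hermForm_isHerm hF m).zero_right hF, AddChar.map_zero_eq_one]
  add_mem' := fun {a b} ha hb x hx => by
    rw [(hermForm_isHerm hF m).add_right hF, AddChar.map_add_eq_mul, ha x hx, hb x hx, one_mul]
  neg_mem' := fun {a} ha x hx => by
    have h := ha (-x) (neg_mem hx)
    rwa [(hermForm_isHerm hF m).neg_left, ← (hermForm_isHerm hF m).neg_right hF] at h

theorem mem_annih {hF : Fintype.card F = q ^ 2} {ψ : AddChar F ℂ} {X : AddSubgroup Vm} {y : Vm} :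
    y ∈ annih hF ψ X ↔ ∀ x ∈ X, ψ (hm x y) = 1 := Iff.rfl

theorem card_annih_mul_le (hF : Fintype.card F = q ^ 2) {ψ : AddChar F ℂ} (hψ : ∃ a, ψ a ≠ 1)
    (X : AddSubgroup Vm) :
    Nat.card (annih hF ψ X) * Nat.card X ≤ (q ^ 2) ^ m := by
  classical
  have h1 : Nat.card (annih hF ψ X) ≤ Nat.card (Vm ⧸ X) := by
    rw [← show Nat.card (AddChar (Vm ⧸ X) ℂ) = Nat.card (Vm ⧸ X) by
      have := Fintype.ofFinite (Vm ⧸ X)
      rw [Nat.card_eq_fintype_card, Nat.card_eq_fintype_card, AddChar.card_eq]]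
    refine Nat.card_le_card_of_injective (fun y => AddChar.toAddMonoidHomEquiv.symm
      (QuotientAddGroup.lift X (hchar hF ψ y.1).toAddMonoidHom fun x hx => y.2 x hx)) ?_
    intro y y' h
    refine Subtype.ext (hchar_injective hF hψ (DFunLike.ext _ _ fun x => ?_))
    exact DFunLike.congr_fun h (QuotientAddGroup.mk x)
  calc _ ≤ Nat.card (Vm ⧸ X) * Nat.card X := Nat.mul_le_mul_right _ h1
    _ = _ := by rw [← AddSubgroup.card_eq_card_quotient_mul_card_addSubgroup, card_V hF]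

theorem exists_mem_annih (hF : Fintype.card F = q ^ 2) {ψ : AddChar F ℂ} (hψ : ∃ a, ψ a ≠ 1)
    {X : AddSubgroup Vm} (hX : X ≠ ⊤) : ∃ y ∈ annih hF ψ X, y ≠ 0 := by
  obtain ⟨χ, ⟨a, ha⟩, hχ⟩ := exists_char_kills hX
  obtain ⟨y, hy⟩ := (hchar_bijective hF hψ).2 χ
  refine ⟨y, fun x hx => by rw [← hchar_apply hF, hy]; exact hχ x hx, fun h0 => ha ?_⟩
  rw [← hy, hchar_apply, h0, (hermForm_isHerm hF m).zero_right hF, AddChar.map_zero_eq_one]

/-- Subgroups whose mutual products lie in a proper subgroup are small. -/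
theorem pair_bound (hF : Fintype.card F = q ^ 2) {K : AddSubgroup F} (hK : K ≠ ⊤)
    (A B : AddSubgroup Vm) (h : ∀ a ∈ A, ∀ b ∈ B, hm a b ∈ K) :
    Nat.card A * Nat.card B ≤ (q ^ 2) ^ m := by
  obtain ⟨ψ, hψ, hk⟩ := exists_char_kills hK
  have hle : B ≤ annih hF ψ A := fun b hb a ha => hk _ (h a ha b hb)
  calc Nat.card A * Nat.card B ≤ Nat.card A * Nat.card (annih hF ψ A) :=
        Nat.mul_le_mul_left _ (Nat.card_le_card_of_injective _ (AddSubgroup.inclusion_injective hle))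
    _ ≤ _ := by rw [mul_comm]; exact card_annih_mul_le hF hψ A

/-- The same in dimension one. -/
theorem pair_bound_one (hF : Fintype.card F = q ^ 2) {K : AddSubgroup F} (hK : K ≠ ⊤)
    (A B : AddSubgroup F) (h : ∀ a ∈ A, ∀ b ∈ B, a * b ^ q ∈ K) :
    Nat.card A * Nat.card B ≤ q ^ 2 := by
  let c : F →+ (Fin 1 → F) :=
    { toFun := fun x _ => x, map_zero' := rfl, map_add' := fun _ _ => rfl }
  have hc : Function.Injective c := fun x y e => congrFun e 0
  have := pair_bound hF hK (A.map c) (B.map c) (by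
    rintro _ ⟨a, ha, rfl⟩ _ ⟨b, hb, rfl⟩
    simpa [Cfsg.hermForm, c] using h a ha b hb)
  rwa [AddSubgroup.card_map_of_injective hc, AddSubgroup.card_map_of_injective hc,
    pow_one] at this

/-- The skew elements form a proper subgroup. -/
theorem one_half_not_skew (hF : Fintype.card F = q ^ 2) : ∃ η : F, η + η ^ q = 1 :=
  exists_trace_eq hF (one_pow q)

/-! ### Translates -/

section Translates

variable {G V : Type*} [Group G] (ρ : G →* Equiv.Perm V) (X : Set V)

/-- The translates of a set. -/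
def trs : Set (Set V) := Set.range fun g => ρ g '' X

/-- The translates by elements fixing a point. -/
def trsAt (v : V) : Set (Set V) := (fun g => ρ g '' X) '' {g | ρ g v = v}

variable [Finite V]

theorem card_class_mul_le {v : V} (hv : v ∈ X) {C : Set V} (hC : ∀ g, ∀ x ∈ C, ρ g x ∈ C)
    (htr : ∀ x ∈ C, ∃ g, ρ g v = x) :
    C.ncard * (trsAt ρ X v).ncard ≤ (trs ρ X).ncard * (X ∩ C).ncard := by
  classical
  choose! g hg using htr
  have hrep : ∀ Y ∈ trs ρ X, ∃ k, ρ k '' X = Y := fun Y hY => hY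
  choose! k hk using hrep
  rw [← Set.ncard_prod, ← Set.ncard_prod]
  refine Set.ncard_le_ncard_of_injOn
    (fun p => (ρ (g p.1) '' p.2, (ρ (k (ρ (g p.1) '' p.2)))⁻¹ p.1)) ?_ ?_ (Set.toFinite _)
  · rintro ⟨x, Y⟩ ⟨hx, h, hh, rfl⟩
    have hmem : ρ (g x) '' (ρ h '' X) ∈ trs ρ X :=
      ⟨g x * h, by show ρ (g x * h) '' X = _; rw [map_mul, Equiv.Perm.coe_mul, Set.image_comp]⟩
    refine ⟨hmem, ?_, ?_⟩
    · have hxm : x ∈ ρ (k (ρ (g x) '' (ρ h '' X))) '' X := by
        rw [hk _ hmem]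
        exact ⟨v, ⟨v, hv, hh⟩, hg x hx⟩
      obtain ⟨y, hy, e⟩ := hxm
      show (ρ (k (ρ (g x) '' (ρ h '' X))))⁻¹ x ∈ X
      generalize ρ (k (ρ (g x) '' (ρ h '' X))) = σ at e ⊢
      rw [← e]
      simpa using hy
    · show (ρ (k _))⁻¹ x ∈ C
      rw [← map_inv]
      exact hC _ x hx
  · rintro ⟨x, Y⟩ ⟨hx, -⟩ ⟨x', Y'⟩ ⟨hx', -⟩ e
    simp only [Prod.mk.injEq] at e
    obtain ⟨e1, e2⟩ := e
    rw [e1] at e2
    obtain rfl := (ρ (k (ρ (g x') '' Y')))⁻¹.injective e2
    rw [(ρ (g x)).injective.image_injective e1]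

theorem card_orb_le {v u : V} (hu : u ∈ X) {O : Set V}
    (hO : ∀ g, ρ g v = v → ∀ x ∈ O, ρ g x ∈ O) (htr : ∀ x ∈ O, ∃ g, ρ g v = v ∧ ρ g u = x) :
    O.ncard ≤ (trsAt ρ X v).ncard * (X ∩ O).ncard := by
  classical
  choose! g hgv hg using htr
  have hrep : ∀ Y ∈ trsAt ρ X v, ∃ k, ρ k v = v ∧ ρ k '' X = Y := fun Y hY => hY
  choose! k hkv hk using hrep
  rw [← Set.ncard_prod]
  refine Set.ncard_le_ncard_of_injOn
    (fun x => (ρ (g x) '' X, (ρ (k (ρ (g x) '' X)))⁻¹ x)) ?_ ?_ (Set.toFinite _)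
  · intro x hx
    have hmem : ρ (g x) '' X ∈ trsAt ρ X v := ⟨g x, hgv x hx, rfl⟩
    refine ⟨hmem, ?_, ?_⟩
    · have hxm : x ∈ ρ (k (ρ (g x) '' X)) '' X := by
        rw [hk _ hmem]
        exact ⟨u, hu, hg x hx⟩
      obtain ⟨y, hy, e⟩ := hxm
      show (ρ (k (ρ (g x) '' X)))⁻¹ x ∈ X
      generalize ρ (k (ρ (g x) '' X)) = σ at e ⊢
      rw [← e]
      simpa using hy
    · show (ρ (k _))⁻¹ x ∈ O
      rw [← map_inv]
      refine hO _ ?_ x hx
      rw [map_inv]
      exact (ρ (k (ρ (g x) '' X))).symm_apply_eq.2 (hkv _ hmem).symm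
  · intro x _ x' _ e
    simp only [Prod.mk.injEq] at e
    obtain ⟨e1, e2⟩ := e
    rw [e1] at e2
    exact (ρ (k (ρ (g x') '' X)))⁻¹.injective e2

theorem one_le_card_trsAt (v : V) : 1 ≤ (trsAt ρ X v).ncard := by
  exact (Set.ncard_pos (Set.toFinite _)).2 ⟨_, 1, by simp, rfl⟩

theorem card_class_le {v : V} (hv : v ∈ X) {C : Set V} (hC : ∀ g, ∀ x ∈ C, ρ g x ∈ C)
    (htr : ∀ x ∈ C, ∃ g, ρ g v = x) : C.ncard ≤ (trs ρ X).ncard * (X ∩ C).ncard :=
  (Nat.le_mul_of_pos_right _ (one_le_card_trsAt ρ X v)).trans (card_class_mul_le ρ X hv hC htr)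

end Translates

/-- SU as permutations of the vectors. -/
def suPerm (m : ℕ) (F : Type*) [Field F] (q : ℕ) : Cfsg.SU m F q →* Equiv.Perm (Fin m → F) :=
  MonoidHom.mk' (fun g => ⟨suAct g, suAct g⁻¹, suAct_inv_suAct g, suAct_suAct_inv g⟩)
    fun g h => Equiv.ext fun x => suAct_mul g h x

omit [Fintype F] in
@[simp] theorem suPerm_apply (g : Cfsg.SU m F q) (x : Vm) : suPerm m F q g x = suAct g x := rfl

/-! ### Classes of vectors -/

/-- Non-zero vectors of norm `t`. -/
def cls (m q : ℕ) (t : F) : Set (Fin m → F) := {x | x ≠ 0 ∧ Cfsg.hermForm m F q x x = t}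

/-- A lower bound for all the classes. -/
def cmin (q m : ℕ) : ℕ := (q ^ m + 1) * (q ^ (m - 1) - 1)

theorem ncard_cls_zero (hF : Fintype.card F = q ^ 2) (m : ℕ) :
    (cls m q (0 : F)).ncard = normCount m q (0 : F) - 1 := by
  rw [show cls m q (0 : F) = {x : Fin m → F | Cfsg.hermForm m F q x x = 0} \ {0} by
    ext x; simp [cls, and_comm], Set.ncard_sdiff_singleton_of_mem (show (0 : Fin m → F) ∈ {x | Cfsg.hermForm m F q x x = 0} from (hermForm_isHerm hF m).zero_left 0)]
  rfl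

theorem ncard_cls (hF : Fintype.card F = q ^ 2) (m : ℕ) {t : F} (ht : t ^ q = t) (h0 : t ≠ 0) :
    (cls m q t).ncard = normCount m q (1 : F) := by
  rw [← normCount_eq_normOne hF m ht h0, show cls m q t = {x : Fin m → F | Cfsg.hermForm m F q x x = t} by
    ext x
    refine ⟨And.right, fun h => ⟨fun hx => h0 ?_, h⟩⟩
    rw [← h, hx, (hermForm_isHerm hF m).zero_left]]
  rfl

theorem cls_zero_eq (hF : Fintype.card F = q ^ 2) (m : ℕ) :
    (cls m q (0 : F)).ncard = if Even m then (q ^ m - 1) * (q ^ (m - 1) + 1) else cmin q m := by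
  rw [ncard_cls_zero hF, isotropic_count hF, Nat.add_sub_cancel]
  rfl

theorem cmin_le_cls (hF : Fintype.card F = q ^ 2) (hm2 : 2 ≤ m) {t : F} (ht : t ^ q = t) :
    cmin q m ≤ (cls m q t).ncard := by
  have hq := two_le_q hF
  obtain ⟨j, rfl⟩ : ∃ j, m = j + 1 := ⟨m - 1, by omega⟩
  have hx : 2 * 2 ^ (0 : ℕ) ≤ q ^ j := by
    have : q ^ 1 ≤ q ^ j := Nat.pow_le_pow_right (by omega) (by omega)
    simp only [pow_one] at this
    omega
  obtain ⟨A, hA⟩ : ∃ A, q ^ j = A + 1 := ⟨q ^ j - 1, by omega⟩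
  have e1 : q ^ (j + 1) = q * (A + 1) := by rw [pow_succ', hA]
  have h1 : 1 ≤ q * (A + 1) := by nlinarith
  by_cases h0 : t = 0
  · rw [h0, cls_zero_eq hF]
    split
    · simp only [cmin, Nat.add_sub_cancel, e1, hA]
      obtain ⟨B, hB⟩ : ∃ B, q * (A + 1) = B + 1 := ⟨q * (A + 1) - 1, by omega⟩
      rw [hB, Nat.add_sub_cancel]
      nlinarith
    · exact le_rfl
  · rw [ncard_cls hF _ ht h0, normOne_count hF]
    simp only [cmin, Nat.add_sub_cancel, e1, hA]
    obtain ⟨B, hB⟩ : ∃ B, q * (A + 1) = B + 1 := ⟨q * (A + 1) - 1, by omega⟩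
    rw [hB, Nat.add_sub_cancel]
    split <;> nlinarith

/-! ### Perpendicular spaces and Witt -/

/-- The vectors orthogonal to a family. -/
def perp (hF : Fintype.card F = q ^ 2) {k : ℕ} (u : Fin k → (Fin m → F)) : Submodule F (Fin m → F) where
  carrier := {x | ∀ i, Cfsg.hermForm m F q x (u i) = 0}
  zero_mem' i := (hermForm_isHerm hF m).zero_left _
  add_mem' := fun {a b} ha hb i => by rw [(hermForm_isHerm hF m).add_left, ha i, hb i, add_zero]
  smul_mem' := fun c a ha i => by rw [(hermForm_isHerm hF m).smul_left, ha i, mul_zero]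

theorem card_perp (hF : Fintype.card F = q ^ 2) {k : ℕ} (u : Fin k → (Fin m → F)) :
    (q ^ 2) ^ m ≤ Nat.card (perp hF u) * (q ^ 2) ^ k := by
  let f : Vm →+ (Fin k → F) :=
    { toFun := fun x i => hm x (u i)
      map_zero' := funext fun i => (hermForm_isHerm hF m).zero_left _
      map_add' := fun a b => funext fun i => (hermForm_isHerm hF m).add_left _ _ _ }
  have e : Nat.card f.ker = Nat.card (perp hF u) :=
    Nat.card_congr (Equiv.subtypeEquivRight fun x => by
      simp [AddMonoidHom.mem_ker, f, funext_iff, perp])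
  rw [← card_V hF m, ← AddSubgroup.card_mul_index f.ker, AddSubgroup.index_ker, e, ← card_V hF k]
  exact Nat.mul_le_mul_left _ (Nat.card_le_card_of_injective _ Subtype.val_injective)

/-- If a submodule has no norm-one vector, it is totally isotropic. -/
theorem ti_or_norm_one (hF : Fintype.card F = q ^ 2) (P : Submodule F Vm) :
    (∃ e ∈ P, hm e e = 1) ∨ ∀ x ∈ P, ∀ y ∈ P, hm x y = 0 := by
  have H := hermForm_isHerm hF m
  by_cases h : ∃ w ∈ P, hm w w ≠ 0
  · obtain ⟨w, hw, hw0⟩ := h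
    obtain ⟨s, hs⟩ := exists_norm_eq hF (c := hm w w) (H.self_fixed w)
    exact Or.inl ⟨s⁻¹ • w, P.smul_mem _ hw, by
      rw [H.smul_left, H.smul_right, ← mul_assoc, ← pow_succ', inv_pow, hs, inv_mul_cancel₀ hw0]⟩
  · simp only [not_exists, not_and, not_not] at h
    exact Or.inr fun x hx y hy =>
      (H.comap P.subtype).eq_zero_of_isotropic hF (fun z => h z z.2) ⟨x, hx⟩ ⟨y, hy⟩

/-- Orthogonal submodules multiply to at most the whole space. -/
theorem card_orth_le (hF : Fintype.card F = q ^ 2) (P B : Submodule F Vm)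
    (h : ∀ x ∈ P, ∀ y ∈ B, hm x y = 0) : Nat.card P * Nat.card B ≤ (q ^ 2) ^ m :=
  pair_bound hF (K := ⊥) bot_ne_top P.toAddSubgroup B.toAddSubgroup
    fun x hx y hy => AddSubgroup.mem_bot.2 (h x hx y hy)

theorem exists_norm_one_perp_one (hF : Fintype.card F = q ^ 2) (hm3 : 3 ≤ m) (v : Vm) :
    ∃ e, hm e e = 1 ∧ hm v e = 0 := by
  have H := hermForm_isHerm hF m
  rcases ti_or_norm_one hF (perp hF (fun _ : Fin 1 => v)) with ⟨e, he, h1⟩ | hti
  · exact ⟨e, h1, (H.eq_zero_symm hF).1 (he 0)⟩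
  exfalso
  have h1 := card_perp hF (fun _ : Fin 1 => v)
  have h2 := card_orth_le hF _ _ hti
  set P := Nat.card (perp hF (fun _ : Fin 1 => v))
  have hQ : 1 < q ^ 2 := Nat.one_lt_pow two_ne_zero (two_le_q hF)
  have h3 : (q ^ 2) ^ (m + m) ≤ (q ^ 2) ^ (m + 2) :=
    calc (q ^ 2) ^ (m + m) = (q ^ 2) ^ m * (q ^ 2) ^ m := pow_add _ _ _
      _ ≤ (P * (q ^ 2) ^ 1) * (P * (q ^ 2) ^ 1) := Nat.mul_le_mul h1 h1
      _ = P * P * (q ^ 2) ^ 2 := by ring
      _ ≤ (q ^ 2) ^ m * (q ^ 2) ^ 2 := Nat.mul_le_mul_right _ h2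
      _ = _ := (pow_add _ _ _).symm
  have := (Nat.pow_le_pow_iff_right hQ).1 h3
  omega

/-- A norm-one vector orthogonal to a non-degenerate pair. -/
theorem exists_norm_one_perp_hyp (hF : Fintype.card F = q ^ 2) (hm3 : 3 ≤ m) {v u : Vm}
    (hv : hm v v = 0) (huv : hm u v ≠ 0) : ∃ e, hm e e = 1 ∧ hm v e = 0 ∧ hm u e = 0 := by
  have H := hermForm_isHerm hF m
  rcases ti_or_norm_one hF (perp hF ![v, u]) with ⟨e, he, h1⟩ | hti
  · exact ⟨e, h1, (H.eq_zero_symm hF).1 (he 0), (H.eq_zero_symm hF).1 (he 1)⟩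
  exfalso
  let φ : (perp hF ![v, u]) × F × F →ₗ[F] Vm :=
    (Submodule.subtype _).coprod ((LinearMap.toSpanSingleton F _ v).coprod
      (LinearMap.toSpanSingleton F _ u))
  have hφ : ∀ p, φ p = (p.1 : Vm) + (p.2.1 • v + p.2.2 • u) := fun p => rfl
  have hinj : Function.Injective φ := by
    rw [← LinearMap.ker_eq_bot, LinearMap.ker_eq_bot']
    rintro ⟨⟨x, hx⟩, α, β⟩ h
    rw [hφ] at h
    have h1 := congrArg (fun z => hm z v) h
    have hxv : hm x v = 0 := hx 0
    have hxu : hm x u = 0 := hx 1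
    simp only [H.add_left, H.smul_left, hxv, hv, H.zero_left, mul_zero, zero_add] at h1
    obtain rfl := (mul_eq_zero.1 h1).resolve_right huv
    have h2 := congrArg (fun z => hm z u) h
    simp only [H.add_left, H.smul_left, hxu, H.zero_left, zero_mul, zero_add, add_zero] at h2
    obtain rfl := (mul_eq_zero.1 h2).resolve_right (fun e => huv ((H.eq_zero_symm hF).1 e))
    simpa [Prod.ext_iff, Subtype.ext_iff] using h
  have h2 := card_orth_le hF (perp hF ![v, u]) (LinearMap.range φ) (by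
    rintro x hx _ ⟨⟨⟨y, hy⟩, α, β⟩, rfl⟩
    have hxv : hm x v = 0 := hx 0
    have hxu : hm x u = 0 := hx 1
    rw [hφ]
    simp [H.add_right hF, H.smul_right, hxv, hxu, hti x hx y hy])
  have e : Nat.card (LinearMap.range φ) = Nat.card (perp hF ![v, u]) * (q ^ 2 * q ^ 2) := by
    rw [← Nat.card_congr (LinearEquiv.ofInjective φ hinj).toEquiv, Nat.card_prod, Nat.card_prod,
      card_F hF]
  rw [e] at h2
  have h1 := card_perp hF ![v, u]
  set P := Nat.card (perp hF ![v, u])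
  have hQ : 1 < q ^ 2 := Nat.one_lt_pow two_ne_zero (two_le_q hF)
  have h3 : (q ^ 2) ^ (m + m) ≤ (q ^ 2) ^ (m + 2) :=
    calc (q ^ 2) ^ (m + m) = (q ^ 2) ^ m * (q ^ 2) ^ m := pow_add _ _ _
      _ ≤ (P * (q ^ 2) ^ 2) * (P * (q ^ 2) ^ 2) := Nat.mul_le_mul h1 h1
      _ = P * (P * (q ^ 2 * q ^ 2)) * (q ^ 2) ^ 2 := by ring
      _ ≤ (q ^ 2) ^ m * (q ^ 2) ^ 2 := Nat.mul_le_mul_right _ h2
      _ = _ := (pow_add _ _ _).symm
  have := (Nat.pow_le_pow_iff_right hQ).1 h3
  omega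

/-- A norm-one vector orthogonal to a pair, in dimension at least four. -/
theorem exists_norm_one_perp_pair (hF : Fintype.card F = q ^ 2) (hm4 : 4 ≤ m) {v u : Vm}
    (huv : hm u v ≠ 0) : ∃ e, hm e e = 1 ∧ hm v e = 0 ∧ hm u e = 0 := by
  have H := hermForm_isHerm hF m
  rcases ti_or_norm_one hF (perp hF ![v, u]) with ⟨e, he, h1⟩ | hti
  · exact ⟨e, h1, (H.eq_zero_symm hF).1 (he 0), (H.eq_zero_symm hF).1 (he 1)⟩
  exfalso
  let B := perp hF ![v, u] ⊔ (F ∙ v)
  have h2 := card_orth_le hF (perp hF ![v, u]) B (by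
    intro x hx y hy
    obtain ⟨a, ha, b, hb, rfl⟩ := Submodule.mem_sup.1 hy
    obtain ⟨c, rfl⟩ := Submodule.mem_span_singleton.1 hb
    rw [H.add_right hF, H.smul_right, hti x hx a ha, show hm x v = 0 from hx 0, mul_zero, add_zero])
  have h1 := card_perp hF ![v, u]
  set P := Nat.card (perp hF ![v, u]) with hP
  have hPpos : 0 < P := Nat.card_pos
  have hQ : 1 < q ^ 2 := Nat.one_lt_pow two_ne_zero (two_le_q hF)
  have h3 : Nat.card B ≤ (q ^ 2) ^ 2 := by
    refine Nat.le_of_mul_le_mul_left ?_ hPpos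
    calc P * Nat.card B ≤ (q ^ 2) ^ m := h2
      _ ≤ P * (q ^ 2) ^ 2 := h1
  have h4 : (q ^ 2) ^ 2 ≤ P := by
    refine Nat.le_of_mul_le_mul_right ?_ (by positivity : 0 < (q ^ 2) ^ 2)
    rw [← pow_add]
    exact (Nat.pow_le_pow_right (by omega) (show 2 + 2 ≤ m by omega)).trans h1
  have h5 : perp hF ![v, u] = B := by
    apply SetLike.coe_injective
    exact Set.eq_of_subset_of_ncard_le (le_sup_left : perp hF ![v, u] ≤ B) (by
      rw [← Nat.card_coe_set_eq, ← Nat.card_coe_set_eq]; exact h3.trans h4)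
  have hv' : v ∈ perp hF ![v, u] := by
    rw [h5]; exact Submodule.mem_sup_right (Submodule.mem_span_singleton_self v)
  exact huv ((H.eq_zero_symm hF).1 (hv' 1))

theorem move_one (hF : Fintype.card F = q ^ 2) (hm3 : 3 ≤ m) {v v' : Vm} (hv : v ≠ 0) (hv' : v' ≠ 0)
    (h : hm v v = hm v' v') : ∃ g : Cfsg.SU m F q, suAct g v = v' := by
  obtain ⟨e, he, hve⟩ := exists_norm_one_perp_one hF hm3 v'
  obtain ⟨g, hg⟩ := exists_su_witt hF (u := fun _ : Fin 1 => v) (w := fun _ => v')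
    (linearIndependent_unique_iff.2 hv) (linearIndependent_unique_iff.2 hv') (fun _ _ => h.symm) he
    (fun _ => hve)
  exact ⟨g, hg 0⟩

/-- The vectors outside the line of `v` with given product with `v` and given norm. -/
def orb (v : Fin m → F) (q : ℕ) (s t : F) : Set (Fin m → F) :=
  {x | Cfsg.hermForm m F q x v = s ∧ Cfsg.hermForm m F q x x = t ∧ ∀ c : F, c • v ≠ x}

omit [Fintype F] in
theorem orb_inv {v x : Vm} {s t : F} {g : Cfsg.SU m F q} (hg : suAct g v = v) (hx : x ∈ orb v q s t) :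
    suAct g x ∈ orb v q s t := by
  obtain ⟨h1, h2, h3⟩ := hx
  refine ⟨?_, (suAct_herm g x x).trans h2, fun c hc => h3 c ?_⟩
  · conv_lhs => rw [← hg]
    exact (suAct_herm g x v).trans h1
  · rw [← suAct_inv_suAct g x, ← hc, suAct_smul, ← hg, suAct_inv_suAct]
    congr 1

theorem move_pair (hF : Fintype.card F = q ^ 2) {v u x : Vm} {s t : F} (hv : v ≠ 0)
    (hu : u ∈ orb v q s t) (hx : x ∈ orb v q s t)
    (he : ∃ e, hm e e = 1 ∧ hm v e = 0 ∧ hm x e = 0) :
    ∃ g : Cfsg.SU m F q, suAct g v = v ∧ suAct g u = x := by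
  obtain ⟨e, he1, he2, he3⟩ := he
  obtain ⟨a1, a2, a3⟩ := hu
  obtain ⟨b1, b2, b3⟩ := hx
  have H := hermForm_isHerm hF m
  obtain ⟨g, hg⟩ := exists_su_witt hF (u := ![v, u]) (w := ![v, x])
    ((LinearIndependent.pair_iff' hv).2 a3) ((LinearIndependent.pair_iff' hv).2 b3)
    (fun i j => by
      fin_cases i <;> fin_cases j <;>
        simp [a1, a2, b1, b2, H.conj_symm u v, H.conj_symm x v]) he1
    (fun i => by fin_cases i <;> simp [he2, he3])
  exact ⟨g, hg 0, hg 1⟩

theorem card_trace_fibre (hF : Fintype.card F = q ^ 2) {c r : F} (hc : c ≠ 0) (hr : r ^ q = r) :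
    Nat.card {α : F // α * c + (α * c) ^ q = r} = q := by
  obtain ⟨t, ht⟩ := exists_trace_eq hF hr
  refine Eq.trans ?_ (card_trace_zero hF)
  refine Nat.card_congr
    { toFun := fun α => ⟨α.1 * c - t, ?_⟩
      invFun := fun x => ⟨(x.1 + t) / c, ?_⟩
      left_inv := fun α => Subtype.ext (by show (α.1 * c - t + t) / c = α.1; field_simp; ring)
      right_inv := fun x => Subtype.ext (by show (x.1 + t) / c * c - t = x.1; field_simp; ring) }
  · rw [sub_pow_q hF]; linear_combination α.2 - ht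
  · rw [div_mul_cancel₀ _ hc, add_pow_q hF]; linear_combination x.2 + ht

theorem orb_lower_iso (hF : Fintype.card F = q ^ 2) (hm2 : 2 ≤ m) {v u : Vm} (hv : hm v v = 0)
    (huv : hm u v ≠ 0) :
    (q ^ 2) ^ (m - 2) * q ≤ (orb v q (hm u v) (hm u u)).ncard := by
  classical
  have H := hermForm_isHerm hF m
  have hc : (hm u v) ^ q ≠ 0 := fun e => huv ((pow_q_eq_zero hF).1 e)
  let T := Σ y : perp hF ![v, u],
    {α : F // α * (hm u v) ^ q + (α * (hm u v) ^ q) ^ q = -hm (y : Vm) (y : Vm)}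
  have hT : Nat.card T = Nat.card (perp hF ![v, u]) * q := by
    rw [Nat.card_sigma, Finset.sum_congr rfl (g := fun _ => q) fun y _ =>
      card_trace_fibre hF hc (by rw [neg_pow_q hF, H.self_fixed]), Finset.sum_const, smul_eq_mul,
      Finset.card_univ, ← Nat.card_eq_fintype_card]
  have hmem : ∀ p : T, u + p.2.1 • v + (p.1 : Vm) ∈ orb v q (hm u v) (hm u u) := by
    rintro ⟨⟨y, hy⟩, α, hα⟩
    have hyv : hm y v = 0 := hy 0
    have hyu : hm y u = 0 := hy 1
    have hvy := (H.eq_zero_symm hF).1 hyv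
    have huy := (H.eq_zero_symm hF).1 hyu
    refine ⟨?_, ?_, fun c hc' => huv ?_⟩
    · simp only [H.add_left, H.smul_left, hv, hyv, mul_zero, add_zero]
    · simp only [H.add_left, H.add_right hF, H.smul_left, H.smul_right, hv, hyv, hvy, hyu, huy,
        H.conj_symm u v]
      rw [mul_pow, pow_q_pow_q hF] at hα
      linear_combination hα
    · have := congrArg (fun z => hm z v) hc'
      simp only [H.smul_left, H.add_left, hv, hyv, mul_zero, add_zero] at this
      exact this.symm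
  have hinj : Function.Injective fun p : T => u + p.2.1 • v + (p.1 : Vm) := by
    rintro ⟨⟨y, hy⟩, α, hα⟩ ⟨⟨y', hy'⟩, α', hα'⟩ h
    dsimp only at h
    have hyu : hm y u = 0 := hy 1
    have hyu' : hm y' u = 0 := hy' 1
    have h1 := congrArg (fun z => hm z u) h
    simp only [H.add_left, H.smul_left, hyu, hyu', add_zero, add_right_inj] at h1
    obtain rfl := mul_right_cancel₀ (by rw [H.conj_symm u v]; exact hc) h1
    obtain rfl := add_left_cancel h
    rfl
  have h1 : Nat.card T ≤ (orb v q (hm u v) (hm u u)).ncard := by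
    rw [← Nat.card_coe_set_eq]
    exact Nat.card_le_card_of_injective (fun p => ⟨_, hmem p⟩)
      fun p p' h => hinj (congrArg Subtype.val h)
  refine le_trans ?_ h1
  rw [hT]
  refine Nat.mul_le_mul_right q (Nat.le_of_mul_le_mul_right ?_
    (by have := two_le_q hF; positivity : 0 < (q ^ 2) ^ 2))
  rw [← pow_add, Nat.sub_add_cancel hm2]
  exact card_perp hF ![v, u]

theorem orb_lower_aniso (hF : Fintype.card F = q ^ 2) (hm3 : 3 ≤ m) {v : Vm} (hv : hm v v ≠ 0)
    {s t : F} (ht : t ^ q = t) : cmin q (m - 1) ≤ (orb v q s t).ncard := by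
  have H := hermForm_isHerm hF m
  obtain ⟨r, hr⟩ := exists_norm_eq hF (c := hm v v) (H.self_fixed v)
  have hr0 : r ≠ 0 := fun h => hv (by rw [← hr, h, zero_pow (Nat.succ_ne_zero q)])
  let b : Fin 1 → Vm := fun _ => r⁻¹ • v
  have hb : Orthonormal (Cfsg.hermForm m F q) b :=
    ⟨fun _ => by
      rw [H.smul_left, H.smul_right, ← mul_assoc, ← pow_succ', inv_pow, hr, inv_mul_cancel₀ hv],
      fun i j hij => absurd (Subsingleton.elim i j) hij⟩
  set t' := t - s ^ (q + 1) / hm v v with ht'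
  have ht'q : t' ^ q = t' := by
    rw [ht', sub_pow_q hF, div_pow, pow_q_succ_fixed hF, ht, H.self_fixed]
  have hcount := orthonormal_next hF (show 1 ≤ m by omega) hb t'
  let C : Set Vm := {y | y ≠ 0 ∧ hm y y = t' ∧ hm y v = 0}
  have hC : cmin q (m - 1) ≤ C.ncard := by
    refine le_trans (cmin_le_cls hF (by omega) ht'q) ?_
    have e : {y : Vm | hm y y = t' ∧ ∀ i, hm y (b i) = 0} = {y | hm y y = t' ∧ hm y v = 0} := by
      ext y
      simp [b, H.smul_right, pow_q_eq_zero hF, hr0]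
    change Set.ncard {y : Vm | hm y y = t' ∧ ∀ i, hm y (b i) = 0} = _ at hcount
    rw [e] at hcount
    by_cases h0 : t' = 0
    · have e2 : C = {y | hm y y = t' ∧ hm y v = 0} \ {0} := by
        ext y; simp [C]; tauto
      rw [e2, Set.ncard_sdiff_singleton_of_mem (by simp [h0, H.zero_left]), hcount, h0,
        ncard_cls_zero hF]
    · have e2 : C = {y | hm y y = t' ∧ hm y v = 0} := by
        ext y
        refine ⟨And.right, fun h => ⟨fun hy => h0 ?_, h⟩⟩
        rw [← h.1, hy, H.zero_left]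
      rw [e2, hcount, ncard_cls hF _ ht'q h0, normCount_eq_normOne hF _ ht'q h0]
  refine hC.trans (Set.ncard_le_ncard_of_injOn (fun y => (s / hm v v) • v + y) ?_
    (fun a _ b _ h => add_left_cancel h) (Set.toFinite _))
  rintro y ⟨hy0, hyy, hyv⟩
  have hvy := (H.eq_zero_symm hF).1 hyv
  refine ⟨?_, ?_, fun c hc => hy0 ?_⟩
  · rw [H.add_left, H.smul_left, hyv, add_zero, div_mul_cancel₀ _ hv]
  · simp only [H.add_left, H.add_right hF, H.smul_left, H.smul_right, hyv, hvy, hyy, ht']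
    rw [div_pow, H.self_fixed v, pow_succ']
    field_simp
    ring
  · have h1 := congrArg (fun z => hm z v) hc
    simp only [H.add_left, H.smul_left, hyv, add_zero] at h1
    have hcs : c = s / hm v v := mul_right_cancel₀ hv h1
    rw [hcs] at hc
    simpa using hc

end Cfsg.Agent.MinIndexU
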