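import Cfsg.Agent.Lib.Aschbacher.SU3Table
/-
An orbit of 105 points of the unitary plane over 25 elements, and 72 monomial matrices.
* genW, orbPt, orbPar, orb_step, orbPt_normal, orbPt_injective; sixW, monW, monW_su, monW_mono, monW_injective
-/
set_option autoImplicit false

namespace Cfsg.Agent.MinIndexU.U35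

open Cfsg.Agent.Aschbacher.SU3

/-- The three generators. -/
def genW : Fin 3 → Fin 3 → Fin 3 → K25 := ![aW, xW, yW]

/-- The points of the orbit of the first coordinate point. -/
def orbList : List (Fin 3 → K25) := [
    ![⟨1, 0⟩, ⟨0, 0⟩, ⟨0, 0⟩], ![⟨1, 0⟩, ⟨3, 0⟩, ⟨3, 0⟩], ![⟨1, 0⟩, ⟨1, 4⟩, ⟨2, 2⟩], ![⟨1, 0⟩, ⟨3, 3⟩, ⟨1, 4⟩],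
    ![⟨0, 0⟩, ⟨1, 0⟩, ⟨0, 0⟩], ![⟨1, 0⟩, ⟨2, 3⟩, ⟨0, 0⟩], ![⟨1, 0⟩, ⟨0, 0⟩, ⟨3, 3⟩], ![⟨0, 0⟩, ⟨1, 0⟩, ⟨1, 0⟩],
    ![⟨1, 0⟩, ⟨2, 2⟩, ⟨1, 4⟩], ![⟨1, 0⟩, ⟨1, 3⟩, ⟨4, 3⟩], ![⟨1, 0⟩, ⟨2, 1⟩, ⟨2, 3⟩], ![⟨1, 0⟩, ⟨1, 4⟩, ⟨3, 3⟩],
    ![⟨1, 0⟩, ⟨2, 0⟩, ⟨1, 0⟩], ![⟨1, 0⟩, ⟨4, 1⟩, ⟨1, 1⟩], ![⟨1, 0⟩, ⟨4, 4⟩, ⟨4, 1⟩], ![⟨1, 0⟩, ⟨3, 3⟩, ⟨3, 1⟩],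
    ![⟨1, 0⟩, ⟨2, 2⟩, ⟨2, 4⟩], ![⟨1, 0⟩, ⟨0, 0⟩, ⟨2, 3⟩], ![⟨1, 0⟩, ⟨3, 0⟩, ⟨2, 0⟩], ![⟨1, 0⟩, ⟨2, 2⟩, ⟨2, 3⟩],
    ![⟨1, 0⟩, ⟨4, 0⟩, ⟨4, 0⟩], ![⟨1, 0⟩, ⟨2, 3⟩, ⟨2, 2⟩], ![⟨1, 0⟩, ⟨1, 0⟩, ⟨0, 3⟩], ![⟨1, 0⟩, ⟨3, 3⟩, ⟨0, 0⟩],
    ![⟨1, 0⟩, ⟨2, 2⟩, ⟨0, 0⟩], ![⟨1, 0⟩, ⟨0, 1⟩, ⟨0, 1⟩], ![⟨1, 0⟩, ⟨2, 2⟩, ⟨4, 1⟩], ![⟨1, 0⟩, ⟨3, 0⟩, ⟨1, 0⟩],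
    ![⟨1, 0⟩, ⟨3, 3⟩, ⟨4, 1⟩], ![⟨1, 0⟩, ⟨1, 2⟩, ⟨1, 3⟩], ![⟨1, 0⟩, ⟨4, 3⟩, ⟨1, 3⟩], ![⟨1, 0⟩, ⟨0, 3⟩, ⟨1, 0⟩],
    ![⟨1, 0⟩, ⟨3, 2⟩, ⟨3, 4⟩], ![⟨1, 0⟩, ⟨3, 1⟩, ⟨2, 2⟩], ![⟨1, 0⟩, ⟨0, 4⟩, ⟨0, 1⟩], ![⟨1, 0⟩, ⟨1, 1⟩, ⟨4, 1⟩],
    ![⟨0, 0⟩, ⟨1, 0⟩, ⟨3, 3⟩], ![⟨1, 0⟩, ⟨0, 0⟩, ⟨3, 2⟩], ![⟨1, 0⟩, ⟨3, 2⟩, ⟨1, 1⟩], ![⟨1, 0⟩, ⟨4, 0⟩, ⟨0, 0⟩],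
    ![⟨1, 0⟩, ⟨1, 0⟩, ⟨3, 0⟩], ![⟨1, 0⟩, ⟨4, 4⟩, ⟨3, 2⟩], ![⟨1, 0⟩, ⟨2, 4⟩, ⟨2, 2⟩], ![⟨1, 0⟩, ⟨3, 1⟩, ⟨3, 3⟩],
    ![⟨1, 0⟩, ⟨0, 4⟩, ⟨0, 4⟩], ![⟨1, 0⟩, ⟨2, 0⟩, ⟨4, 0⟩], ![⟨1, 0⟩, ⟨4, 1⟩, ⟨4, 4⟩], ![⟨1, 0⟩, ⟨1, 2⟩, ⟨4, 2⟩],
    ![⟨1, 0⟩, ⟨3, 3⟩, ⟨2, 3⟩], ![⟨1, 0⟩, ⟨2, 2⟩, ⟨3, 1⟩], ![⟨1, 0⟩, ⟨0, 0⟩, ⟨2, 2⟩], ![⟨1, 0⟩, ⟨3, 2⟩, ⟨3, 3⟩],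
    ![⟨1, 0⟩, ⟨4, 0⟩, ⟨1, 0⟩], ![⟨1, 0⟩, ⟨1, 0⟩, ⟨0, 2⟩], ![⟨1, 0⟩, ⟨2, 3⟩, ⟨4, 4⟩], ![⟨1, 0⟩, ⟨4, 0⟩, ⟨2, 0⟩],
    ![⟨1, 0⟩, ⟨4, 0⟩, ⟨0, 2⟩], ![⟨1, 0⟩, ⟨1, 4⟩, ⟨4, 4⟩], ![⟨1, 0⟩, ⟨1, 3⟩, ⟨1, 2⟩], ![⟨1, 0⟩, ⟨0, 0⟩, ⟨1, 0⟩],
    ![⟨1, 0⟩, ⟨2, 1⟩, ⟨3, 2⟩], ![⟨1, 0⟩, ⟨0, 2⟩, ⟨1, 0⟩], ![⟨1, 0⟩, ⟨1, 0⟩, ⟨1, 0⟩], ![⟨1, 0⟩, ⟨4, 4⟩, ⟨2, 3⟩],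
    ![⟨1, 0⟩, ⟨1, 1⟩, ⟨2, 3⟩], ![⟨1, 0⟩, ⟨4, 3⟩, ⟨4, 2⟩], ![⟨1, 0⟩, ⟨3, 3⟩, ⟨2, 4⟩], ![⟨0, 0⟩, ⟨1, 0⟩, ⟨4, 0⟩],
    ![⟨1, 0⟩, ⟨3, 2⟩, ⟨4, 4⟩], ![⟨0, 0⟩, ⟨1, 0⟩, ⟨3, 2⟩], ![⟨1, 0⟩, ⟨0, 0⟩, ⟨4, 0⟩], ![⟨0, 0⟩, ⟨0, 0⟩, ⟨1, 0⟩],
    ![⟨1, 0⟩, ⟨1, 0⟩, ⟨2, 0⟩], ![⟨1, 0⟩, ⟨0, 2⟩, ⟨4, 0⟩], ![⟨1, 0⟩, ⟨3, 4⟩, ⟨2, 3⟩], ![⟨1, 0⟩, ⟨1, 1⟩, ⟨3, 2⟩],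
    ![⟨1, 0⟩, ⟨3, 4⟩, ⟨3, 2⟩], ![⟨1, 0⟩, ⟨4, 2⟩, ⟨1, 2⟩], ![⟨1, 0⟩, ⟨3, 3⟩, ⟨3, 2⟩], ![⟨1, 0⟩, ⟨3, 2⟩, ⟨2, 1⟩],
    ![⟨1, 0⟩, ⟨4, 4⟩, ⟨1, 4⟩], ![⟨1, 0⟩, ⟨2, 0⟩, ⟨3, 0⟩], ![⟨1, 0⟩, ⟨4, 1⟩, ⟨3, 3⟩], ![⟨1, 0⟩, ⟨2, 3⟩, ⟨3, 3⟩],
    ![⟨1, 0⟩, ⟨2, 3⟩, ⟨1, 1⟩], ![⟨1, 0⟩, ⟨2, 3⟩, ⟨3, 4⟩], ![⟨1, 0⟩, ⟨2, 3⟩, ⟨2, 1⟩], ![⟨1, 0⟩, ⟨1, 4⟩, ⟨1, 1⟩],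
    ![⟨1, 0⟩, ⟨2, 4⟩, ⟨3, 3⟩], ![⟨1, 0⟩, ⟨3, 2⟩, ⟨2, 2⟩], ![⟨1, 0⟩, ⟨4, 1⟩, ⟨2, 2⟩], ![⟨1, 0⟩, ⟨4, 0⟩, ⟨0, 3⟩],
    ![⟨0, 0⟩, ⟨1, 0⟩, ⟨2, 2⟩], ![⟨1, 0⟩, ⟨0, 1⟩, ⟨0, 4⟩], ![⟨0, 0⟩, ⟨1, 0⟩, ⟨2, 3⟩], ![⟨1, 0⟩, ⟨2, 2⟩, ⟨3, 2⟩],
    ![⟨1, 0⟩, ⟨1, 1⟩, ⟨1, 4⟩], ![⟨1, 0⟩, ⟨4, 2⟩, ⟨4, 3⟩], ![⟨1, 0⟩, ⟨0, 3⟩, ⟨4, 0⟩], ![⟨1, 0⟩, ⟨3, 2⟩, ⟨0, 0⟩],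
    ![⟨1, 0⟩, ⟨1, 0⟩, ⟨0, 0⟩], ![⟨1, 0⟩, ⟨3, 0⟩, ⟨4, 0⟩], ![⟨1, 0⟩, ⟨2, 0⟩, ⟨2, 0⟩], ![⟨1, 0⟩, ⟨1, 0⟩, ⟨4, 0⟩],
    ![⟨1, 0⟩, ⟨4, 0⟩, ⟨3, 0⟩]]

/-- Predecessor, generator and scalar. -/
def parList : List (ℕ × Fin 3 × K25) := [
    (0, 0, ⟨1, 0⟩), (0, 0, ⟨3, 0⟩), (0, 1, ⟨4, 0⟩), (0, 2, ⟨4, 0⟩), (1, 1, ⟨1, 4⟩), (1, 2, ⟨2, 1⟩),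
    (2, 0, ⟨0, 4⟩), (2, 1, ⟨1, 2⟩), (2, 2, ⟨1, 0⟩), (3, 0, ⟨4, 3⟩), (3, 1, ⟨2, 0⟩), (3, 2, ⟨1, 0⟩),
    (4, 0, ⟨4, 0⟩), (4, 1, ⟨3, 0⟩), (4, 2, ⟨4, 4⟩), (5, 0, ⟨1, 2⟩), (5, 1, ⟨0, 4⟩), (5, 2, ⟨1, 0⟩),
    (6, 1, ⟨1, 2⟩), (6, 2, ⟨3, 0⟩), (7, 0, ⟨3, 0⟩), (7, 1, ⟨2, 0⟩), (7, 2, ⟨1, 2⟩), (8, 0, ⟨0, 4⟩),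
    (8, 1, ⟨4, 2⟩), (8, 2, ⟨4, 2⟩), (9, 1, ⟨3, 1⟩), (9, 2, ⟨3, 4⟩), (10, 0, ⟨4, 1⟩), (10, 2, ⟨2, 4⟩),
    (11, 0, ⟨4, 3⟩), (11, 1, ⟨4, 4⟩), (12, 2, ⟨4, 1⟩), (13, 0, ⟨3, 3⟩), (13, 1, ⟨0, 2⟩), (13, 2, ⟨1, 0⟩),
    (14, 0, ⟨2, 1⟩), (14, 1, ⟨2, 1⟩), (14, 2, ⟨1, 1⟩), (15, 1, ⟨0, 3⟩), (15, 2, ⟨2, 0⟩), (16, 0, ⟨4, 4⟩),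
    (16, 2, ⟨1, 0⟩), (17, 0, ⟨1, 2⟩), (17, 1, ⟨2, 2⟩), (18, 0, ⟨3, 0⟩), (18, 1, ⟨1, 0⟩), (18, 2, ⟨0, 3⟩),
    (19, 1, ⟨3, 3⟩), (19, 2, ⟨0, 3⟩), (20, 1, ⟨2, 0⟩), (20, 2, ⟨3, 3⟩), (21, 1, ⟨3, 2⟩), (22, 0, ⟨2, 2⟩),
    (26, 0, ⟨2, 2⟩), (26, 1, ⟨1, 0⟩), (26, 2, ⟨2, 0⟩), (27, 1, ⟨2, 0⟩), (28, 1, ⟨4, 3⟩), (28, 2, ⟨4, 3⟩),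
    (29, 1, ⟨1, 3⟩), (31, 0, ⟨2, 2⟩), (34, 1, ⟨4, 1⟩), (36, 1, ⟨0, 2⟩), (37, 0, ⟨0, 3⟩), (37, 2, ⟨2, 3⟩),
    (41, 1, ⟨3, 0⟩), (41, 2, ⟨4, 3⟩), (42, 0, ⟨4, 4⟩), (45, 2, ⟨0, 1⟩), (46, 1, ⟨2, 4⟩), (46, 2, ⟨1, 4⟩),
    (47, 1, ⟨3, 4⟩), (48, 0, ⟨3, 4⟩), (48, 2, ⟨2, 1⟩), (49, 1, ⟨2, 0⟩), (50, 0, ⟨1, 3⟩), (50, 1, ⟨2, 3⟩),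
    (51, 2, ⟨1, 0⟩), (53, 1, ⟨2, 3⟩), (54, 2, ⟨3, 0⟩), (55, 0, ⟨2, 0⟩), (55, 1, ⟨4, 0⟩), (56, 0, ⟨4, 3⟩),
    (56, 2, ⟨2, 0⟩), (57, 0, ⟨3, 2⟩), (58, 2, ⟨1, 3⟩), (59, 2, ⟨1, 3⟩), (60, 0, ⟨3, 2⟩), (62, 1, ⟨1, 0⟩),
    (63, 0, ⟨2, 3⟩), (63, 2, ⟨4, 4⟩), (64, 1, ⟨4, 3⟩), (68, 1, ⟨4, 2⟩), (70, 1, ⟨2, 3⟩), (73, 1, ⟨0, 1⟩),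
    (77, 1, ⟨0, 4⟩), (80, 1, ⟨0, 3⟩), (80, 2, ⟨3, 3⟩), (84, 0, ⟨0, 1⟩), (84, 1, ⟨4, 3⟩), (85, 1, ⟨2, 0⟩),
    (86, 1, ⟨3, 3⟩), (86, 2, ⟨1, 3⟩), (99, 1, ⟨3, 1⟩)]

/-- The list of points as a function. -/
def orbPt (i : Fin 105) : Fin 3 → K25 := orbList.getD i 0

/-- The list of predecessors as a function. -/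
def orbPar (i : Fin 105) : ℕ × Fin 3 × K25 := parList.getD i (0, 0, 1)

theorem orb_zero : ∀ a, orbPt 0 a = if a = 0 then 1 else 0 := by decide +kernel

theorem orb_step : ∀ i : Fin 105, i ≠ 0 → ∃ h : (orbPar i).1 < 105, (orbPar i).1 < i.1 ∧
    ∀ a, mv (genW (orbPar i).2.1) (orbPt ⟨(orbPar i).1, h⟩) a = (orbPar i).2.2 * orbPt i a := by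
  decide +kernel

theorem orb_normal : ∀ i : Fin 105, orbPt i 0 = 1 ∨ (orbPt i 0 = 0 ∧
    (orbPt i 1 = 1 ∨ (orbPt i 1 = 0 ∧ orbPt i 2 = 1))) := by decide +kernel

theorem orb_injective : ∀ i j : Fin 105, (∀ a, orbPt i a = orbPt j a) → i = j := by decide +kernel

/-- The sixth roots of one. -/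
def sixW : Fin 6 → K25 := ![⟨1, 0⟩, ⟨2, 2⟩, ⟨2, 3⟩, ⟨3, 2⟩, ⟨3, 3⟩, ⟨4, 0⟩]

/-- The monomial matrices fixing the first coordinate point. -/
def monW : Fin 6 × Fin 6 × Bool → Fin 3 → Fin 3 → K25 := fun p =>
  let a := sixW p.1
  let b := sixW p.2.1
  let c := K25.conj (a * b)
  bif p.2.2 then ![![⟨4, 0⟩ * a, 0, 0], ![0, 0, b], ![0, c, 0]] else ![![a, 0, 0], ![0, b, 0], ![0, 0, c]]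

theorem monW_su : ∀ p, isSU (monW p) := by decide +kernel

theorem monW_mono : ∀ p, (monW p 1 0 = 0 ∧ monW p 2 0 = 0) ∧
    ∀ j, ∃ i, ∀ l, l ≠ i → monW p l j = 0 := by decide +kernel

theorem monW_injective : ∀ p p', (∀ i j, monW p i j = monW p' i j) → p = p' := by decide +kernel

theorem gen_su : ∀ t, isSU (genW t) := by decide +kernel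

theorem gen_keeps : ∀ t, Keeps (phiA K25.conj) (genW t) := by decide +kernel

end Cfsg.Agent.MinIndexU.U35
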