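import Cfsg.Agent.Lib.MinIndexU.ThreeFive
import Cfsg.Agent.Lib.MinIndexU.FiftyData
import Cfsg.Agent.Lib.Aschbacher.SU3Points
import Cfsg.Agent.Lib.Aschbacher.SU3NotLe
/-
A subgroup of index fifty in PSU_3(5): the stabiliser of a set of 105 points.
* keepA, orbit_elts, card_keepA_ge, exists_index_fifty
-/
set_option autoImplicit false

namespace Cfsg.Agent.MinIndexU.U35

open Cfsg.Agent.Unitary
open Cfsg.Agent.Aschbacher.SU3
open scoped Matrix

variable {F : Type*} [Field F] [Fintype F]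

/-- The special unitary matrices keeping the point set. -/
noncomputable def keepA (F : Type*) [Field F] : Subgroup (Cfsg.SU 3 F 5) :=
  (Aschbacher.SU3.stab (phiA fun x : F => x ^ 5)).comap
    ((Matrix.SpecialLinearGroup.toGL (n := Fin 3) (R := F)).comp (Cfsg.SU 3 F 5).subtype)

variable (hF : Fintype.card F = 5 ^ 2) (S : K25.Sem F)
include hF

theorem exists_su_mat {g : Fin 3 → Fin 3 → K25} (hg : isSU g) :
    ∃ A : Cfsg.SU 3 F 5, ((A : Matrix.SpecialLinearGroup (Fin 3) F) : Matrix (Fin 3) (Fin 3) F) = evM S g := by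
  obtain ⟨G, hG, hGm⟩ := Aschbacher.SU3.exists_su S hF hg
  rw [← su_toGL_range] at hGm
  obtain ⟨A, hA, rfl⟩ := hGm
  exact ⟨⟨A, hA⟩, hG⟩

theorem orbit_elts (i : Fin 105) : ∃ A ∈ keepA F, ∃ c : F, c ≠ 0 ∧
    suAct A (S.ev ∘ orbPt 0) = c • (S.ev ∘ orbPt i) := by
  suffices ∀ n : ℕ, ∀ i : Fin 105, i.1 = n → ∃ A ∈ keepA F, ∃ c : F, c ≠ 0 ∧
      suAct A (S.ev ∘ orbPt 0) = c • (S.ev ∘ orbPt i) from this i.1 i rfl
  intro n
  induction n using Nat.strong_induction_on with
  | _ n ih =>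
    intro i hi
    by_cases h0 : i = 0
    · exact ⟨1, one_mem _, 1, one_ne_zero, by rw [h0, suAct_one, one_smul]⟩
    obtain ⟨hlt, hdec, hstep⟩ := orb_step i h0
    obtain ⟨A, hA, c, hc, hAc⟩ := ih _ (by rw [← hi]; exact hdec) ⟨_, hlt⟩ rfl
    obtain ⟨B, hB⟩ := exists_su_mat hF S (gen_su (orbPar i).2.1)
    have hBk : B ∈ keepA F :=
      ev_mem_stab S hF (phiA_ev S) (phiA_smul hF) (gen_keeps _) (G := Matrix.SpecialLinearGroup.toGL B.1) hB
    have hBp : suAct B (S.ev ∘ orbPt ⟨_, hlt⟩) = S.ev (orbPar i).2.2 • (S.ev ∘ orbPt i) := by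
      rw [suAct, hB, evM_mulVec]
      funext a
      simp [hstep a, ev_mul]
    refine ⟨B * A, mul_mem hBk hA, c * S.ev (orbPar i).2.2, mul_ne_zero hc fun h => ?_, ?_⟩
    · rw [h, zero_smul] at hBp
      have hv := suAct_inv_suAct B (S.ev ∘ orbPt ⟨_, hlt⟩)
      rw [hBp, suAct_zero] at hv
      rcases orb_normal ⟨_, hlt⟩ with h1 | ⟨-, h1 | ⟨-, h1⟩⟩ <;>
      · have := congrFun hv.symm
        simp only [Function.comp_apply, Pi.zero_apply] at this
        exact one_ne_zero (α := F) (by rw [← ev_one S, ← h1]; exact this _)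
    · rw [suAct_mul, hAc, suAct_smul, hBp, smul_smul]

include S in
theorem card_keepA_ge : 7560 ≤ Nat.card (keepA F) := by
  choose R hR c hc hRc using fun i => orbit_elts hF S i
  choose M hM using fun p => exists_su_mat hF S (monW_su p)
  have hMk : ∀ p, M p ∈ keepA F := by
    intro p
    refine monomial_mem_stab (G := Matrix.SpecialLinearGroup.toGL (M p).1) hF ?_ fun j => ?_
    · rw [← su_toGL_range]; exact ⟨_, (M p).2, rfl⟩
    · obtain ⟨i, hi⟩ := (monW_mono p).2 j
      refine ⟨i, fun l hl => ?_⟩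
      show ((M p : Matrix.SpecialLinearGroup (Fin 3) F) : Matrix _ _ F) l j = 0
      rw [hM p]
      simp [evM, hi l hl, ev_zero]
  have hMe : ∀ p, suAct (M p) (S.ev ∘ orbPt 0) = S.ev (monW p 0 0) • (S.ev ∘ orbPt 0) := by
    intro p
    obtain ⟨h1, h2⟩ := (monW_mono p).1
    rw [suAct, hM p]
    funext a
    fin_cases a <;>
      simp [evM, Matrix.mulVec, dotProduct, Fin.sum_univ_three, orb_zero, h1, h2, ev_zero, ev_one]
  have h105 : Nat.card (Fin 105 × (Fin 6 × Fin 6 × Bool)) = 7560 := by simp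
  rw [← h105]
  refine Nat.card_le_card_of_injective (fun x => ⟨R x.1 * M x.2, mul_mem (hR x.1) (hMk x.2)⟩) ?_
  rintro ⟨i, p⟩ ⟨j, p'⟩ h
  have h' : R i * M p = R j * M p' := congrArg Subtype.val h
  have hv := congrArg (fun A => suAct A (S.ev ∘ orbPt 0)) h'
  simp only [suAct_mul, hMe, suAct_smul, hRc, smul_smul] at hv
  set α := S.ev (monW p 0 0) * c i with hα
  set β := S.ev (monW p' 0 0) * c j with hβ
  have hne : ∀ (i : Fin 105) (p : Fin 6 × Fin 6 × Bool), S.ev (monW p 0 0) * c i ≠ 0 := by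
    intro i p h0
    have h1 : suAct (R i * M p) (S.ev ∘ orbPt 0) = 0 := by
      rw [suAct_mul, hMe, suAct_smul, hRc, smul_smul, h0, zero_smul]
    have := suAct_inv_suAct (R i * M p) (S.ev ∘ orbPt 0)
    rw [h1, suAct_zero] at this
    have h2 := congrFun this.symm 0
    simp [orb_zero, ev_one] at h2
  have hw : ∀ a, α * S.ev (orbPt i a) = β * S.ev (orbPt j a) := fun a => congrFun hv a
  have hαβ : α = β := by
    have e0 := hw 0
    have e1 := hw 1
    have e2 := hw 2
    have hα0 : α ≠ 0 := hne i p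
    have hβ0 : β ≠ 0 := hne j p'
    rcases orb_normal i with hi | ⟨hi, hi' | ⟨hi', hi''⟩⟩ <;>
      rcases orb_normal j with hj | ⟨hj, hj' | ⟨hj', hj''⟩⟩ <;> simp_all [ev_one, ev_zero]
  obtain rfl : i = j := orb_injective i j fun a =>
    ev_injective S (mul_left_cancel₀ (hne i p) ((hw a).trans (by rw [← hαβ])))
  obtain rfl : p = p' := monW_injective p p' fun a b => by
    have := mul_left_cancel h'
    have e := congrArg (fun A : Cfsg.SU 3 F 5 =>
      ((A : Matrix.SpecialLinearGroup (Fin 3) F) : Matrix (Fin 3) (Fin 3) F) a b) this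
    simp only [hM, evM, Matrix.of_apply] at e
    exact ev_injective S e
  rfl

omit S in
theorem exists_index_fifty : ∃ H : Subgroup (Cfsg.PSU 3 F 5), H.index = 50 := by
  obtain ⟨S⟩ := exists_sem hF
  have hcard : Nat.card (Cfsg.SU 3 F 5) = 378000 := by
    have h := card_SU hF 3 (by norm_num)
    simp [Finset.prod_range_succ] at h
    omega
  have hK : (keepA F).index ≤ 50 := by
    have h1 := (keepA F).card_mul_index
    rw [hcard] at h1
    have h2 := card_keepA_ge hF S
    by_contra hlt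
    have := Nat.mul_le_mul h2 (Nat.succ_le_of_lt (not_le.1 hlt))
    omega
  have hne : keepA F ≠ ⊤ := by
    intro h
    obtain ⟨G, hG, hG1, -⟩ := exists_not_mem_stab hF
    rw [← su_toGL_range] at hG
    obtain ⟨A, hA, rfl⟩ := hG
    exact hG1 (show (⟨A, hA⟩ : Cfsg.SU 3 F 5) ∈ keepA F from h ▸ Subgroup.mem_top _)
  have hZ : Subgroup.center (Cfsg.SU 3 F 5) ≤ keepA F := by
    intro z hz v
    obtain ⟨c, hc⟩ := (mem_center_SU_iff hF (by norm_num) z).1 hz
    have hc0 : c ≠ 0 := fun h => by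
      have := (z : Matrix.SpecialLinearGroup (Fin 3) F).2
      rw [hc, h] at this
      simp at this
    show phiA _ (((z : Matrix.SpecialLinearGroup (Fin 3) F) : Matrix (Fin 3) (Fin 3) F) *ᵥ v) ↔ _
    rw [hc, Matrix.scalar_apply, show Matrix.diagonal (fun _ => c) *ᵥ v = c • v by
      funext i; simp [Matrix.mulVec_diagonal]]
    exact phiA_smul hF c hc0 v
  refine ⟨(keepA F).map (QuotientGroup.mk' _), ?_⟩
  have hi : ((keepA F).map (QuotientGroup.mk' (Subgroup.center (Cfsg.SU 3 F 5)))).index = (keepA F).index :=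
    Subgroup.index_map_eq _ (QuotientGroup.mk'_surjective _) (by rw [QuotientGroup.ker_mk']; exact hZ)
  refine le_antisymm (hi ▸ hK) (index_psu_five_lower hF _ fun h => hne ?_)
  exact Subgroup.index_eq_one.1 (hi ▸ Subgroup.index_eq_one.2 h)

end Cfsg.Agent.MinIndexU.U35
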