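import Cfsg.Agent.Lib.MinIndexU.Moved
/-
Points fixed by the root group at va.
* isoC_le, aniso_count, card_le_four; fix_bound; full_radQ; ti_bound
-/
set_option autoImplicit false

namespace Cfsg.Agent.MinIndexU

open Cfsg.Agent.Unitary
open Cfsg.Agent.SUMinDegree
open scoped Matrix

variable {F : Type*} [Field F] [Fintype F] {q d : ℕ} (hF : Fintype.card F = q ^ 2)

local notation "hn" => Cfsg.hermForm (2 + d) F q
local notation "hd'" => Cfsg.hermForm d F q
local notation "Vn" => (Fin (2 + d) → F)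
local notation "Wd" => (Fin d → F)

theorem isoC_le (hq : 2 ≤ q) {m : ℕ} (hm1 : 1 ≤ m) : isoC q m ≤ q ^ (2 * m - 1) + q ^ m := by
  obtain ⟨j, rfl⟩ : ∃ j, m = j + 1 := ⟨m - 1, by omega⟩
  have e : q ^ (2 * (j + 1) - 1) = q ^ (j + 1) * q ^ j := by rw [← pow_add]; congr 1; omega
  rw [e, isoC]
  split
  · simp only [Nat.add_sub_cancel]
    calc (q ^ (j + 1) - 1) * (q ^ j + 1) ≤ q ^ (j + 1) * (q ^ j + 1) :=
          Nat.mul_le_mul_right _ (Nat.sub_le _ _)
      _ = _ := by ring
  · simp only [cmin, Nat.add_sub_cancel]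
    calc (q ^ (j + 1) + 1) * (q ^ j - 1) ≤ (q ^ (j + 1) + 1) * q ^ j :=
          Nat.mul_le_mul_left _ (Nat.sub_le _ _)
      _ ≤ _ := by
          rw [add_mul, one_mul]
          exact Nat.add_le_add_left (Nat.pow_le_pow_right (by omega) (by omega)) _

include hF in
/-- Over four elements a subgroup without isotropic vectors has at most four elements. -/
theorem card_le_four (hq2 : q = 2) (A : AddSubgroup Wd) (h : ∀ x ∈ A, x ≠ 0 → hd' x x ≠ 0) :
    Nat.card A ≤ 4 := by
  classical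
  have H := hermForm_isHerm hF d
  have h2 : (2 : F) = 0 := by
    obtain ⟨p, m, hp, hchar, hpm, hm⟩ := exists_prime_pow hF
    have hdvd : p ∣ 2 := by rw [← hq2, hpm]; exact dvd_pow_self p (by omega)
    obtain rfl : p = 2 := (Nat.prime_dvd_prime_iff_eq hp Nat.prime_two).1 hdvd
    exact_mod_cast CharP.cast_eq_zero F 2
  have hone : ∀ x ∈ A, x ≠ 0 → hd' x x = 1 := by
    intro x hx hx0
    have e : hd' x x * hd' x x = hd' x x := by
      conv_rhs => rw [← H.self_fixed x]
      rw [← sq, hq2]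
    exact mul_left_cancel₀ (h x hx hx0) (e.trans (mul_one _).symm)
  have hadd : ∀ a b : Wd, a + b = 0 → a = b := by
    intro a b hab
    funext i
    have := congrFun hab i
    simp only [Pi.add_apply, Pi.zero_apply] at this
    linear_combination this - b i * h2
  have hB : ∀ a ∈ A, ∀ b ∈ A, a ≠ 0 → b ≠ 0 → a ≠ b → hd' a b + hd' b a = 1 := by
    intro a ha b hb ha0 hb0 hab
    have hs := hone (a + b) (A.add_mem ha hb) fun e => hab (hadd a b e)
    rw [H.add_left, H.add_right hF, H.add_right hF, hone a ha ha0, hone b hb hb0] at hs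
    linear_combination hs - h2
  by_cases h1 : ∀ a ∈ A, ∀ b ∈ A, a ≠ 0 → b ≠ 0 → a = b
  · rcases A.bot_or_exists_ne_zero with hbot | ⟨a, ha, ha0⟩
    · rw [hbot, AddSubgroup.card_bot]; omega
    · have : (A : Set Wd) ⊆ (↑({0, a} : Finset Wd) : Set Wd) := fun x hx => by
        by_cases hx0 : x = 0
        · simp [hx0]
        · simp [h1 x hx a ha hx0 ha0]
      have := Set.ncard_le_ncard this
      rw [Set.ncard_coe_finset] at this
      exact (this.trans Finset.card_le_two).trans (by omega)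
  · simp only [not_forall] at h1
    obtain ⟨a, ha, b, hb, ha0, hb0, hab⟩ := h1
    have hsub : (A : Set Wd) ⊆ (↑({0, a, b, a + b} : Finset Wd) : Set Wd) := by
      intro w hw
      by_contra hne
      simp only [Finset.coe_insert, Finset.coe_singleton, Set.mem_insert_iff, Set.mem_singleton_iff,
        not_or] at hne
      obtain ⟨hw0, hwa, hwb, hwab⟩ := hne
      have e1 := hB a ha b hb ha0 hb0 hab
      have e2 := hB a ha w hw ha0 hw0 (Ne.symm hwa)
      have hbw0 : b + w ≠ 0 := fun e => hwb (hadd b w e).symm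
      have hbwa : a ≠ b + w := fun e => hwab (by
        rw [e]; funext i; simp only [Pi.add_apply]; linear_combination -(b i) * h2)
      have e3 := hB a ha (b + w) (A.add_mem hb hw) ha0 hbw0 hbwa
      rw [H.add_right hF, H.add_left] at e3
      exact one_ne_zero (α := F) (by linear_combination e3 - e1 - e2)
    have := Set.ncard_le_ncard hsub
    rw [Set.ncard_coe_finset] at this
    exact this.trans Finset.card_le_four

theorem aniso_numeric (hq : 3 ≤ q) (hd : 3 ≤ d) :
    q ^ 2 * isoC q d ≤ (q ^ 2 - 1) * ((q - 1) * (q ^ (d - 1) * (q ^ d - 1))) := by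
  refine (Nat.mul_le_mul_left _ (isoC_le (by omega) (by omega))).trans ?_
  obtain ⟨j, rfl⟩ : ∃ j, d = j + 3 := ⟨d - 3, by omega⟩
  have e1 : q ^ (2 * (j + 3) - 1) = q * (q ^ (j + 2) * q ^ (j + 2)) := by
    rw [← pow_add, ← pow_succ']; congr 1; omega
  have e2 : q ^ (j + 3) = q * q ^ (j + 2) := pow_succ' _ _
  have hu : 9 ≤ q ^ (j + 2) :=
    le_trans (le_trans (by norm_num) (Nat.pow_le_pow_left hq 2)) (Nat.pow_le_pow_right (by omega) (by omega))
  rw [e1, e2, show j + 3 - 1 = j + 2 by omega]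
  obtain ⟨r, rfl⟩ : ∃ r, q = r + 3 := ⟨q - 3, by omega⟩
  obtain ⟨w, hw⟩ : ∃ w, (r + 3) ^ (j + 2) = w + 9 := ⟨(r + 3) ^ (j + 2) - 9, by omega⟩
  rw [hw]
  have a1 : 1 ≤ (r + 3) ^ 2 := Nat.one_le_pow _ _ (by omega)
  have a2 : 1 ≤ (r + 3) * (w + 9) := Nat.mul_pos (by omega) (by omega)
  have a3 : 1 ≤ r + 3 := by omega
  zify [a1, a2, a3]
  have hr : (0 : ℤ) ≤ r := Int.natCast_nonneg r
  have hw0 : (0 : ℤ) ≤ w := Int.natCast_nonneg w
  nlinarith [mul_nonneg hr hw0, pow_nonneg hr 2, pow_nonneg hr 3, pow_nonneg hr 4, pow_nonneg hw0 2,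
    mul_nonneg (pow_nonneg hr 2) hw0, mul_nonneg (pow_nonneg hr 3) hw0, mul_nonneg (pow_nonneg hr 4) hw0,
    mul_nonneg hr (pow_nonneg hw0 2), mul_nonneg (pow_nonneg hr 2) (pow_nonneg hw0 2),
    mul_nonneg (pow_nonneg hr 3) (pow_nonneg hw0 2), mul_nonneg (pow_nonneg hr 4) (pow_nonneg hw0 2)]

include hF in
theorem card_cls_aniso :
    ({x : Wd | hd' x x ≠ 0}).ncard = (q - 1) * normCount d q (1 : F) := by
  have h1 := normCount_total hF d
  have h2 := Set.ncard_add_ncard_compl {x : Wd | hd' x x = 0}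
  rw [card_V hF] at h2
  change normCount d q (0 : F) + ({x : Wd | hd' x x ≠ 0}).ncard = _ at h2
  omega

variable {Ω : Type*} [MulAction (Cfsg.SU (2 + d) F q) Ω] [Finite Ω]

theorem fix_labels {ψ : AddChar F ℂ} (hψ : ∃ a, ψ a ≠ 1) {ω : Ω} (hω : ω ∈ Fix0 hF d) :
    (trs (rhoA hF d) (annih hF ψ (Xof hF d ω) : Set Wd)).ncard * Nat.card (annih hF ψ (Xof hF d ω)) ≤
      (Fix0 hF d (Ω := Ω)).ncard := by
  classical
  have H := hermForm_isHerm hF d
  have hq := two_le_q hF
  set X := Xof hF d ω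
  set A := annih hF ψ X
  set Φ := Fix0 hF d (Ω := Ω)
  have hZeq : Zof hF d ω = skewGrp hF := le_antisymm (Zof_le_skew hF ω) hω
  -- translates of A and of X
  let ann : Set Wd → Set Wd := fun Y => {y | ∀ x ∈ Y, ψ (hd' x y) = 1}
  have hann : ∀ g : lev hF d, ann (rhoX hF d g '' (X : Set Wd)) = rhoA hF d g '' (A : Set Wd) := by
    intro g
    have key : ∀ x y, hd' (rhoX hF d g x) (rhoA hF d g y) = hd' x y := fun x y => by
      rw [rhoX_apply, rhoA_apply, H.smul_left, H.smul_right, gam_herm g.2, inv_pow, ← mul_assoc,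
        mul_inv_cancel₀ (pow_ne_zero _ (kap_spec g.2).2), one_mul]
    ext y
    obtain ⟨y, rfl⟩ := (rhoA hF d g).surjective y
    rw [(rhoA hF d g).injective.mem_set_image]
    constructor
    · intro hy x hx
      rw [← key]
      exact hy _ ⟨x, hx, rfl⟩
    · rintro hy _ ⟨x, hx, rfl⟩
      rw [key]
      exact hy x hx
  set T := (trs (rhoA hF d) (A : Set Wd)).ncard
  have hT : T ≤ (trs (rhoX hF d) (X : Set Wd)).ncard := by
    refine le_trans (Set.ncard_le_ncard ?_) (Set.ncard_image_le (f := ann) (Set.toFinite _))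
    rintro _ ⟨g, rfl⟩
    exact ⟨_, ⟨g, rfl⟩, hann g⟩
  have hΦ : T * Nat.card A ≤ Φ.ncard := by
    let L : Set (Set Wd × Set F) := (fun Y => (Y, (skewGrp hF : Set F))) '' trs (rhoX hF d) (X : Set Wd)
    have hLcard : L.ncard = (trs (rhoX hF d) (X : Set Wd)).ncard :=
      Set.ncard_image_of_injective _ fun a b h => congrArg Prod.fst h
    have hc := card_labels_mul_le (Ω := Ω) hF L (s := Nat.card X * q) (by
        rintro _ ⟨_, ⟨g, rfl⟩, rfl⟩
        obtain ⟨h1, h2⟩ := lab_lev hF g ω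
        refine ⟨g.1 • ω, ?_⟩
        show ((Xof hF d _ : Set Wd), (Zof hF d _ : Set F)) = _
        rw [h1]
        refine Prod.ext rfl ?_
        refine Set.eq_of_subset_of_ncard_le (Zof_le_skew hF _) (le_of_eq ?_)
        rw [h2, hZeq,
          Set.ncard_image_of_injective _ (mul_right_injective₀ (pow_ne_zero _ (kap_spec g.2).2))])
      (by
        rintro _ ⟨_, ⟨g, rfl⟩, rfl⟩
        dsimp only
        rw [Set.ncard_image_of_injective _ (rhoX hF d g).injective,
          show (skewGrp hF : Set F).ncard = q from (Nat.card_coe_set_eq _).symm.trans (card_skewGrp hF)]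
        rfl)
    have hsub : {ω' : Ω | lab hF d ω' ∈ L} ⊆ Φ := by
      rintro ω' ⟨Y, -, hY⟩ z hz
      have e : (skewGrp hF : Set F) = (Zof hF d ω' : Set F) := congrArg Prod.snd hY
      show z ∈ (Zof hF d ω' : Set F)
      rw [← e]
      exact hz
    have hc' := hc.trans (Nat.mul_le_mul_left _ (Set.ncard_le_ncard hsub))
    have hAX : Nat.card A * Nat.card X ≤ (q ^ 2) ^ d := card_annih_mul_le hF hψ X
    refine Nat.le_of_mul_le_mul_right ?_ (Nat.mul_pos (Nat.card_pos (α := X)) (show 0 < q by omega))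
    calc T * Nat.card A * (Nat.card X * q) = T * (Nat.card A * Nat.card X * q) := by ring
      _ ≤ L.ncard * ((q ^ 2) ^ d * q) := Nat.mul_le_mul (hLcard ▸ hT) (Nat.mul_le_mul_right _ hAX)
      _ ≤ _ := hc'.trans_eq (mul_comm _ _)
  exact hΦ

theorem fix_bound (hd : 3 ≤ d) {ω : Ω} (hω : ω ∈ Fix0 hF d) (hX : Xof hF d ω ≠ ⊤) :
    q ^ 2 * isoC q d ≤ (q ^ 2 - 1) * (Fix0 hF d (Ω := Ω)).ncard ∨
      (q = 2 ∧ 4 * normCount d q (1 : F) ≤ 3 * (Fix0 hF d (Ω := Ω)).ncard) := by
  classical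
  have H := hermForm_isHerm hF d
  have hq := two_le_q hF
  have hskew : skewGrp hF ≠ ⊤ := fun h => by
    obtain ⟨η, hη⟩ := one_half_not_skew hF
    have : η ∈ skewGrp hF := h ▸ AddSubgroup.mem_top η
    exact one_ne_zero (hη.symm.trans this)
  obtain ⟨ψ, hψ, -⟩ := exists_char_kills (A := F) (K := ⊥) bot_ne_top
  set X := Xof hF d ω
  set A := annih hF ψ X
  set Φ := Fix0 hF d (Ω := Ω)
  have hZeq : Zof hF d ω = skewGrp hF := le_antisymm (Zof_le_skew hF ω) hω
  set T := (trs (rhoA hF d) (A : Set Wd)).ncard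
  have hΦ : T * Nat.card A ≤ Φ.ncard := fix_labels hF hψ hω
  -- classes
  set C0 := cls d q (0 : F)
  set Cn := {x : Wd | hd' x x ≠ 0}
  have hnorm : ∀ g x, hd' (rhoA hF d g x) (rhoA hF d g x) =
      (kap hF g.1)⁻¹ * ((kap hF g.1)⁻¹ ^ q * hd' x x) := fun g x => by
    rw [rhoA_apply, H.smul_left, H.smul_right, gam_herm g.2]
  have hinv0 : ∀ g, ∀ x ∈ C0, rhoA hF d g x ∈ C0 := fun g x hx =>
    ⟨fun e => hx.1 ((rhoA hF d g).injective (e.trans
      (by rw [rhoA_apply, show gam g.1 (0 : Wd) = 0 by simp [gam, suAct_zero]; rfl, smul_zero]))),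
      by rw [hnorm, hx.2, mul_zero, mul_zero]⟩
  have hinvn : ∀ g, ∀ x ∈ Cn, rhoA hF d g x ∈ Cn := fun g x hx => by
    show hd' _ _ ≠ 0
    rw [hnorm]
    exact mul_ne_zero (inv_ne_zero (kap_spec g.2).2)
      (mul_ne_zero (pow_ne_zero _ (inv_ne_zero (kap_spec g.2).2)) hx)
  have hmove : ∀ B : Cfsg.SU d F q, ∃ g : lev hF d, ∀ x, rhoA hF d g x = suAct B x := fun B => by
    obtain ⟨hB, hBk, hBg⟩ := levJ (hF := hF) B
    exact ⟨⟨_, hB⟩, fun x => by rw [rhoA_apply, hBk, hBg, inv_one, one_smul]⟩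
  have htr0 : ∀ v ∈ C0, ∀ x ∈ C0, ∃ g, rhoA hF d g v = x := fun v hv x hx => by
    obtain ⟨B, hB⟩ := move_one hF hd hv.1 hx.1 (hv.2.trans hx.2.symm)
    obtain ⟨g, hg⟩ := hmove B
    exact ⟨g, (hg v).trans hB⟩
  have htrn : ∀ v ∈ Cn, ∀ x ∈ Cn, ∃ g, rhoA hF d g v = x := fun v hv x hx => by
    obtain ⟨κ, hκ⟩ := exists_norm_eq hF (c := hd' v v / hd' x x)
      (by rw [div_pow, H.self_fixed, H.self_fixed])
    have hκ0 : κ ≠ 0 := fun h => by
      rw [h, zero_pow (Nat.succ_ne_zero q)] at hκ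
      exact div_ne_zero hv hx hκ.symm
    obtain ⟨g, hg, hgk⟩ := exists_lev_kap (hF := hF) (d := d) (by omega) hκ0
    have hy : hd' (rhoA hF d ⟨g, hg⟩ v) (rhoA hF d ⟨g, hg⟩ v) = hd' x x := by
      rw [hnorm]
      show (kap hF g)⁻¹ * _ = _
      rw [hgk, ← mul_assoc, ← pow_succ', inv_pow, hκ, inv_div, div_mul_cancel₀ _ hv]
    obtain ⟨B, hB⟩ := move_one hF hd
      (fun e => hinvn ⟨g, hg⟩ v hv (by rw [e, H.zero_left]))
      (fun e => hx (by rw [e, H.zero_left])) hy
    obtain ⟨g', hg'⟩ := hmove B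
    exact ⟨g' * ⟨g, hg⟩, by rw [map_mul, Equiv.Perm.mul_apply, hg']; exact hB⟩
  have hC0 : C0.ncard = isoC q d := ncard_cls_iso hF d
  have hCn : Cn.ncard = (q - 1) * normCount d q (1 : F) := card_cls_aniso hF
  obtain ⟨y0, hy0A, hy0⟩ := exists_mem_annih hF hψ hX
  have hA1 : 1 ≤ Nat.card A := Nat.card_pos
  have hsum : ((A : Set Wd) ∩ C0).ncard + ((A : Set Wd) ∩ Cn).ncard ≤ Nat.card A - 1 := by
    rw [← Set.ncard_union_eq (Set.disjoint_left.2 fun x hx hx' => hx'.2 hx.2.2) (Set.toFinite _)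
      (Set.toFinite _)]
    refine (Set.ncard_le_ncard (t := (A : Set Wd) \ {0}) ?_).trans_eq
      (by rw [Set.ncard_sdiff_singleton_of_mem A.zero_mem]; rfl)
    rintro x (⟨hx, hx', -⟩ | ⟨hx, hx'⟩)
    · exact ⟨hx, hx'⟩
    · exact ⟨hx, fun e : x = 0 => hx' (by rw [e, H.zero_left])⟩
  have hT1 : 1 ≤ T := (Set.ncard_pos (Set.toFinite _)).2 ⟨_, 1, rfl⟩
  by_cases hAn : ((A : Set Wd) ∩ Cn).Nonempty
  · obtain ⟨vn, hvn, hvn'⟩ := hAn
    have hcn := card_class_le (rhoA hF d) (A : Set Wd) hvn hinvn (htrn vn hvn')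
    by_cases h0 : ((A : Set Wd) ∩ C0).Nonempty
    · -- both classes
      obtain ⟨v0, hv0, hv0'⟩ := h0
      have hc0 := card_class_le (rhoA hF d) (A : Set Wd) hv0 hinv0 (htr0 v0 hv0')
      left
      have h1 : C0.ncard + Cn.ncard + T ≤ T * Nat.card A := by
        calc _ ≤ T * ((A : Set Wd) ∩ C0).ncard + T * ((A : Set Wd) ∩ Cn).ncard + T :=
              Nat.add_le_add_right (Nat.add_le_add hc0 hcn) _
          _ ≤ T * (Nat.card A - 1) + T := by
              rw [← mul_add]; exact Nat.add_le_add_right (Nat.mul_le_mul_left _ hsum) _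
          _ = T * Nat.card A := by rw [← Nat.mul_succ, show (Nat.card A - 1).succ = Nat.card A by omega]
      have h2 : (q ^ 2) ^ d ≤ Φ.ncard := by
        have e : (q ^ 2) ^ d ≤ C0.ncard + Cn.ncard + T := by
          rw [hCn, show C0.ncard = normCount d q (0 : F) - 1 from ncard_cls_zero hF d]
          have := normCount_total hF d
          omega
        exact e.trans (h1.trans hΦ)
      refine le_trans ?_ (Nat.mul_le_mul_left _ h2)
      obtain ⟨j, hj⟩ : ∃ j, d = j + 3 := ⟨d - 3, by omega⟩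
      calc q ^ 2 * isoC q d ≤ q ^ 2 * (q ^ (2 * d - 1) + q ^ d) :=
            Nat.mul_le_mul_left _ (isoC_le hq (by omega))
        _ ≤ (q ^ 2 - 1) * (q ^ 2) ^ d := by
            have e1 : q ^ (2 * d - 1) = q ^ (2 * j + 5) := by congr 1; omega
            have e2 : (q ^ 2) ^ d = q * q ^ (2 * j + 5) := by
              rw [← pow_mul, ← pow_succ']; congr 1; omega
            have e3 : q ^ d * q ^ 2 ≤ q ^ (2 * j + 5) := by
              rw [← pow_add]; exact Nat.pow_le_pow_right (by omega) (by omega)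
            rw [e1, e2]
            obtain ⟨r, rfl⟩ : ∃ r, q = r + 2 := ⟨q - 2, by omega⟩
            have a1 : 1 ≤ (r + 2) ^ 2 := Nat.one_le_pow _ _ (by omega)
            obtain ⟨B, hB⟩ : ∃ B, (r + 2) ^ 2 = B + 1 := ⟨(r + 2) ^ 2 - 1, by omega⟩
            have e4 : B + 1 + 1 ≤ B * (r + 2) := by nlinarith
            rw [hB] at e3 ⊢
            rw [Nat.add_sub_cancel, mul_add, ← mul_assoc]
            calc (B + 1) * (r + 2) ^ (2 * j + 5) + (B + 1) * (r + 2) ^ d
                ≤ (B + 1 + 1) * (r + 2) ^ (2 * j + 5) := by rw [add_mul _ 1, one_mul]; linarith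
              _ ≤ _ := Nat.mul_le_mul_right _ e4
    · -- only anisotropic vectors
      rw [Set.not_nonempty_iff_eq_empty] at h0
      rw [h0, Set.ncard_empty, zero_add] at hsum
      have h1 : Cn.ncard ≤ T * (Nat.card A - 1) := hcn.trans (Nat.mul_le_mul_left _ hsum)
      rcases Nat.eq_or_lt_of_le hq with hq2 | hq3
      · right
        refine ⟨hq2.symm, ?_⟩
        have hA4 : Nat.card A ≤ 4 := card_le_four hF hq2.symm A fun x hx hx0 hxx =>
          Set.notMem_empty x (h0 ▸ (⟨hx, hx0, hxx⟩ : x ∈ (A : Set Wd) ∩ C0))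
        rw [hCn, show q - 1 = 1 by omega, one_mul] at h1
        calc 4 * normCount d q (1 : F) ≤ 4 * (T * (Nat.card A - 1)) := Nat.mul_le_mul_left _ h1
          _ ≤ 3 * (T * Nat.card A) := by
              rw [mul_left_comm, mul_left_comm 3]
              exact Nat.mul_le_mul_left _ (by omega)
          _ ≤ _ := Nat.mul_le_mul_left _ hΦ
      · left
        have h2 : Cn.ncard ≤ Φ.ncard := h1.trans ((Nat.mul_le_mul_left _ (Nat.sub_le _ _)).trans hΦ)
        refine le_trans ?_ (Nat.mul_le_mul_left _ h2)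
        rw [hCn, normOne_count hF]
        refine (aniso_numeric hq3 hd).trans (Nat.mul_le_mul_left _ (Nat.mul_le_mul_left _ ?_))
        split
        · exact le_rfl
        · exact Nat.mul_le_mul_left _ (by omega)
  · -- only isotropic vectors
    left
    rw [Set.not_nonempty_iff_eq_empty] at hAn
    rw [hAn, Set.ncard_empty, add_zero] at hsum
    have hiso : ∀ x ∈ A, hd' x x = 0 := fun x hx => not_not.1 fun h =>
      Set.notMem_empty x (hAn ▸ (⟨hx, h⟩ : x ∈ (A : Set Wd) ∩ Cn))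
    have hv0 : y0 ∈ C0 := ⟨hy0, hiso y0 hy0A⟩
    have hcross : ∀ a ∈ A, ∀ b ∈ A, hd' a b + hd' b a = 0 := by
      intro a ha b hb
      have := hiso (a + b) (A.add_mem ha hb)
      rw [H.add_left, H.add_right hF, H.add_right hF, hiso a ha, hiso b hb] at this
      linear_combination this
    have hAd : Nat.card A ≤ q ^ d := card_le_pow hF hskew fun a ha b hb => by
      show _ + _ ^ q = 0
      rw [← H.conj_symm]; exact hcross a ha b hb
    by_cases hsmall : Nat.card A ≤ q ^ 2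
    · have h1 : C0.ncard ≤ T * (Nat.card A - 1) :=
        (card_class_le (rhoA hF d) (A : Set Wd) hy0A hinv0 (htr0 y0 hv0)).trans
          (Nat.mul_le_mul_left _ hsum)
      rw [← hC0]
      calc q ^ 2 * C0.ncard ≤ q ^ 2 * (T * (Nat.card A - 1)) := Nat.mul_le_mul_left _ h1
        _ ≤ (q ^ 2 - 1) * (T * Nat.card A) := by
            rw [mul_left_comm, mul_left_comm (q ^ 2 - 1)]
            refine Nat.mul_le_mul_left _ ?_
            rw [Nat.mul_sub, mul_one, Nat.sub_mul, one_mul]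
            omega
        _ ≤ _ := Nat.mul_le_mul_left _ hΦ
    · -- two translates through a point
      obtain ⟨v, hvA, hv, h2⟩ : ∃ v ∈ A, v ∈ C0 ∧ 2 ≤ (trsAt (rhoA hF d) (A : Set Wd) v).ncard := by
        have two : ∀ v : Wd, ∀ (g : lev hF d) (a : Wd), rhoA hF d g v = v → a ∈ A →
            rhoA hF d g a ∉ A → 2 ≤ (trsAt (rhoA hF d) (A : Set Wd) v).ncard := by
          intro v g a hgv ha hna
          rw [Nat.succ_le_iff, Set.one_lt_ncard (Set.toFinite _)]
          refine ⟨rhoA hF d g '' A, ⟨g, hgv, rfl⟩, (A : Set Wd), ⟨1, by simp, by simp⟩, fun e => hna ?_⟩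
          show rhoA hF d g a ∈ (A : Set Wd)
          exact e ▸ Set.mem_image_of_mem _ ha
        by_cases hne : ∃ u ∈ A, ∃ v ∈ A, hd' u v ≠ 0
        · obtain ⟨u, hu, v, hv, huv⟩ := hne
          have hv0 : v ≠ 0 := fun e => huv (by rw [e, H.zero_right hF])
          refine ⟨v, hv, ⟨hv0, hiso v hv⟩, ?_⟩
          have huo : u ∈ orb v q (hd' u v) (hd' u u) :=
            ⟨rfl, rfl, fun c hc => huv (by rw [← hc, H.smul_left, hiso v hv, mul_zero])⟩
          obtain ⟨x, hx, hxA⟩ : ∃ x ∈ orb v q (hd' u v) (hd' u u), x ∉ A := by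
            by_contra hc
            simp only [not_exists, not_and, not_not] at hc
            have hO := orb_lower_iso hF (show 2 ≤ d by omega) (hiso v hv) huv
            have h0O : (0 : Wd) ∉ orb v q (hd' u v) (hd' u u) := fun h =>
              huv (h.1.symm.trans (H.zero_left v))
            have hle : (insert (0 : Wd) (orb v q (hd' u v) (hd' u u))).ncard ≤ (A : Set Wd).ncard :=
              Set.ncard_le_ncard (Set.insert_subset_iff.2 ⟨A.zero_mem, fun x hx => hc x hx⟩)
            rw [Set.ncard_insert_of_notMem h0O (Set.toFinite _)] at hle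
            change _ ≤ Nat.card A at hle
            have : q ^ d ≤ (q ^ 2) ^ (d - 2) * q := by
              rw [← pow_mul, ← pow_succ]; exact Nat.pow_le_pow_right (by omega) (by omega)
            omega
          obtain ⟨B, hB1, hB2⟩ := move_pair hF hv0 huo hx
            (exists_norm_one_perp_hyp hF hd (hiso v hv) (by rw [hx.1]; exact huv))
          obtain ⟨g, hg⟩ := hmove B
          exact two v g u (by rw [hg]; exact hB1) hu (by rw [hg, hB2]; exact hxA)
        · simp only [not_exists, not_and, not_not] at hne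
          refine ⟨y0, hy0A, hv0, ?_⟩
          obtain ⟨u, hu, hind⟩ : ∃ u ∈ A, ∀ c : F, c • y0 ≠ u := by
            by_contra hc
            simp only [not_exists, not_and, not_forall, not_not] at hc
            choose f hf using fun x : A => hc x.1 x.2
            refine hsmall ?_
            rw [← card_F hF]
            exact Nat.card_le_card_of_injective f fun x y h => Subtype.ext (by rw [← hf x, ← hf y, h])
          obtain ⟨z, hz, huz, hyz⟩ := exists_iso_pairing hF hy0 (hiso u hu) (hne y0 hy0A u hu) hind 0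
          obtain ⟨δ, hδ0, hδ⟩ := exists_skew hF
          obtain ⟨g, hg⟩ := hmove (suTransvection hF z hz δ (by rw [hδ, add_neg_cancel]))
          refine two y0 g u ?_ hu ?_
          · rw [hg, suAct_suTransvection, hyz, mul_zero, zero_smul, add_zero]
          · rw [hg, suAct_suTransvection, huz, mul_one]
            intro hmem
            have hzu : hd' z u = 1 := by rw [H.conj_symm u z, huz, one_pow]
            have := hne _ hmem u hu
            rw [H.add_left, H.smul_left, hiso u hu, hzu, zero_add, mul_one] at this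
            exact hδ0 this
      have h1 : C0.ncard * 2 ≤ T * Nat.card A :=
        calc C0.ncard * 2 ≤ C0.ncard * (trsAt (rhoA hF d) (A : Set Wd) v).ncard := Nat.mul_le_mul_left _ h2
          _ ≤ T * ((A : Set Wd) ∩ C0).ncard := card_class_mul_le _ _ hvA hinv0 (htr0 v hv)
          _ ≤ T * Nat.card A := Nat.mul_le_mul_left _ (hsum.trans (Nat.sub_le _ _))
      rw [← hC0]
      calc q ^ 2 * C0.ncard ≤ (q ^ 2 - 1) * 2 * C0.ncard := Nat.mul_le_mul_right _ (by
              have : 4 ≤ q ^ 2 := Nat.pow_le_pow_left hq 2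
              omega)
        _ = (q ^ 2 - 1) * (C0.ncard * 2) := by ring
        _ ≤ _ := Nat.mul_le_mul_left _ (h1.trans hΦ)

/-! ### All fixed points have the whole radical in their stabiliser -/

/-- Isotropic vectors whose transvections fix the point. -/
def cents (ω : Ω) : Set (Fin (2 + d) → F) :=
  {c | c ≠ 0 ∧ ∃ h : Cfsg.hermForm (2 + d) F q c c = 0,
    ∀ θ : skewGrp hF, tv hF c h θ • ω = ω}

omit [Finite Ω] in
theorem cents_smul (ω : Ω) {c : Vn} {α : F} (hα : α ≠ 0) (hc : c ∈ cents hF ω) :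
    α • c ∈ cents hF ω := by
  obtain ⟨hc0, h, hfix⟩ := hc
  exact ⟨smul_ne_zero hα hc0, herm_smul_zero hF α h, fun θ => by rw [tv_smul]; exact hfix _⟩

omit [Finite Ω] in
theorem cents_act (g : Cfsg.SU (2 + d) F q) (ω : Ω) {c : Vn} (hc : c ∈ cents hF ω) :
    suAct g c ∈ cents hF (g • ω) := by
  obtain ⟨hc0, h, hfix⟩ := hc
  refine ⟨suAct_ne_zero g hc0, (suAct_herm g c c).trans h, fun θ => ?_⟩
  have := tv_conj hF g c h θ
  rw [← mul_smul, ← this, mul_smul, hfix θ]

omit [Finite Ω] in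
theorem full_radQ {ω : Ω} (hω : ω ∈ Fix0 hF d) (hX : Xof hF d ω = ⊤) {a : Cfsg.SU (2 + d) F q}
    (ha : a ∈ radQ hF d) : a • ω = ω := by
  obtain ⟨w, z, hwz⟩ := ha
  have hw : w ∈ Xof hF d ω := hX ▸ AddSubgroup.mem_top w
  obtain ⟨g, z', hg, hgω⟩ := hw
  have h := hg.inv.mul hwz
  rw [neg_add_cancel] at h
  have hp := h.param
  rw [(hermForm_isHerm hF d).zero_left, add_zero] at hp
  obtain ⟨t, ht, htω⟩ := hω (show _ ∈ skewGrp hF from hp)
  have e : g⁻¹ * a = t := h.unique ht
  rw [show a = g * t by rw [← e, mul_inv_cancel_left], mul_smul, htω, hgω]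

theorem ti_points (hd : 2 ≤ d) (htr : ∀ x y : Ω, ∃ g : Cfsg.SU (2 + d) F q, g • x = y)
    (hnt : ∃ (g : Cfsg.SU (2 + d) F q) (ω : Ω), g • ω ≠ ω)
    (hne : (Fix0 hF d (Ω := Ω)).Nonempty)
    (hfull : ∀ ω ∈ Fix0 hF d (Ω := Ω), Xof hF d ω = ⊤) :
    ∃ k, 1 ≤ k ∧ 2 * k ≤ 2 + d ∧ tiN F q (2 + d) k ≤ Nat.card Ω := by
  classical
  have H := hermForm_isHerm hF (2 + d)
  have hva : ∀ ω : Ω, va hF d ∈ cents hF ω → ∀ a ∈ radQ hF d, a • ω = ω := by
    intro ω hω a ha
    obtain ⟨-, h, hfix⟩ := hω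
    have hF0 : ω ∈ Fix0 hF d := fun z hz =>
      ⟨tv hF (va hF d) (va_va hF) ⟨z, hz⟩, isE_tv hF ⟨z, hz⟩, hfix ⟨z, hz⟩⟩
    exact full_radQ hF hF0 (hfull ω hF0) ha
  have step0 : ∀ ω : Ω, va hF d ∈ cents hF ω → ∀ c ∈ cents hF ω, hn c (va hF d) ≠ 0 →
      ∀ x, x ≠ 0 → hn x x = 0 → hn x (va hF d) ≠ 0 → x ∈ cents hF ω := by
    intro ω hω c hc hca x hx hx0 hxa
    have rep : ∀ y : Vn, hn y y = 0 → hn y (va hF d) ≠ 0 → ∃ e ∈ radQ hF d,
        y = hn y (va hF d) • suAct e (vb hF d) := by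
      intro y hy hya
      set β := hn y (va hF d)
      set y' := β⁻¹ • y
      have hy' : hn y' y' = 0 := herm_smul_zero hF _ hy
      have hy'a : hn y' (va hF d) = 1 := by rw [H.smul_left, inv_mul_cancel₀ hya]
      have hdec := decomp hF y'
      rw [hy'a, one_smul] at hdec
      set z := hn y' (vb hF d)
      obtain ⟨e, he⟩ := exists_isE (hF := hF) (w := prW y') (z := z) (by
        have := hy'
        rw [hdec] at this
        simp only [H.add_left, H.add_right hF, H.smul_left, H.smul_right, va_va hF, va_vb hF,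
          vb_va hF, vb_vb hF, va_inW hF, inW_va hF, vb_inW hF, inW_vb hF, inW_inW hF] at this
        linear_combination this)
      refine ⟨e, ⟨_, _, he⟩, ?_⟩
      rw [he.act_vb, show vb hF d + inW d (prW y') + z • va hF d = y' by
        conv_rhs => rw [hdec]
        abel, smul_inv_smul₀ hya]
    obtain ⟨-, hc0, -⟩ := id hc
    obtain ⟨e1, he1, hce⟩ := rep c hc0 hca
    obtain ⟨e2, he2, hxe⟩ := rep x hx0 hxa
    have hfix := hva ω hω _ (mul_mem he2 (inv_mem he1))
    have h := cents_act hF (e2 * e1⁻¹) ω hc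
    rw [hfix, hce, suAct_smul, suAct_mul, suAct_inv_suAct] at h
    have h' := cents_smul hF ω (α := hn x (va hF d) / hn c (va hF d)) (div_ne_zero hxa hca) h
    rwa [smul_smul, div_mul_cancel₀ _ hca, ← hxe] at h'
  have step : ∀ ω : Ω, ∀ a ∈ cents hF ω, ∀ c ∈ cents hF ω, hn c a ≠ 0 →
      ∀ x, x ≠ 0 → hn x x = 0 → hn x a ≠ 0 → x ∈ cents hF ω := by
    intro ω a ha c hc hca x hx hx0 hxa
    obtain ⟨g, hg⟩ := su_transitive_iso hF (by omega) ha.1 ha.2.1 (va_ne_zero hF (d := d)) (va_va hF)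
    have hga := cents_act hF g ω ha
    rw [hg] at hga
    have h := step0 (g • ω) hga _ (cents_act hF g ω hc)
      (by rw [← hg, suAct_herm]; exact hca) (suAct g x) (suAct_ne_zero g hx)
      ((suAct_herm g x x).trans hx0) (by rw [← hg, suAct_herm]; exact hxa)
    have h' := cents_act hF g⁻¹ _ h
    rwa [inv_smul_smul, suAct_inv_suAct] at h'
  obtain ⟨ω0, hω0⟩ := hne
  have hva0 : va hF d ∈ cents hF ω0 := ⟨va_ne_zero hF, va_va hF, fun θ => by
    obtain ⟨t, ht, htω⟩ := hω0 θ.2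
    rwa [ht.unique (isE_tv hF θ)] at htω⟩
  by_cases horth : ∀ a ∈ cents hF ω0, ∀ c ∈ cents hF ω0, hn c a = 0
  · let U : Ω → Submodule F Vn := fun ω => Submodule.span F (cents hF ω)
    have hU : ∀ (g : Cfsg.SU (2 + d) F q) (ω : Ω), (U (g • ω) : Set Vn) = suAct g '' (U ω : Set Vn) := by
      intro g ω
      have e : cents hF (g • ω) = Matrix.mulVecLin
          ((g : Matrix.SpecialLinearGroup (Fin (2 + d)) F) : Matrix (Fin (2 + d)) (Fin (2 + d)) F) ''
          cents hF ω := by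
        refine subset_antisymm ?_ ?_
        · intro c hc
          refine ⟨suAct g⁻¹ c, ?_, suAct_suAct_inv g c⟩
          have := cents_act hF g⁻¹ _ hc
          rwa [inv_smul_smul] at this
        · rintro _ ⟨c, hc, rfl⟩
          exact cents_act hF g ω hc
      simp only [U]
      rw [e, ← Submodule.map_span]
      rfl
    obtain ⟨k, hk⟩ : ∃ k, Module.finrank F (U ω0) = k := ⟨_, rfl⟩
    have hti : IsTISubspace q k (U ω0) :=
      ⟨hk, span_ti hF fun a ha b hb => horth b hb a ha⟩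
    have hk1 : 1 ≤ k := by
      rw [← hk, Nat.one_le_iff_ne_zero]
      intro h0
      have hz := Submodule.finrank_eq_zero.1 h0
      have hmem : va hF d ∈ U ω0 := Submodule.subset_span hva0
      rw [hz] at hmem
      exact va_ne_zero hF ((Submodule.mem_bot F).1 hmem)
    have h2k : 2 * k ≤ 2 + d := by
      have h := card_orth_le hF (U ω0) (U ω0) hti.2
      rw [Module.natCard_eq_pow_finrank (K := F) (V := U ω0), card_F hF, hk, ← pow_add] at h
      have := (Nat.pow_le_pow_iff_right (Nat.one_lt_pow two_ne_zero (two_le_q hF))).1 h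
      omega
    have hW : tiN F q (2 + d) k ≤ Nat.card Ω := by
      have : ∀ W : {W : Submodule F Vn // IsTISubspace q k W}, ∃ ω : Ω, U ω = W.1 := by
        intro W
        obtain ⟨g, hg⟩ := move_ti hF (by omega) h2k hti W.2
        exact ⟨g • ω0, SetLike.coe_injective ((hU g ω0).trans hg)⟩
      choose f hf using this
      exact Nat.card_le_card_of_injective f fun W W' h => Subtype.ext (by rw [← hf W, ← hf W', h])
    exact ⟨k, hk1, h2k, hW⟩
  · exfalso
    simp only [not_forall] at horth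
    obtain ⟨a, ha, c, hc, hca⟩ := horth
    have hnon : ∀ x, x ≠ 0 → hn x x = 0 → hn x a ≠ 0 → x ∈ cents hF ω0 :=
      step ω0 a ha c hc hca
    have hall : ∀ y, y ≠ 0 → hn y y = 0 → y ∈ cents hF ω0 := by
      intro y hy hy0
      by_cases hya : hn y a = 0
      · by_cases hind : ∀ r : F, r • a ≠ y
        · obtain ⟨z, hz, hyz, haz⟩ := exists_iso_pairing hF ha.1 hy0 ((H.eq_zero_symm hF).1 hya) hind 1
          have hz0 : z ≠ 0 := fun e => by simp [e, H.zero_right hF] at hyz
          have hza : hn z a ≠ 0 := by rw [H.conj_symm a z, haz, one_pow]; exact one_ne_zero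
          have hzS := hnon z hz0 hz hza
          exact step ω0 z hzS a ha (by rw [haz]; exact one_ne_zero) y hy hy0
            (by rw [hyz]; exact one_ne_zero)
        · simp only [not_forall, not_not] at hind
          obtain ⟨r, rfl⟩ := hind
          exact cents_smul hF ω0 (fun h => hy (by rw [h, zero_smul])) ha
      · exact hnon y hy hy0 hya
    have hfixall : ∀ g : Cfsg.SU (2 + d) F q, g • ω0 = ω0 := by
      have hle : transvectionGroup (2 + d) F q ≤ MulAction.stabilizer (Cfsg.SU (2 + d) F q) ω0 := by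
        rw [transvectionGroup, Subgroup.closure_le]
        rintro A ⟨v, c, hv0, hA⟩
        by_cases hv : v = 0
        · rw [show A = 1 from Subtype.ext (Subtype.ext (by simp [hA, hv, Cfsg.unitaryTransvection]))]
          exact one_smul _ ω0
        have hc : c + c ^ q = 0 :=
          (transvection_isometry_iff hF v hv hv0 c).1 (hA ▸ (A.2 : IsUnitary q _))
        obtain ⟨-, h, hfix⟩ := hall v hv hv0
        rw [show A = tv hF v h ⟨c, hc⟩ from Subtype.ext (Subtype.ext hA)]
        exact hfix _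
      rw [transvectionGroup_eq_top hF (Or.inl (by omega))] at hle
      exact fun g => hle (Subgroup.mem_top g)
    obtain ⟨g, ω, hg⟩ := hnt
    obtain ⟨h, rfl⟩ := htr ω0 ω
    exact hg (by rw [hfixall h, hfixall g])

theorem ti_bound (hd : 3 ≤ d) (htr : ∀ x y : Ω, ∃ g : Cfsg.SU (2 + d) F q, g • x = y)
    (hnt : ∃ (g : Cfsg.SU (2 + d) F q) (ω : Ω), g • ω ≠ ω)
    (hne : (Fix0 hF d (Ω := Ω)).Nonempty)
    (hfull : ∀ ω ∈ Fix0 hF d (Ω := Ω), Xof hF d ω = ⊤) :
    isoC q (2 + d) ≤ (q ^ 2 - 1) * Nat.card Ω := by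
  obtain ⟨k, hk1, h2k, hW⟩ := ti_points hF (by omega) htr hnt hne hfull
  calc isoC q (2 + d) ≤ tiN F q (2 + d) k * (q ^ 2 - 1) := isoC_le_tiN hF (by omega) hk1 h2k
    _ ≤ _ := by rw [mul_comm]; exact Nat.mul_le_mul_left _ hW

end Cfsg.Agent.MinIndexU
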