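import Cfsg.Agent.S0822
import Cfsg.Agent.S3366
import Cfsg.Agent.Lib.SpectrumPSp.Sp
import Mathlib.GroupTheory.Transfer
/-
PSU_4(2) has no subgroup of index 24.
-/
set_option autoImplicit false

namespace Cfsg.Agent.MinIndexU

/-- A group of order 1080 has elements of order 10 or 15. -/
theorem not_card_1080 {H : Type*} [Group H] [Finite H] (hcard : Nat.card H = 1080)
    (hord : ∀ x : H, orderOf x ∣ 5 ∨ orderOf x ∣ 9 ∨ orderOf x ∣ 12) : False := by
  classical
  haveI : Fact (Nat.Prime 5) := ⟨by norm_num⟩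
  haveI : Fact (Nat.Prime 3) := ⟨Nat.prime_three⟩
  obtain ⟨P⟩ := (inferInstance : Nonempty (Sylow 5 H))
  have hPc : Nat.card P = 5 := by
    rw [Sylow.card_eq_multiplicity, hcard]
    decide +kernel
  -- what commutes with an element of order five
  have hcomm : ∀ a x : H, orderOf a = 5 → Commute a x → orderOf x ∣ 5 := by
    intro a x ha hx
    have hco : ∀ y : H, Commute a y → ¬ 2 ∣ orderOf y ∧ ¬ 3 ∣ orderOf y := by
      intro y hy
      have key : ∀ r, r = 2 ∨ r = 3 → ¬ r ∣ orderOf y := by
        intro r hr hd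
        set z := y ^ (orderOf y / r)
        have hz : orderOf z = r :=
          orderOf_pow_orderOf_div (orderOf_pos y).ne' hd
        have hcop : (orderOf a).Coprime (orderOf z) := by
          rw [ha, hz]; rcases hr with rfl | rfl <;> norm_num
        have h := hord (a * z)
        rw [(hy.pow_right _).orderOf_mul_eq_mul_orderOf_of_coprime hcop, ha, hz] at h
        rcases hr with rfl | rfl <;> norm_num at h
      exact ⟨key 2 (Or.inl rfl), key 3 (Or.inr rfl)⟩
    obtain ⟨h2, h3⟩ := hco x hx
    rcases hord x with h | h | h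
    · exact h
    · rcases (Nat.dvd_prime_pow Nat.prime_three).1 (show orderOf x ∣ 3 ^ 2 by simpa using h) with ⟨i, -, hi⟩
      rcases Nat.eq_zero_or_pos i with rfl | hi0
      · rw [hi]; norm_num
      · exact absurd (hi ▸ dvd_pow_self 3 (by omega)) h3
    · have hne : orderOf x ≤ 12 := Nat.le_of_dvd (by norm_num) h
      obtain ⟨k, hk⟩ : ∃ k, orderOf x = k := ⟨_, rfl⟩
      rw [hk] at h h2 h3 hne ⊢
      interval_cases k <;> revert h h2 h3 <;> decide
  obtain ⟨⟨a, haP⟩, ha⟩ := exists_prime_orderOf_dvd_card' (G := P) 5 (by rw [hPc])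
  rw [Subgroup.orderOf_mk] at ha
  have hPz : (P : Subgroup H) = Subgroup.zpowers a :=
    (Subgroup.eq_of_le_of_card_ge (Subgroup.zpowers_le.2 haP) (by rw [hPc, Nat.card_zpowers, ha])).symm
  -- the Sylow 5-subgroup is self-normalising
  have hC : Subgroup.centralizer ((P : Subgroup H) : Set H) ≤ P := by
    intro x hx
    have hax : Commute a x := (Subgroup.mem_centralizer_iff.1 hx a haP)
    have hxp : IsPGroup 5 (Subgroup.zpowers x) := by
      rcases (Nat.dvd_prime (by norm_num : Nat.Prime 5)).1 (hcomm a x ha hax) with h | h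
      · exact IsPGroup.of_card (n := 0) (by rw [Nat.card_zpowers, h, pow_zero])
      · exact IsPGroup.of_card (n := 1) (by rw [Nat.card_zpowers, h, pow_one])
    have hnorm : Subgroup.zpowers x ≤ Subgroup.normalizer ((P : Subgroup H) : Set H) := by
      refine Subgroup.zpowers_le.2 (Subgroup.mem_normalizer_iff.2 fun y => ?_)
      constructor
      · intro hy
        have e : y * x = x * y := Subgroup.mem_centralizer_iff.1 hx y hy
        rwa [← e, mul_inv_cancel_right]
      · intro hy
        have e := Subgroup.mem_centralizer_iff.1 hx _ hy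
        rw [inv_mul_cancel_right, mul_assoc x] at e
        have : x * y * x⁻¹ = y := by
          have := mul_left_cancel (a := x) (show x * (y * x⁻¹ * x) = x * (x * y * x⁻¹) by
            rw [inv_mul_cancel_right]; simpa [mul_assoc] using e)
          rw [inv_mul_cancel_right] at this
          exact this.symm
        rwa [this] at hy
    have hsup := hxp.to_sup_of_normal_right' P.isPGroup' hnorm
    have := P.is_maximal' hsup le_sup_right
    rw [← this]
    exact Subgroup.mem_sup_left (Subgroup.mem_zpowers x)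
  set N := Subgroup.normalizer ((P : Subgroup H) : Set H)
  have hn5 : Nat.card (Sylow 5 H) = N.index := P.card_eq_index_normalizer
  have hmod := card_sylow_modEq_one 5 H
  have hNmul := N.card_mul_index
  rw [hcard] at hNmul
  have hN4 : Nat.card N ∣ 20 := by
    let φ : N →* MulAut (P : Subgroup H) := Subgroup.normalizerMonoidHom (P : Subgroup H)
    have hker : Nat.card φ.ker ∣ 5 := by
      refine Dvd.dvd.trans ?_ (dvd_of_eq hPc)
      refine Dvd.dvd.trans (dvd_of_eq (show Nat.card φ.ker = Nat.card (φ.ker.map N.subtype) from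
        (Subgroup.card_map_of_injective N.subtype_injective).symm))
        (Subgroup.card_dvd_of_le (K := (P : Subgroup H)) ?_)
      rintro _ ⟨⟨x, hx⟩, hxk, rfl⟩
      refine hC (Subgroup.mem_centralizer_iff.2 fun y hy => ?_)
      have e := congrArg (fun f : MulAut (P : Subgroup H) => (f ⟨y, hy⟩).1) (MonoidHom.mem_ker.1 hxk)
      change x * y * x⁻¹ = y at e
      calc y * x = x * y * x⁻¹ * x := by rw [e]
        _ = x * y := inv_mul_cancel_right _ _
    have haut : Nat.card φ.range ∣ 4 := by
      haveI : IsCyclic (P : Subgroup H) := isCyclic_of_prime_card (p := 5) hPc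
      have := Subgroup.card_subgroup_dvd_card φ.range
      rw [IsCyclic.card_mulAut, hPc] at this
      exact this
    have h := (φ.ker).card_mul_index
    rw [Subgroup.index_ker] at h
    rw [← h]
    exact mul_dvd_mul hker haut
  have hN5 : 5 ∣ Nat.card N := by
    rw [← hPc]; exact Subgroup.card_dvd_of_le Subgroup.le_normalizer
  have hNc : Nat.card N = 5 := by
    rw [hn5] at hmod
    obtain ⟨k, hk⟩ : ∃ k, Nat.card N = k := ⟨_, rfl⟩
    rw [hk] at hN4 hN5 hNmul ⊢
    have := Nat.le_of_dvd (by norm_num) hN4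
    unfold Nat.ModEq at hmod
    interval_cases k
    all_goals omega
  have hNP : N = P := (Subgroup.eq_of_le_of_card_ge Subgroup.le_normalizer (by rw [hNc, hPc])).symm
  have hab : N ≤ Subgroup.centralizer ((P : Subgroup H) : Set H) := by
    intro x hx
    rw [hNP, hPz, Subgroup.mem_zpowers_iff] at hx
    obtain ⟨k, rfl⟩ := hx
    refine Subgroup.mem_centralizer_iff.2 fun y hy => ?_
    rw [hPz] at hy
    obtain ⟨l, rfl⟩ := Subgroup.mem_zpowers_iff.1 hy
    exact (Commute.refl a).zpow_zpow l k
  have hcompl := MonoidHom.ker_transferSylow_isComplement' P hab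
  set K := (MonoidHom.transferSylow P hab).ker
  have hK : Nat.card K = 216 := by
    have := hcompl.card_mul
    rw [hPc, hcard] at this
    omega
  obtain ⟨S⟩ := (inferInstance : Nonempty (Sylow 3 K))
  have hS : Nat.card S = 27 := by
    rw [Sylow.card_eq_multiplicity, hK]
    decide +kernel
  set n3 := Nat.card (Sylow 3 K) with hn3
  have h3mod := card_sylow_modEq_one 3 K
  have h3dvd : n3 ∣ 8 := by
    have h := S.card_dvd_index
    have e := (S : Subgroup K).card_mul_index
    change Nat.card S * _ = _ at e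
    rw [hS, hK] at e
    rwa [show (S : Subgroup K).index = 8 by omega] at h
  have hlt : n3 < 5 := by
    have := Nat.le_of_dvd (by norm_num) h3dvd
    unfold Nat.ModEq at h3mod
    obtain ⟨k, hk⟩ : ∃ k, n3 = k := ⟨_, rfl⟩
    rw [← hn3, hk] at h3mod
    rw [hk] at h3dvd this ⊢
    interval_cases k
    all_goals omega
  -- conjugation by a fixes each Sylow 3-subgroup of the kernel
  have ha5 : a ^ 5 = 1 := by
    have := pow_orderOf_eq_one a
    rwa [ha] at this
  let c : MulAut K := MulAut.conjNormal a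
  have hfix : c • S = S := by
    have hc5 : c ^ 5 = 1 := by rw [← map_pow, ha5, map_one]
    obtain ⟨σ, hσ⟩ : ∃ σ : Equiv.Perm (Sylow 3 K), σ = MulAction.toPermHom (MulAut K) (Sylow 3 K) c := ⟨_, rfl⟩
    have h5 : σ ^ 5 = 1 := by rw [hσ, ← map_pow, hc5, map_one]
    have hdvd : orderOf σ ∣ 5 := orderOf_dvd_of_pow_eq_one h5
    rcases (Nat.dvd_prime (by norm_num : Nat.Prime 5)).1 hdvd with h | h
    · have h1 := orderOf_eq_one_iff.1 h
      rw [hσ] at h1
      exact congrFun (congrArg (fun f : Equiv.Perm (Sylow 3 K) => (f : Sylow 3 K → Sylow 3 K)) h1) S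
    · exfalso
      have : orderOf σ ∣ n3.factorial := by
        rw [hn3, ← Nat.card_perm]; exact orderOf_dvd_natCard σ
      rw [h, (show Nat.Prime 5 by norm_num).dvd_factorial] at this
      omega
  -- a fixed point on S
  let S' : Subgroup H := (S : Subgroup K).map K.subtype
  have hS' : Nat.card S' = 27 := (Subgroup.card_map_of_injective K.subtype_injective).trans hS
  have hinv : ∀ x ∈ S', a * x * a⁻¹ ∈ S' := by
    rintro _ ⟨⟨x, hxK⟩, hx, rfl⟩
    refine ⟨c ⟨x, hxK⟩, ?_, by simp [c]⟩
    have h : c ⟨x, hxK⟩ ∈ ((c • S : Sylow 3 K) : Subgroup K) := ⟨_, hx, rfl⟩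
    rwa [hfix] at h
  let τ : Equiv.Perm S' := Equiv.ofBijective (fun x => ⟨a * x.1 * a⁻¹, hinv _ x.2⟩)
    (Finite.injective_iff_bijective.1 fun x y h => Subtype.ext (by
      have := congrArg Subtype.val h; simpa using this))
  have hτpow : ∀ (n : ℕ) (x : S'), ((τ ^ n) x).1 = a ^ n * x.1 * (a ^ n)⁻¹ := by
    intro n
    induction n with
    | zero => intro x; simp
    | succ n ih =>
      intro x
      rw [pow_succ', Equiv.Perm.mul_apply]
      show a * ((τ ^ n) x).1 * a⁻¹ = _
      rw [ih, pow_succ']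
      group
  have h5 : τ ^ 5 = 1 := Equiv.ext fun x => Subtype.ext (by
    rw [hτpow, ha5]; simp)
  obtain ⟨x, hx1, hxfix⟩ : ∃ x : S', x ≠ 1 ∧ τ x = x := by
    by_contra hne
    simp only [not_exists, not_and] at hne
    have hp : IsPGroup 5 (Subgroup.zpowers τ) := by
      rcases (Nat.dvd_prime (by norm_num : Nat.Prime 5)).1 (orderOf_dvd_of_pow_eq_one h5) with h | h
      · exact IsPGroup.of_card (n := 0) (by rw [Nat.card_zpowers, h, pow_zero])
      · exact IsPGroup.of_card (n := 1) (by rw [Nat.card_zpowers, h, pow_one])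
    have hm := hp.card_modEq_card_fixedPoints S'
    have : Nat.card (MulAction.fixedPoints (Subgroup.zpowers τ) S') = 1 := by
      rw [Nat.card_eq_one_iff_exists]
      refine ⟨⟨1, ?_⟩, ?_⟩
      · rintro ⟨g, hg⟩
        obtain ⟨k, rfl⟩ := Subgroup.mem_zpowers_iff.1 hg
        show (τ ^ k) 1 = 1
        exact Equiv.Perm.zpow_apply_eq_self_of_apply_eq_self (Subtype.ext (by show a * 1 * a⁻¹ = 1; simp)) k
      · rintro ⟨y, hy⟩
        refine Subtype.ext ?_
        by_contra hy1
        exact hne y hy1 (hy ⟨τ, Subgroup.mem_zpowers τ⟩)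
    rw [this, hS'] at hm
    norm_num [Nat.ModEq] at hm
  have hax : Commute a x.1 := by
    have h := congrArg Subtype.val hxfix
    change a * x.1 * a⁻¹ = x.1 at h
    exact mul_inv_eq_iff_eq_mul.1 h
  have h5x := hcomm a x.1 ha hax
  have h27 : orderOf x.1 ∣ 27 := by
    rw [← hS', Subgroup.orderOf_coe]; exact orderOf_dvd_natCard x
  have h1 : orderOf x.1 ∣ 1 := by
    simpa using Nat.dvd_gcd h5x h27
  exact hx1 (Subtype.ext (orderOf_eq_one_iff.1 (Nat.dvd_one.1 h1)))

/-- No subgroup of index 24 in PSU_4(2). -/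
theorem index_psu42 {F : Type*} [Field F] [Fintype F] (hF : Fintype.card F = 4)
    (H : Subgroup (Cfsg.PSU 4 F 2)) : H.index ≠ 24 ∧ H.index ∣ 25920 := by
  obtain ⟨e⟩ := S0822.result (F := F) (K := ZMod 3) hF (ZMod.card 3)
  have hc : Nat.card (Cfsg.PSU 4 F 2) = 25920 := (Nat.card_congr e.toEquiv).trans S3366.card_psp
  have hm := H.card_mul_index
  rw [hc] at hm
  refine ⟨fun h => not_card_1080 (H := H) (by rw [h] at hm; omega) fun x => ?_, ⟨_, by rw [mul_comm, hm]⟩⟩
  have := SpectrumPSp.orderOf_dvd_psp (e x.1)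
  rwa [MulEquiv.orderOf_eq, Subgroup.orderOf_coe] at this

end Cfsg.Agent.MinIndexU
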