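import Cfsg.Agent.Lib.MinIndexU.Fixed
/-
The minimal number of points moved by SU_{2+d}, d ≥ 3, and the index in PSU.
* points_lower, points_lower_two; card_isoLine; index transfer to PSU
* index_psu_lower, index_psu_lower_two, exists_index_isoLine, exists_index_two
-/
set_option autoImplicit false

namespace Cfsg.Agent.MinIndexU

open Cfsg.Agent.Unitary
open Cfsg.Agent.SUMinDegree
open scoped Matrix

variable {F : Type*} [Field F] [Fintype F] {q d : ℕ} (hF : Fintype.card F = q ^ 2)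

theorem isoC_split (hq : 2 ≤ q) {d : ℕ} (hd : 1 ≤ d) :
    isoC q (2 + d) = (q ^ 2 - 1) * q ^ (2 * d + 1) + q ^ 2 * isoC q d + (q ^ 2 - 1) := by
  obtain ⟨j, rfl⟩ : ∃ j, d = j + 1 := ⟨d - 1, by omega⟩
  have hpar : Even (2 + (j + 1)) ↔ Even (j + 1) := by simp [Nat.even_add]
  have e0 : 2 + (j + 1) - 1 = j + 2 := by omega
  have a1 : 1 ≤ q ^ 2 := Nat.one_le_pow _ _ (by omega)
  have a2 : 1 ≤ q ^ (j + 1) := Nat.one_le_pow _ _ (by omega)
  have a3 : 1 ≤ q ^ j := Nat.one_le_pow _ _ (by omega)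
  have a4 : 1 ≤ q ^ (2 + (j + 1)) := Nat.one_le_pow _ _ (by omega)
  have a5 : 1 ≤ q ^ (j + 2) := Nat.one_le_pow _ _ (by omega)
  simp only [isoC, cmin, hpar, e0, Nat.add_sub_cancel]
  split
  · zify [a1, a2, a4]
    ring
  · zify [a1, a3, a5]
    ring

include hF in
theorem normOne_le_isoC_of_even {d : ℕ} (hd : Even d) :
    normCount d q (1 : F) ≤ isoC q d ∨ d = 0 := by
  rcases Nat.eq_zero_or_pos d with h | h
  · exact Or.inr h
  left
  rw [normOne_count hF, if_pos hd, isoC, if_pos hd, mul_comm]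
  exact Nat.mul_le_mul_left _ (Nat.le_succ _)

include hF in
theorem isoC_le_normOne_of_odd {d : ℕ} (hd : Odd d) : isoC q d ≤ normCount d q (1 : F) := by
  rw [normOne_count hF, if_neg (Nat.not_even_iff_odd.2 hd), isoC,
    if_neg (Nat.not_even_iff_odd.2 hd), cmin, mul_comm]
  exact Nat.mul_le_mul_right _ (Nat.sub_le _ _)

include hF in
/-- The isotropic lines are counted by the isotropic vectors. -/
theorem card_isoLine {m : ℕ} (hm2 : 2 ≤ m) :
    Nat.card (IsoLine m F q) * (q ^ 2 - 1) = isoC q m := by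
  have H := hermForm_isHerm hF m
  rw [← tiN_one (F := F) hF hm2]
  congr 1
  refine Nat.card_congr (Equiv.subtypeEquivRight fun W => ?_)
  constructor
  · rintro ⟨a, ha, ha0, rfl⟩
    refine ⟨finrank_span_singleton ha, fun x hx y hy => ?_⟩
    obtain ⟨c, rfl⟩ := Submodule.mem_span_singleton.1 hx
    obtain ⟨c', rfl⟩ := Submodule.mem_span_singleton.1 hy
    rw [H.smul_left, H.smul_right, ha0, mul_zero, mul_zero]
  · rintro ⟨h1, h2⟩
    obtain ⟨a, ha, hspan⟩ := finrank_eq_one_iff'.1 h1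
    refine ⟨a.1, fun h => ha (Subtype.ext h), h2 _ a.2 _ a.2, le_antisymm (fun x hx => ?_)
      ((Submodule.span_singleton_le_iff_mem _ _).2 a.2)⟩
    obtain ⟨c, hc⟩ := hspan ⟨x, hx⟩
    exact Submodule.mem_span_singleton.2 ⟨c, congrArg Subtype.val hc⟩

section Points

variable {Ω : Type*} [MulAction (Cfsg.SU (2 + d) F q) Ω] [Finite Ω]

/-- Counting incidences: points · lines fixing a point = lines · points fixed by a root group. -/
theorem incidence (hd : 1 ≤ d) (htr : ∀ x y : Ω, ∃ g : Cfsg.SU (2 + d) F q, g • x = y) (ω0 : Ω) :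
    ∃ k, Nat.card Ω * k =
      Nat.card (IsoLine (2 + d) F q) * (Fix0 hF d (Ω := Ω)).ncard := by
  classical
  have hpre := isoLine_pretransitive (n := 2 + d) (F := F) hF (by omega)
  let P0 : IsoLine (2 + d) F q := IsoLine.mk (va hF d) (va_ne_zero hF) (va_va hF)
  let fix : IsoLine (2 + d) F q → Ω → Prop := fun p ω => ∀ A ∈ rootGroup hF p, A • ω = ω
  have hfix : ∀ (g : Cfsg.SU (2 + d) F q) p ω, fix p ω → fix (g • p) (g • ω) := by
    intro g p ω h A hA
    have := rootGroup_conj hF g⁻¹ (g • p) hA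
    rw [inv_smul_smul] at this
    have := h _ this
    rwa [inv_inv, mul_smul, mul_smul, inv_smul_eq_iff] at this
  have hF0 : ∀ ω, fix P0 ω ↔ ω ∈ Fix0 hF d := by
    intro ω
    constructor
    · intro h z hz
      refine ⟨tv hF (va hF d) (va_va hF) ⟨z, hz⟩, isE_tv hF ⟨z, hz⟩, h _ ?_⟩
      exact ⟨va hF d, Submodule.mem_span_singleton_self _, z, hz, va_va hF, rfl⟩
    · rintro h A ⟨v, hv, c, hc, hv0, hA⟩
      obtain ⟨α, rfl⟩ := Submodule.mem_span_singleton.1 hv
      have e : A = tv hF (va hF d) (va_va hF)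
          (smulFix hF (α ^ (q + 1)) (pow_q_succ_fixed hF α) ⟨c, hc⟩) := by
        rw [← tv_smul]; exact Subtype.ext (Subtype.ext hA)
      rw [e]
      set θ := smulFix hF (α ^ (q + 1)) (pow_q_succ_fixed hF α) ⟨c, hc⟩
      obtain ⟨t, ht, htω⟩ := h θ.2
      rwa [ht.unique (isE_tv hF θ)] at htω
  choose gp hgp using fun p : IsoLine (2 + d) F q => MulAction.exists_smul_eq (Cfsg.SU (2 + d) F q) P0 p
  choose gw hgw using htr ω0
  refine ⟨Nat.card {p // fix p ω0}, ?_⟩
  rw [← Nat.card_coe_set_eq, ← Nat.card_prod, ← Nat.card_prod]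
  let e1 : IsoLine (2 + d) F q × Fix0 hF d (Ω := Ω) ≃ {pr : IsoLine (2 + d) F q × Ω // fix pr.1 pr.2} :=
    { toFun := fun x => ⟨(x.1, gp x.1 • x.2.1), by
        have := hfix (gp x.1) P0 _ ((hF0 _).2 x.2.2)
        rwa [hgp] at this⟩
      invFun := fun pr => (pr.1.1, ⟨(gp pr.1.1)⁻¹ • pr.1.2, (hF0 _).1 (by
        have := hfix (gp pr.1.1)⁻¹ _ _ pr.2
        rwa [inv_smul_eq_iff.2 (hgp pr.1.1).symm] at this)⟩)
      left_inv := fun x => Prod.ext rfl (Subtype.ext (inv_smul_smul _ _))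
      right_inv := fun pr => Subtype.ext (Prod.ext rfl (smul_inv_smul _ _)) }
  let e2 : Ω × {p // fix p ω0} ≃ {pr : IsoLine (2 + d) F q × Ω // fix pr.1 pr.2} :=
    { toFun := fun x => ⟨(gw x.1 • x.2.1, x.1), by
        have := hfix (gw x.1) _ _ x.2.2
        rwa [hgw] at this⟩
      invFun := fun pr => (pr.1.2, ⟨(gw pr.1.2)⁻¹ • pr.1.1, by
        have := hfix (gw pr.1.2)⁻¹ _ _ pr.2
        rwa [inv_smul_eq_iff.2 (hgw pr.1.2).symm] at this⟩)
      left_inv := fun x => Prod.ext rfl (Subtype.ext (inv_smul_smul _ _))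
      right_inv := fun pr => Subtype.ext (Prod.ext (smul_inv_smul _ _) rfl) }
  exact Nat.card_congr (e2.trans e1.symm)

theorem points_split (hd : 3 ≤ d) (htr : ∀ x y : Ω, ∃ g : Cfsg.SU (2 + d) F q, g • x = y)
    (hnt : ∃ (g : Cfsg.SU (2 + d) F q) (ω : Ω), g • ω ≠ ω) :
    (q + 2) * q ^ (2 * d + 1) ≤ (q + 1) * Nat.card Ω ∨
      isoC q (2 + d) ≤ (q ^ 2 - 1) * Nat.card Ω ∨
      (0 < (Fix0 hF d (Ω := Ω)).ncard ∧
        q ^ (2 * d + 1) + (Fix0 hF d (Ω := Ω)).ncard ≤ Nat.card Ω ∧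
        (q ^ 2 * isoC q d ≤ (q ^ 2 - 1) * (Fix0 hF d (Ω := Ω)).ncard ∨
          (q = 2 ∧ 4 * normCount d q (1 : F) ≤ 3 * (Fix0 hF d (Ω := Ω)).ncard))) := by
  classical
  have e : (q ^ 2) ^ d * q = q ^ (2 * d + 1) := by rw [← pow_mul, pow_succ]
  rcases mov_dichotomy (Ω := Ω) hF hd with h | ⟨hfree, hone⟩
  · left; rwa [e] at h
  right
  obtain ⟨ω1, hω1⟩ := exists_mov hF (by omega) hnt
  have hne := exists_fix hF hd ⟨ω1⟩ hfree hone
  by_cases hfull : ∀ ω ∈ Fix0 hF d (Ω := Ω), Xof hF d ω = ⊤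
  · exact Or.inl (ti_bound hF hd htr hnt hne hfull)
  right
  simp only [not_forall] at hfull
  obtain ⟨ω, hω, hX⟩ := hfull
  refine ⟨(Set.ncard_pos (Set.toFinite _)).2 hne, ?_, fix_bound hF hd hω hX⟩
  have horb : MulAction.orbit (radQ hF d) ω1 ⊆ (Fix0 hF d (Ω := Ω))ᶜ := by
    rintro _ ⟨a, rfl⟩ h
    change skewGrp hF ≤ Zof hF d (a.1 • ω1) at h
    rw [(lab_radQ hF a.2 ω1).2] at h
    exact hω1 h
  have hcard := card_orbit_mul (d := d) hF ω1
  rw [(hfree ω1 hω1).1, (hfree ω1 hω1).2, AddSubgroup.card_bot, AddSubgroup.card_bot, mul_one,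
    mul_one, Nat.card_coe_set_eq, e] at hcard
  have h1 := Set.ncard_le_ncard horb
  have h2 := Set.ncard_add_ncard_compl (Fix0 hF d (Ω := Ω))
  omega

include hF in
/-- At least as many points as isotropic lines, except over four elements in even dimension. -/
theorem points_lower (hd : 3 ≤ d) (h : 3 ≤ q ∨ Odd d)
    (htr : ∀ x y : Ω, ∃ g : Cfsg.SU (2 + d) F q, g • x = y)
    (hnt : ∃ (g : Cfsg.SU (2 + d) F q) (ω : Ω), g • ω ≠ ω) :
    Nat.card (IsoLine (2 + d) F q) ≤ Nat.card Ω := by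
  have hq := two_le_q hF
  have h4 : 4 ≤ q ^ 2 := Nat.pow_le_pow_left hq 2
  have hL := card_isoLine (F := F) hF (show 2 ≤ 2 + d by omega)
  have hsplit := isoC_split hq (show 1 ≤ d by omega)
  have done : isoC q (2 + d) ≤ (q ^ 2 - 1) * Nat.card Ω →
      Nat.card (IsoLine (2 + d) F q) ≤ Nat.card Ω := fun h' => by
    rw [← hL, mul_comm] at h'
    exact Nat.le_of_mul_le_mul_left h' (by omega)
  rcases points_split hF hd htr hnt with h1 | h1 | ⟨hpos, hsum, hb⟩
  · refine done (Nat.le_of_mul_le_mul_left ?_ (show 0 < q + 1 by omega))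
    obtain ⟨j, rfl⟩ : ∃ j, d = j + 3 := ⟨d - 3, by omega⟩
    have key : q ^ 2 * isoC q (j + 3) + (q ^ 2 - 1) ≤ (q - 1) * q ^ (2 * (j + 3) + 1) := by
      rcases Nat.eq_or_lt_of_le hq with hq2 | hq3
      · have hodd : Odd (j + 3) := h.resolve_left (by omega)
        subst hq2
        rw [isoC, if_neg (Nat.not_even_iff_odd.2 hodd), cmin]
        obtain ⟨A, hA⟩ : ∃ A, 2 ^ (j + 2) = A + 1 :=
          ⟨2 ^ (j + 2) - 1, by have := Nat.one_le_pow (j + 2) 2 (by omega); omega⟩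
        have e1 : (2 : ℕ) ^ (2 * (j + 3) + 1) = 8 * (A + 1) * (A + 1) := by
          rw [← hA]; ring
        rw [show j + 3 - 1 = j + 2 by omega, show (2 : ℕ) ^ (j + 3) = 2 * (A + 1) by
          rw [pow_succ', hA], hA, Nat.add_sub_cancel, e1]
        norm_num
        nlinarith
      · refine le_trans (Nat.add_le_add (Nat.mul_le_mul_left _ (isoC_le hq (by omega)))
          (Nat.sub_le _ _)) ?_
        rw [show 2 * (j + 3) - 1 = 2 * j + 5 by omega, show 2 * (j + 3) + 1 = 2 * j + 5 + 2 by omega,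
          pow_add q (2 * j + 5) 2]
        have e3 : q ^ (j + 3) + 1 ≤ q ^ (2 * j + 5) := Nat.pow_lt_pow_right (by omega) (by omega)
        calc q ^ 2 * (q ^ (2 * j + 5) + q ^ (j + 3)) + q ^ 2
            = q ^ 2 * (q ^ (2 * j + 5) + (q ^ (j + 3) + 1)) := by ring
          _ ≤ q ^ 2 * (2 * q ^ (2 * j + 5)) := Nat.mul_le_mul_left _ (by omega)
          _ = 2 * (q ^ (2 * j + 5) * q ^ 2) := by ring
          _ ≤ _ := Nat.mul_le_mul_right _ (by omega)
    have e : (q ^ 2 - 1) * (q + 2) = (q + 1) * (q ^ 2 - 1) + (q + 1) * (q - 1) := by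
      obtain ⟨r, rfl⟩ : ∃ r, q = r + 1 := ⟨q - 1, by omega⟩
      obtain ⟨B, hB⟩ : ∃ B, (r + 1) ^ 2 = B + 1 := ⟨(r + 1) ^ 2 - 1, by omega⟩
      rw [hB, Nat.add_sub_cancel, Nat.add_sub_cancel]
      have : B = r * r + 2 * r := by rw [sq] at hB; linarith
      rw [this]; ring
    calc (q + 1) * isoC q (2 + (j + 3))
        = (q + 1) * (q ^ 2 - 1) * q ^ (2 * (j + 3) + 1)
          + (q + 1) * (q ^ 2 * isoC q (j + 3) + (q ^ 2 - 1)) := by rw [hsplit]; ring
      _ ≤ (q + 1) * (q ^ 2 - 1) * q ^ (2 * (j + 3) + 1)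
          + (q + 1) * ((q - 1) * q ^ (2 * (j + 3) + 1)) :=
            Nat.add_le_add_left (Nat.mul_le_mul_left _ key) _
      _ = (q ^ 2 - 1) * ((q + 2) * q ^ (2 * (j + 3) + 1)) := by rw [← mul_assoc (q ^ 2 - 1), e]; ring
      _ ≤ (q ^ 2 - 1) * ((q + 1) * Nat.card Ω) := Nat.mul_le_mul_left _ h1
      _ = _ := by ring
  · exact done h1
  · have hb' : q ^ 2 * isoC q d ≤ (q ^ 2 - 1) * (Fix0 hF d (Ω := Ω)).ncard := by
      rcases hb with hb | ⟨hq2, hb⟩
      · exact hb
      · have hodd : Odd d := h.resolve_left (by omega)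
        have := isoC_le_normOne_of_odd (F := F) hF hodd
        subst hq2
        norm_num
        omega
    have hlow : Nat.card (IsoLine (2 + d) F q) ≤ Nat.card Ω + 1 := by
      refine Nat.le_of_mul_le_mul_right ?_ (show 0 < q ^ 2 - 1 by omega)
      rw [hL, hsplit]
      calc (q ^ 2 - 1) * q ^ (2 * d + 1) + q ^ 2 * isoC q d + (q ^ 2 - 1)
          ≤ (q ^ 2 - 1) * q ^ (2 * d + 1) + (q ^ 2 - 1) * (Fix0 hF d (Ω := Ω)).ncard + (q ^ 2 - 1) :=
            Nat.add_le_add_right (Nat.add_le_add_left hb' _) _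
        _ = (q ^ 2 - 1) * (q ^ (2 * d + 1) + (Fix0 hF d (Ω := Ω)).ncard + 1) := by ring
        _ ≤ (q ^ 2 - 1) * (Nat.card Ω + 1) := Nat.mul_le_mul_left _ (by omega)
        _ = _ := mul_comm _ _
    by_contra hlt
    have heq : Nat.card (IsoLine (2 + d) F q) = Nat.card Ω + 1 := by omega
    obtain ⟨ω, -⟩ := (Set.ncard_pos (Set.toFinite _)).1 hpos
    obtain ⟨k, hk⟩ := incidence hF (by omega) htr ω
    rw [heq] at hk
    have hdvd : Nat.card Ω ∣ (Fix0 hF d (Ω := Ω)).ncard :=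
      ((Nat.coprime_self_add_right (m := Nat.card Ω) (n := 1)).2 (Nat.coprime_one_right _)).dvd_of_dvd_mul_left
        ⟨k, hk.symm⟩
    have := Nat.le_of_dvd hpos hdvd
    have : 0 < q ^ (2 * d + 1) := Nat.pow_pos (by omega)
    omega

include hF in
/-- Over four elements in even dimension: at least the norm-one lines. -/
theorem points_lower_two (hd : 3 ≤ d) (hq2 : q = 2) (heven : Even d)
    (htr : ∀ x y : Ω, ∃ g : Cfsg.SU (2 + d) F q, g • x = y)
    (hnt : ∃ (g : Cfsg.SU (2 + d) F q) (ω : Ω), g • ω ≠ ω) :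
    normCount (2 + d) q (1 : F) ≤ 3 * Nat.card Ω := by
  have he : Even (2 + d) := by simpa [Nat.even_add] using heven
  have hN : normCount (2 + d) q (1 : F) = 3 * q ^ (2 * d + 1) + 4 * normCount d q (1 : F) := by
    rw [normOne_count hF, normOne_count hF, if_pos he, if_pos heven, hq2]
    obtain ⟨j, rfl⟩ : ∃ j, d = j + 1 := ⟨d - 1, by omega⟩
    rw [show 2 + (j + 1) - 1 = j + 2 by omega, Nat.add_sub_cancel]
    have a1 : 1 ≤ 2 ^ (j + 1) := Nat.one_le_pow _ _ (by omega)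
    have a2 : 1 ≤ 2 ^ (2 + (j + 1)) := Nat.one_le_pow _ _ (by omega)
    zify [a1, a2]
    ring
  rcases points_split hF hd htr hnt with h1 | h1 | ⟨-, hsum, hb⟩
  · subst hq2
    have h4 : 4 * normCount d 2 (1 : F) ≤ 2 ^ (2 * d + 1) := by
      rw [normOne_count hF, if_pos heven]
      obtain ⟨j, rfl⟩ : ∃ j, d = j + 1 := ⟨d - 1, by omega⟩
      rw [Nat.add_sub_cancel, show 2 ^ (2 * (j + 1) + 1) = 4 * (2 ^ j * 2 ^ (j + 1)) by ring]
      exact Nat.mul_le_mul_left _ (Nat.mul_le_mul_left _ (Nat.sub_le _ _))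
    omega
  · subst hq2
    have := (normOne_le_isoC_of_even (F := F) hF he).resolve_right (by omega)
    norm_num at h1
    omega
  · subst hq2
    rcases hb with hb | ⟨-, hb⟩
    · have := (normOne_le_isoC_of_even (F := F) hF heven).resolve_right (by omega)
      norm_num at hb
      omega
    · omega

end Points

/-! ### Indices -/

section Index

variable {G : Type*} [Group G] [Finite G]

theorem index_action (K : Subgroup G) (hK : K ≠ ⊤) :
    (∀ x y : G ⧸ K, ∃ g : G, g • x = y) ∧ ∃ (g : G) (x : G ⧸ K), g • x ≠ x := by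
  refine ⟨fun x y => MulAction.exists_smul_eq G x y, ?_⟩
  obtain ⟨g, hg⟩ : ∃ g, g ∉ K := by
    by_contra h
    simp only [not_exists, not_not] at h
    exact hK (eq_top_iff.2 fun x _ => h x)
  refine ⟨g, (QuotientGroup.mk 1 : G ⧸ K), fun h => hg ?_⟩
  have h' : (QuotientGroup.mk (g * 1) : G ⧸ K) = QuotientGroup.mk 1 := h
  rw [mul_one, QuotientGroup.eq, mul_one] at h'
  simpa using inv_mem h'

theorem center_stabilizer_index {X : Type*} [MulAction G X] (htr : ∀ x y : X, ∃ g : G, g • x = y) (x : X)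
    (hZ : ∀ z ∈ Subgroup.center G, z • x = x) :
    ∃ H : Subgroup (G ⧸ Subgroup.center G), H.index = Nat.card X := by
  refine ⟨(MulAction.stabilizer G x).map (QuotientGroup.mk' _), ?_⟩
  rw [Subgroup.index_map_eq _ (QuotientGroup.mk'_surjective _) (by
    rw [QuotientGroup.ker_mk']; exact fun z hz => hZ z hz)]
  have : MulAction.IsPretransitive G X := ⟨htr⟩
  exact MulAction.index_stabilizer_of_transitive G x

end Index

include hF in
theorem index_psu_lower (n : ℕ) (hn : 5 ≤ n) (h : 3 ≤ q ∨ Odd n) (H : Subgroup (Cfsg.PSU n F q))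
    (hH : H ≠ ⊤) : isoC q n ≤ H.index * (q ^ 2 - 1) := by
  obtain ⟨d, rfl⟩ : ∃ d, n = 2 + d := ⟨n - 2, by omega⟩
  let K := H.comap (QuotientGroup.mk' (Subgroup.center (Cfsg.SU (2 + d) F q)))
  have hi : K.index = H.index := H.index_comap_of_surjective (QuotientGroup.mk'_surjective _)
  have hK : K ≠ ⊤ := fun e => hH (Subgroup.index_eq_one.1 (hi ▸ Subgroup.index_eq_one.2 e))
  obtain ⟨htr, hnt⟩ := index_action K hK
  have hodd : 3 ≤ q ∨ Odd d := h.imp_right fun ho => Nat.odd_iff.2 (by have := Nat.odd_iff.1 ho; omega)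
  have := points_lower hF (d := d) (by omega) hodd htr hnt
  rw [← hi, ← card_isoLine (F := F) hF (show 2 ≤ 2 + d by omega)]
  exact Nat.mul_le_mul_right _ this

include hF in
theorem index_psu_lower_two (n : ℕ) (hn : 5 ≤ n) (hq2 : q = 2) (he : Even n)
    (H : Subgroup (Cfsg.PSU n F q)) (hH : H ≠ ⊤) : normCount n q (1 : F) ≤ 3 * H.index := by
  obtain ⟨d, rfl⟩ : ∃ d, n = 2 + d := ⟨n - 2, by omega⟩
  let K := H.comap (QuotientGroup.mk' (Subgroup.center (Cfsg.SU (2 + d) F q)))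
  have hi : K.index = H.index := H.index_comap_of_surjective (QuotientGroup.mk'_surjective _)
  have hK : K ≠ ⊤ := fun e => hH (Subgroup.index_eq_one.1 (hi ▸ Subgroup.index_eq_one.2 e))
  obtain ⟨htr, hnt⟩ := index_action K hK
  have := points_lower_two hF (d := d) (by omega) hq2 (Nat.even_iff.2 (by have := Nat.even_iff.1 he; omega)) htr hnt
  rw [← hi]
  exact this

include hF in
theorem exists_index_isoLine (n : ℕ) (hn : 3 ≤ n) :
    ∃ H : Subgroup (Cfsg.PSU n F q), H.index * (q ^ 2 - 1) = isoC q n := by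
  obtain ⟨r, s, e, hr, hs, hrs, -⟩ := exists_model (n := n) hF hn
  have H := hermForm_isHerm hF n
  have hr' : r ≠ 0 := fun h => by simp [h, H.zero_left] at hrs
  have := isoLine_pretransitive (n := n) (F := F) hF hn
  obtain ⟨K, hK⟩ := center_stabilizer_index (G := Cfsg.SU n F q) (X := IsoLine n F q)
    (fun x y => MulAction.exists_smul_eq _ x y) (IsoLine.mk r hr' hr) fun z hz => by
      obtain ⟨c, hc⟩ := (mem_center_SU_iff hF (by omega) z).1 hz
      rw [IsoLine.smul_mk]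
      exact IsoLine.mk_eq_iff.2 ⟨c, by rw [suAct, hc, Matrix.scalar_apply]; ext i; simp [Matrix.mulVec_diagonal]⟩
  exact ⟨K, by rw [hK]; exact card_isoLine hF (by omega)⟩

/-- The norm-one lines. -/
def OneLine (n : ℕ) (F : Type*) [Field F] (q : ℕ) : Type _ :=
  {W : Submodule F (Fin n → F) // ∃ v, Cfsg.hermForm n F q v v = 1 ∧ W = F ∙ v}

/-- SU acts on norm-one lines. -/
def oneLineAction (n : ℕ) : MulAction (Cfsg.SU n F q) (OneLine n F q) where
  smul g p := ⟨p.1.map (Matrix.mulVecLin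
      ((g : Matrix.SpecialLinearGroup (Fin n) F) : Matrix (Fin n) (Fin n) F)), by
    obtain ⟨v, h1, hp⟩ := p.2
    refine ⟨suAct g v, (suAct_herm g v v).trans h1, ?_⟩
    rw [hp, Submodule.map_span, Set.image_singleton]; rfl⟩
  one_smul p := Subtype.ext (by
    show Submodule.map _ p.1 = p.1
    simp)
  mul_smul g h p := Subtype.ext (by
    show Submodule.map _ p.1 = Submodule.map _ (Submodule.map _ p.1)
    rw [← Submodule.map_comp, ← Matrix.mulVecLin_mul]
    rfl)

include hF in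
theorem exists_index_one (n : ℕ) (hn : 3 ≤ n) :
    ∃ H : Subgroup (Cfsg.PSU n F q), H.index * (q + 1) = normCount n q (1 : F) := by
  classical
  have H := hermForm_isHerm hF n
  have := oneLineAction (F := F) (q := q) n
  letI := oneLineAction (F := F) (q := q) n
  let mk : {v : Fin n → F // Cfsg.hermForm n F q v v = 1} → OneLine n F q :=
    fun v => ⟨F ∙ v.1, v.1, v.2, rfl⟩
  have hsm : ∀ (g : Cfsg.SU n F q) v, (g • mk v).1 = F ∙ suAct g v.1 := fun g v => by
    show Submodule.map _ (F ∙ v.1) = _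
    rw [Submodule.map_span, Set.image_singleton]; rfl
  have hne0 : ∀ v : {v : Fin n → F // Cfsg.hermForm n F q v v = 1}, v.1 ≠ 0 := fun v e => by
    have := v.2; rw [e, H.zero_left] at this; exact zero_ne_one this
  have htr : ∀ x y : OneLine n F q, ∃ g : Cfsg.SU n F q, g • x = y := by
    rintro ⟨_, v, hv, rfl⟩ ⟨_, w, hw, rfl⟩
    obtain ⟨g, hg⟩ := move_one hF hn (hne0 ⟨v, hv⟩) (hne0 ⟨w, hw⟩) (hv.trans hw.symm)
    exact ⟨g, Subtype.ext ((hsm g ⟨v, hv⟩).trans (by rw [hg]))⟩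
  let v0 : {v : Fin n → F // Cfsg.hermForm n F q v v = 1} :=
    ⟨Pi.single ⟨0, by omega⟩ 1, (single_orthonormal hF n).1 _⟩
  obtain ⟨K, hK⟩ := center_stabilizer_index htr (mk v0) fun z hz => by
    obtain ⟨c, hc1, hc2, hc⟩ := center_SU_scalar hF (by omega) hz
    refine Subtype.ext ((hsm z v0).trans ?_)
    have e : suAct z v0.1 = c • v0.1 := by
      rw [suAct, hc, Matrix.scalar_apply]; ext i; simp [Matrix.mulVec_diagonal]
    rw [e]
    exact Submodule.span_singleton_smul_eq (IsUnit.mk0 c fun h => by simp [h] at hc2) _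
  refine ⟨K, ?_⟩
  rw [hK]
  have hfin : ∀ p : OneLine n F q, Nat.card {v // mk v = p} = q + 1 := by
    rintro ⟨_, w, hw, rfl⟩
    refine Eq.trans ?_ (card_norm_one hF)
    refine (Nat.card_eq_of_bijective (fun c : {x : F // x ^ (q + 1) = 1} =>
      (⟨⟨c.1 • w, by rw [H.smul_left, H.smul_right, hw, mul_one, ← pow_succ', c.2]⟩,
        Subtype.ext (Submodule.span_singleton_smul_eq
          (IsUnit.mk0 c.1 fun h => by simpa [h] using c.2) w)⟩ :
        {v // mk v = ⟨F ∙ w, w, hw, rfl⟩})) ⟨?_, ?_⟩).symm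
    · intro a b h
      have h' : a.1 • w = b.1 • w := congrArg (fun z => z.1.1) h
      exact Subtype.ext (smul_left_injective F (hne0 ⟨w, hw⟩) h')
    · rintro ⟨⟨v, hv⟩, hp⟩
      have hp' : (F ∙ v) = (F ∙ w) := congrArg Subtype.val hp
      have hmem : v ∈ (F ∙ w) := by
        rw [← hp']; exact Submodule.mem_span_singleton_self v
      obtain ⟨c, rfl⟩ := Submodule.mem_span_singleton.1 hmem
      refine ⟨⟨c, ?_⟩, rfl⟩
      rw [H.smul_left, H.smul_right, hw, mul_one, ← pow_succ'] at hv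
      exact hv
  have : Finite (OneLine n F q) := Subtype.finite
  have : Fintype (OneLine n F q) := Fintype.ofFinite _
  rw [normCount, ← Nat.card_congr (Equiv.sigmaFiberEquiv mk), Nat.card_sigma,
    Finset.sum_congr rfl fun p _ => hfin p, Finset.sum_const, smul_eq_mul, Finset.card_univ,
    ← Nat.card_eq_fintype_card]

end Cfsg.Agent.MinIndexU
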