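import Cfsg.Agent.Lib.MinIndexU.FourMain
import Cfsg.Agent.Lib.MinIndexU.Main
import Cfsg.Agent.Lib.MinIndexU.FourTwo
/-
The minimal index in PSU_4.
* index_psu_four_lower; exists_index_plane
-/
set_option autoImplicit false

namespace Cfsg.Agent.MinIndexU

open Cfsg.Agent.Unitary
open Cfsg.Agent.SUMinDegree
open scoped Matrix

variable {F : Type*} [Field F] [Fintype F] {q : ℕ} (hF : Fintype.card F = q ^ 2)

include hF in
theorem tiN_four_two : tiN F q 4 2 = (q + 1) * (q ^ 3 + 1) := by
  have hq := two_le_q hF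
  have h := tiN_mul_den (F := F) (m := 4) (k := 2) hF (by omega)
  simp [tiD, tiP, Finset.prod_range_succ, isoC, show Even 4 by decide] at h
  rw [show (q ^ 2) ^ 2 = q ^ 4 by ring] at h
  have hpos : 0 < (q ^ 2 - 1) * (q ^ 4 - 1) :=
    Nat.mul_pos (Nat.sub_pos_of_lt (Nat.one_lt_pow (by omega) hq))
      (Nat.sub_pos_of_lt (Nat.one_lt_pow (by omega) hq))
  refine Nat.eq_of_mul_eq_mul_right hpos ?_
  rw [h]; ring

include hF in
theorem index_psu_four_lower (H : Subgroup (Cfsg.PSU 4 F q)) (hH : H ≠ ⊤) :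
    (q + 1) * (q ^ 3 + 1) ≤ H.index := by
  let K := H.comap (QuotientGroup.mk' (Subgroup.center (Cfsg.SU 4 F q)))
  have hi : K.index = H.index := H.index_comap_of_surjective (QuotientGroup.mk'_surjective _)
  have hK : K ≠ ⊤ := fun e => hH (Subgroup.index_eq_one.1 (hi ▸ Subgroup.index_eq_one.2 e))
  obtain ⟨htr, hnt⟩ := index_action K hK
  rcases four_points hF (Ω := Cfsg.SU (2 + 2) F q ⧸ K) htr hnt with h | ⟨hq2, h⟩
  · rw [← hi]; exact h
  · change 24 ≤ K.index at h
    rw [hi] at h
    subst hq2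
    obtain ⟨h24, hdvd⟩ := index_psu42 (F := F) (by rw [hF]; norm_num) H
    have e : H.index < 27 → H.index ∣ 25920 → 24 ≤ H.index → H.index = 24 := by
      generalize H.index = i
      intro a b c
      interval_cases i <;> omega
    by_contra hlt
    norm_num at hlt
    exact h24 (e hlt hdvd h)

/-- The totally isotropic planes. -/
def TIPlane (F : Type*) [Field F] (q : ℕ) : Type _ :=
  {W : Submodule F (Fin 4 → F) // IsTISubspace q 2 W}

/-- SU acts on the totally isotropic planes. -/
def tiPlaneAction : MulAction (Cfsg.SU 4 F q) (TIPlane F q) where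
  smul g p := ⟨p.1.map (Matrix.mulVecLin
      ((g : Matrix.SpecialLinearGroup (Fin 4) F) : Matrix (Fin 4) (Fin 4) F)), by
    obtain ⟨h1, h2⟩ := p.2
    refine ⟨?_, ?_⟩
    · rw [← LinearEquiv.finrank_eq (Submodule.equivMapOfInjective _ (fun a b e => ?_) p.1), h1]
      have := congrArg (suAct g⁻¹) (show suAct g a = suAct g b from e)
      simpa [suAct_inv_suAct] using this
    · rintro _ ⟨a, ha, rfl⟩ _ ⟨b, hb, rfl⟩
      exact (suAct_herm g a b).trans (h2 a ha b hb)⟩
  one_smul p := Subtype.ext (by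
    show Submodule.map _ p.1 = p.1
    simp)
  mul_smul g h p := Subtype.ext (by
    show Submodule.map _ p.1 = Submodule.map _ (Submodule.map _ p.1)
    rw [← Submodule.map_comp, ← Matrix.mulVecLin_mul]
    rfl)

include hF in
theorem exists_index_plane :
    ∃ H : Subgroup (Cfsg.PSU 4 F q), H.index = (q + 1) * (q ^ 3 + 1) := by
  classical
  letI := tiPlaneAction (F := F) (q := q)
  have hN : Nat.card (TIPlane F q) = (q + 1) * (q ^ 3 + 1) := tiN_four_two hF
  haveI : Nonempty (TIPlane F q) := (Nat.card_pos_iff.1 (by rw [hN]; positivity)).1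
  obtain ⟨p⟩ := (inferInstance : Nonempty (TIPlane F q))
  have hco : ∀ (g : Cfsg.SU 4 F q) (p : TIPlane F q), ((g • p).1 : Set (Fin 4 → F)) = suAct g '' p.1 :=
    fun g p => rfl
  have htr : ∀ x y : TIPlane F q, ∃ g : Cfsg.SU 4 F q, g • x = y := fun x y => by
    obtain ⟨g, hg⟩ := move_ti hF (by omega) (by omega) x.2 y.2
    exact ⟨g, Subtype.ext (SetLike.coe_injective ((hco g x).trans hg))⟩
  obtain ⟨K, hK⟩ := center_stabilizer_index htr p fun z hz => by
    obtain ⟨c, hc1, hc2, hc⟩ := center_SU_scalar hF (by omega) hz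
    refine Subtype.ext (SetLike.coe_injective ((hco z p).trans ?_))
    have e : ∀ x, suAct z x = c • x := fun x => by
      rw [suAct, hc, Matrix.scalar_apply]; ext i; simp [Matrix.mulVec_diagonal]
    have hc0 : c ≠ 0 := fun h => by simp [h] at hc2
    ext x
    constructor
    · rintro ⟨y, hy, rfl⟩
      rw [e]
      exact p.1.smul_mem c hy
    · exact fun hx => ⟨c⁻¹ • x, p.1.smul_mem _ hx, by rw [e, smul_inv_smul₀ hc0]⟩
  exact ⟨K, by rw [hK, hN]⟩

end Cfsg.Agent.MinIndexU
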