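import Cfsg.Agent.Lib.MinIndexU.FourMoved
import Cfsg.Agent.Lib.MinIndexU.Fixed
/-
The points of SU_4.
* four_lift: lifts of Levi elements stabilising a label; line_impossible, real_impossible
* four_fix_ge; four_points; four_points_two
-/
set_option autoImplicit false

namespace Cfsg.Agent.MinIndexU

open Cfsg.Agent.Unitary
open Cfsg.Agent.SUMinDegree
open scoped Matrix

variable {F : Type*} [Field F] [Fintype F] {q : ℕ} (hF : Fintype.card F = q ^ 2)
variable {Ω : Type*} [MulAction (Cfsg.SU (2 + 2) F q) Ω] [Finite Ω]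

local notation "h2" => Cfsg.hermForm 2 F q
local notation "h4" => Cfsg.hermForm (2 + 2) F q
local notation "V2" => (Fin 2 → F)

theorem four_lift {ω : Ω} (hω : ω ∈ Mov0 hF 2) (hM : (Mov0 hF 2 (Ω := Ω)).ncard < (q + 1) * (q ^ 3 + 1))
    (g : lev hF 2) (hg : rhoX hF 2 g '' (Xof hF 2 ω : Set V2) = Xof hF 2 ω) :
    ∃ (a : Cfsg.SU (2 + 2) F q) (w : V2) (z : F), IsE hF a w z ∧ a • g.1 • ω = ω := by
  classical
  have hq := two_le_q hF
  obtain ⟨hZ, hX, hT, -, -⟩ := (four_moved hF hω).resolve_left (by omega)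
  by_contra hne
  simp only [not_exists, not_and] at hne
  set L := Set.range fun g : lev hF 2 => lab hF 2 (g.1 • ω) with hL
  have hlab : lab hF 2 (g.1 • ω) = lab hF 2 ω := by
    show ((Xof hF 2 (g.1 • ω) : Set V2), (Zof hF 2 (g.1 • ω) : Set F)) = _
    rw [(lab_lev hF g ω).1, (lab_lev hF g ω).2, hg]
    refine Prod.ext rfl ?_
    show _ = (Zof hF 2 ω : Set F)
    rw [hZ]
    simp
  have hLT : q + 1 ≤ L.ncard := by
    refine hT.trans ((Set.ncard_le_ncard (t := Prod.fst '' L) ?_).trans (Set.ncard_image_le (Set.toFinite _)))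
    rintro _ ⟨g, rfl⟩
    exact ⟨_, ⟨g, rfl⟩, (lab_lev hF g ω).1⟩
  set L' := L \ {lab hF 2 ω}
  have hc := card_labels_mul_le (Ω := Ω) hF L' (s := q ^ 2) (fun l hl => by
      obtain ⟨⟨g, rfl⟩, -⟩ := hl
      exact ⟨_, rfl⟩) (fun l hl => by
      obtain ⟨⟨g, rfl⟩, -⟩ := hl
      rw [lab_size hF ω g, hX, hZ, AddSubgroup.card_bot, mul_one])
  set S := {x : Ω | lab hF 2 x ∈ L'}
  have hS : q ^ 4 ≤ S.ncard := by
    refine Nat.le_of_mul_le_mul_left ?_ (show 0 < q ^ 2 by positivity)
    have hL' : q ≤ (L \ {lab hF 2 ω}).ncard := by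
      have := Set.le_ncard_sdiff {lab hF 2 ω} L
      rw [Set.ncard_singleton] at this
      omega
    calc q ^ 2 * q ^ 4 = q * ((q ^ 2) ^ 2 * q) := by ring
      _ ≤ _ := Nat.mul_le_mul_right _ hL'
      _ ≤ _ := hc
  have horb : ∀ x, lab hF 2 x = lab hF 2 ω →
      MulAction.orbit (radQ hF 2) x ⊆ Mov0 hF 2 \ S ∧ (MulAction.orbit (radQ hF 2) x).ncard = q ^ 3 := by
    intro x hx
    have hXx : (Xof hF 2 x : Set V2) = Xof hF 2 ω := congrArg Prod.fst hx
    have hZx : (Zof hF 2 x : Set F) = Zof hF 2 ω := congrArg Prod.snd hx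
    refine ⟨?_, ?_⟩
    · rintro _ ⟨a, rfl⟩
      obtain ⟨e1, e2⟩ := lab_radQ hF a.2 x
      refine ⟨fun hle => hω fun z hz => ?_, fun hS => hS.2 ?_⟩
      · show z ∈ (Zof hF 2 ω : Set F)
        rw [← hZx]
        exact e2 ▸ hle hz
      · show lab hF 2 (a.1 • x) = lab hF 2 ω
        rw [← hx]
        show ((Xof hF 2 _ : Set V2), (Zof hF 2 _ : Set F)) = _
        rw [e1, e2]
        rfl
    · have := card_orbit_mul (d := 2) hF x
      have c1 : Nat.card (Xof hF 2 x) = q ^ 2 := by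
        rw [← hX]
        show Nat.card ((Xof hF 2 x : Set V2)) = _
        rw [hXx]; rfl
      have c2 : Nat.card (Zof hF 2 x) = 1 := by
        show Nat.card ((Zof hF 2 x : Set F)) = _
        rw [hZx, hZ]; simp
      rw [c1, c2, mul_one, Nat.card_coe_set_eq] at this
      refine Nat.eq_of_mul_eq_mul_right (show 0 < q ^ 2 by positivity) (this.trans ?_)
      ring
  have hdisj : Disjoint (MulAction.orbit (radQ hF 2) ω) (MulAction.orbit (radQ hF 2) (g.1 • ω)) := by
    rw [Set.disjoint_left]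
    rintro _ ⟨a, rfl⟩ ⟨b, hb⟩
    obtain ⟨w, z, hwz⟩ := (a⁻¹ * b).2
    refine hne _ w z hwz ?_
    show (a⁻¹ * b) • g.1 • ω = ω
    rw [mul_smul, inv_smul_eq_iff]
    exact hb
  obtain ⟨o1, c1⟩ := horb ω rfl
  obtain ⟨o2, c2⟩ := horb _ hlab
  have hu := Set.ncard_le_ncard (Set.union_subset o1 o2)
  rw [Set.ncard_union_eq hdisj (Set.toFinite _) (Set.toFinite _), c1, c2] at hu
  have hSM : S ⊆ Mov0 hF 2 := by
    intro x hx
    obtain ⟨⟨g, hg⟩, -⟩ := hx
    intro hle
    refine mov_lev hF hω g fun z hz => ?_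
    show z ∈ (Zof hF 2 (g.1 • ω) : Set F)
    rw [show (Zof hF 2 (g.1 • ω) : Set F) = Zof hF 2 x from congrArg Prod.snd hg]
    exact hle hz
  have h2' := Set.ncard_sdiff_add_ncard_of_subset hSM
  have hq3 : q + 1 ≤ q ^ 3 := by
    calc q + 1 ≤ q * q := by nlinarith
      _ ≤ q ^ 3 := by rw [← sq]; exact Nat.pow_le_pow_right (by omega) (by omega)
  have : (q + 1) * (q ^ 3 + 1) = q ^ 4 + q ^ 3 + (q + 1) := by ring
  omega

omit [Finite Ω] in
/-- If no point is fixed by a root group element, no transvection fixes a point. -/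
theorem no_transvection (hall : ∀ x : Ω, Zof hF 2 x = ⊥) {v : Fin (2 + 2) → F} (hv : v ≠ 0)
    (hvv : h4 v v = 0) {θ : skewGrp hF} (hθ : θ.1 ≠ 0) {x : Ω} : tv hF v hvv θ • x ≠ x := by
  intro hfix
  obtain ⟨g, hg⟩ := su_transitive_iso hF (by omega) hv hvv (va_ne_zero hF (d := 2)) (va_va hF)
  have e : g * tv hF v hvv θ * g⁻¹ = tv hF (va hF 2) (va_va hF) θ := by
    rw [tv_conj, mul_inv_cancel_right, tv_congr hF (hw := va_va hF) hg rfl]
  have hmem : θ.1 ∈ Zof hF 2 (g • x) := ⟨_, isE_tv hF θ, by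
    rw [← e, mul_smul, mul_smul, inv_smul_smul, hfix]⟩
  rw [hall, AddSubgroup.mem_bot] at hmem
  exact hθ hmem

theorem line_impossible (hall : ∀ x : Ω, Zof hF 2 x = ⊥)
    (hM : (Mov0 hF 2 (Ω := Ω)).ncard < (q + 1) * (q ^ 3 + 1)) {ω : Ω} (hω : ω ∈ Mov0 hF 2) {c : V2}
    (hc0 : c ≠ 0) (hc : h2 c c = 0) (hline : ∀ x ∈ Xof hF 2 ω, ∃ l : F, x = l • c)
    (hXc : ∀ l : F, l • c ∈ Xof hF 2 ω) : False := by
  classical
  have hq := two_le_q hF
  have H := hermForm_isHerm hF 2
  have H4 := hermForm_isHerm hF (2 + 2)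
  obtain ⟨c0, c1⟩ := iso_coord_ne hF hc0 hc
  choose e z he heω using hXc
  have hzskew : ∀ l, z l + z l ^ q = 0 := fun l => by
    have h := (he l).param
    rwa [herm_smul_zero hF l hc, add_zero] at h
  have uniq : ∀ {a : Cfsg.SU (2 + 2) F q} {l s : F}, IsE hF a (l • c) s → a • ω = ω → s = z l := by
    intro a l s ha haω
    have h := (he l).inv.mul ha
    rw [neg_add_cancel, H.neg_right hF, herm_smul_zero hF l hc, sub_zero, sub_neg_eq_add, add_zero] at h
    have hmem : -z l + s ∈ Zof hF 2 ω := ⟨_, h, by rw [mul_smul, haω, inv_smul_eq_iff, heω]⟩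
    rw [hall, AddSubgroup.mem_bot] at hmem
    linear_combination hmem
  have key : ∀ θ : skewGrp hF, ∃ s : skewGrp hF, tau hF hc (s, θ, 0) • ω = ω := by
    intro θ
    obtain ⟨hJ, hJk, hJg⟩ := levJ (hF := hF) (tv hF c hc θ)
    set J := blockEmb 2 F q (tv hF c hc θ)
    have hrho : ∀ x ∈ Xof hF 2 ω, rhoX hF 2 ⟨J, hJ⟩ x = x := by
      intro x hx
      obtain ⟨l, rfl⟩ := hline x hx
      rw [rhoX_apply, hJk, hJg, one_pow, one_smul, suAct_tv, H.smul_left, hc, mul_zero, mul_zero,
        zero_smul, add_zero]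
    obtain ⟨a, w, zw, ha, haω⟩ := four_lift hF hω hM ⟨J, hJ⟩ (by
      refine subset_antisymm ?_ fun x hx => ⟨x, hx, hrho x hx⟩
      rintro _ ⟨x, hx, rfl⟩
      rw [hrho x hx]; exact hx)
    change a • J • ω = ω at haω
    have hcomm : ∀ l, e l • J • ω = J • ω := by
      intro l
      have h := (he l).conj hJ
      rw [hJk, one_pow, one_smul, one_pow, one_mul, hJg, suAct_tv, H.smul_left, hc, mul_zero, mul_zero,
        zero_smul, add_zero] at h
      have e' := h.unique (he l)
      rw [mul_inv_eq_iff_eq_mul] at e'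
      rw [← mul_smul, ← e', mul_smul, heω]
    have hwc : ∀ l, z l - h2 (l • c) w + h2 w (l • c) = z l := by
      intro l
      refine uniq (conj_radQ hF ha (he l)) ?_
      rw [mul_smul, mul_smul, inv_smul_eq_iff.2 haω.symm, hcomm, haω]
    have hw0 : h2 c w = 0 := by
      obtain ⟨η, hη⟩ := one_half_not_skew hF
      have e1 := hwc 1
      have e2 := hwc η
      rw [H.smul_left, H.smul_right, H.conj_symm c w] at e1 e2
      rw [one_pow] at e1
      obtain ⟨δ, hδ0, hδ⟩ := exists_skew hF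
      have e3 := hwc (δ * η)
      rw [H.smul_left, H.smul_right, H.conj_symm c w, mul_pow, hδ] at e3
      refine (mul_eq_zero.1 (?_ : δ * (η + η ^ q) * h2 c w = 0)).resolve_left
        (by rw [hη, mul_one]; exact hδ0)
      linear_combination -e3 + (δ * η ^ q) * (-e1)
    obtain ⟨l0, hl0⟩ : ∃ l : F, w = l • c := by
      rw [herm_two] at hw0 hc
      refine ⟨w 1 / c 1, funext fun i => ?_⟩
      fin_cases i
      · show w 0 = w 1 / c 1 * c 0
        have hw0' := congrArg (· ^ q) hw0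
        simp only [add_pow_q hF, mul_pow, pow_q_pow_q hF, zero_pow_q hF] at hw0'
        field_simp
        refine mul_right_cancel₀ (pow_ne_zero q c0) ?_
        linear_combination c 1 * hw0' - w 1 * hc
      · show w 1 = w 1 / c 1 * c 1
        rw [div_mul_cancel₀ _ c1]
    rw [hl0] at ha
    have h := (he l0).inv.mul ha
    rw [neg_add_cancel, H.neg_right hF, herm_smul_zero hF l0 hc, sub_zero, sub_neg_eq_add, add_zero] at h
    have hskew : -z l0 + zw ∈ skewGrp hF := by
      have := h.param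
      rw [H.zero_left, add_zero] at this
      exact this
    refine ⟨⟨_, hskew⟩, ?_⟩
    have e0 : (e l0)⁻¹ * a = tv hF (va hF 2) (va_va hF) ⟨_, hskew⟩ := h.unique (isE_tv hF ⟨_, hskew⟩)
    rw [show ((⟨_, hskew⟩ : skewGrp hF), θ, (0 : F)) = (⟨_, hskew⟩, 0, 0) + (0, θ, 0) by simp,
      tau_add, tau_fst, tau_snd, ← blockEmb_tv hF hc, mul_smul]
    show tv hF (va hF 2) (va_va hF) _ • J • ω = ω
    rw [← e0, mul_smul, haω, inv_smul_eq_iff, heω]
  choose sz hsz using key
  have hE : ∀ l, e l = tau hF hc (⟨z l, hzskew l⟩, 0, l) := fun l => suAct_ext fun x => by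
    rw [he l x, suAct_tau, map_smul, H4.smul_right]
    show _ = x + (z l * h4 x (va hF 2) - l ^ q * h4 x (inW 2 c)) • va hF 2 +
      (0 * h4 x (inW 2 c) + l * h4 x (va hF 2)) • inW 2 c
    module
  let P : AddSubgroup (skewGrp hF × skewGrp hF × F) :=
    { carrier := {s | tau hF hc s • ω = ω}
      zero_mem' := by
        show tau hF hc 0 • ω = ω
        have h0 : tau hF hc (0 : skewGrp hF × skewGrp hF × F) = 1 := by
          have := tau_add hF hc (0 : skewGrp hF × skewGrp hF × F) 0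
          rw [add_zero] at this
          exact left_eq_mul.1 this
        rw [h0, one_smul]
      add_mem' := fun {s t} (hs : tau hF hc s • ω = ω) (ht : tau hF hc t • ω = ω) => by
        show tau hF hc (s + t) • ω = ω
        rw [tau_add, mul_smul, ht, hs]
      neg_mem' := fun {s} (hs : tau hF hc s • ω = ω) => by
        show tau hF hc (-s) • ω = ω
        have h0 : tau hF hc (0 : skewGrp hF × skewGrp hF × F) = 1 := by
          have := tau_add hF hc (0 : skewGrp hF × skewGrp hF × F) 0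
          rw [add_zero] at this
          exact left_eq_mul.1 this
        have := tau_add hF hc (-s) s
        rw [neg_add_cancel, h0] at this
        rw [eq_inv_of_mul_eq_one_left this.symm, inv_smul_eq_iff, hs] }
  have hPmem : ∀ (θ : skewGrp hF) (l : F), (sz θ + ⟨z l, hzskew l⟩, θ, l) ∈ P := fun θ l => by
    have h := P.add_mem (hsz θ) (show (⟨z l, hzskew l⟩, 0, l) ∈ P from (by
      show tau hF hc _ • ω = ω
      rw [← hE, heω]))
    simpa using h
  obtain ⟨r, s, f, hr, hs, hrs, hf, hrf, hsf⟩ := exists_model (n := 3) hF le_rfl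
  have H3 := hermForm_isHerm hF 3
  have hsr : Cfsg.hermForm 3 F q s r = 1 := by rw [H3.conj_symm r s, hrs, one_pow]
  have hfr : Cfsg.hermForm 3 F q f r = 0 := (H3.eq_zero_symm hF).1 hrf
  have hfs : Cfsg.hermForm 3 F q f s = 0 := (H3.eq_zero_symm hF).1 hsf
  obtain ⟨η, hη⟩ := one_half_not_skew hF
  let Φ : skewGrp hF × skewGrp hF × F →+ (Fin 3 → F) :=
    { toFun := fun p => p.1.1 • r + (-p.2.1.1 * η) • s + p.2.2 • f
      map_zero' := by simp
      map_add' := fun p p' => by
        simp only [Prod.fst_add, Prod.snd_add, AddSubgroup.coe_add, neg_add, add_mul, add_smul]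
        abel }
  have hP : q ^ 2 < Nat.card (P.map Φ) := by
    have hinj : Function.Injective fun p : skewGrp hF × F =>
        (⟨Φ (sz p.1 + ⟨z p.2, hzskew p.2⟩, p.1, p.2), _, hPmem p.1 p.2, rfl⟩ : P.map Φ) := by
      rintro ⟨θ, l⟩ ⟨θ', l'⟩ h
      have h' := congrArg Subtype.val h
      have hθ := congrArg (fun y => Cfsg.hermForm 3 F q y r) h'
      have hl := congrArg (fun y => Cfsg.hermForm 3 F q y f) h'
      simp only [Φ, AddMonoidHom.coe_mk, ZeroHom.coe_mk, H3.add_left, H3.smul_left, hr, hsr, hfr, hrf,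
        hsf, hf, mul_zero, mul_one, zero_add, add_zero] at hθ hl
      subst hl
      have hη0 : η ≠ 0 := fun e => by rw [e, zero_pow_q hF, add_zero] at hη; exact zero_ne_one hη
      obtain rfl : θ = θ' := Subtype.ext (neg_injective (mul_right_cancel₀ hη0 hθ))
      rfl
    have hh := Nat.card_le_card_of_injective _ hinj
    rw [Nat.card_prod, card_skewGrp, card_F hF] at hh
    exact lt_of_lt_of_le (by nlinarith [Nat.pow_pos (n := 2) (show 0 < q by omega)]) hh
  obtain ⟨_, ⟨⟨S, θ, l⟩, hPm, rfl⟩, hne, hv⟩ := exists_iso_of_big hF (P.map Φ) hP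
  have hSθ : S.1 * θ.1 + l ^ (q + 1) = 0 → False := by
    intro hrel
    by_cases hθ0 : θ.1 = 0
    · rw [hθ0, mul_zero, zero_add] at hrel
      have hl0 : l = 0 := (pow_eq_zero_iff (Nat.succ_ne_zero q)).1 hrel
      by_cases hS : S.1 = 0
      · exact hne (by simp [Φ, hθ0, hl0, hS])
      refine no_transvection hF hall (va_ne_zero hF (d := 2)) (va_va hF) (θ := S) hS (x := ω) ?_
      have : tau hF hc (S, θ, l) • ω = ω := hPm
      rwa [show θ = 0 from Subtype.ext hθ0, hl0, tau_fst] at this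
    · have hθq : θ.1 ^ q = -θ.1 := eq_neg_of_add_eq_zero_right θ.2
      set α := (l / θ.1) ^ q
      have hαq : θ.1 * α ^ q = l := by
        rw [pow_q_pow_q hF, mul_div_cancel₀ _ hθ0]
      have hαN : α ^ (q + 1) * θ.1 = S.1 := by
        rw [pow_succ, pow_q_pow_q hF]
        simp only [α, div_pow, hθq]
        rw [pow_succ] at hrel
        field_simp
        linear_combination -hrel
      have hfe := (H4.eq_zero_symm hF).1 (herm_e₀_right hF c)
      have hiso : h4 (α • e₀ hF 2 + Fin.append 0 c) (α • e₀ hF 2 + Fin.append 0 c) = 0 := by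
        simp only [H4.add_left, H4.add_right hF, H4.smul_left, H4.smul_right, e₀_iso, herm_e₀_right, hfe,
          herm_right hF, hc]
        ring
      refine no_transvection hF hall ?_ hiso (θ := θ) hθ0 (x := ω) ?_
      · intro h
        apply hc0
        have := congrArg prW h
        funext i
        have hi := congrFun this i
        simp only [prW, Pi.add_apply, Pi.smul_apply, Pi.zero_apply, e₀, Fin.append_right, smul_zero,
          zero_add] at hi
        exact hi
      · rw [tau_line hF hc α θ hiso,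
          show (smulFix hF (α ^ (q + 1)) (pow_q_succ_fixed hF α) θ, θ, θ.1 * α ^ q) = (S, θ, l) by
            rw [hαq]; exact Prod.ext (Subtype.ext hαN) rfl]
        exact hPm
  refine hSθ ?_
  have hSq : S.1 ^ q = -S.1 := eq_neg_of_add_eq_zero_right S.2
  have hθq : θ.1 ^ q = -θ.1 := eq_neg_of_add_eq_zero_right θ.2
  simp only [Φ, AddMonoidHom.coe_mk, ZeroHom.coe_mk, H3.add_left, H3.add_right hF, H3.smul_left,
    H3.smul_right, hr, hs, hrs, hsr, hf, hfr, hrf, hsf, hfs, mul_zero, add_zero, zero_add, mul_one,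
    neg_pow_q hF, mul_pow, hθq, hSq] at hv
  linear_combination hv - (S.1 * θ.1) * hη

theorem real_impossible (hq4 : 4 ≤ q) (h20 : (2 : F) = 0) (hall : ∀ x : Ω, Zof hF 2 x = ⊥)
    (hM : (Mov0 hF 2 (Ω := Ω)).ncard < (q + 1) * (q ^ 3 + 1)) {ω : Ω} (hω : ω ∈ Mov0 hF 2) {ν : F}
    (hν : ν ^ (q + 1) = -1) (hshape : ∀ x ∈ Xof hF 2 ω, x 0 = ν * x 1 ^ q)
    (hR : ∀ y : F, ![ν * y ^ q, y] ∈ Xof hF 2 ω) : False := by
  classical
  have H := hermForm_isHerm hF 2
  rw [pow_succ'] at hν
  have hneg : ∀ x : F, -x = x := fun x => by linear_combination -x * h20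
  let r : F → V2 := fun y => ![ν * y ^ q, y]
  have hr : ∀ y y', h2 (r y) (r y') = y ^ q * y' + y * y' ^ q := by
    intro y y'
    rw [herm_two]
    simp only [r, Matrix.cons_val_zero, Matrix.cons_val_one, mul_pow, pow_q_pow_q hF]
    linear_combination (y ^ q * y') * hν - (y ^ q * y') * h20
  have hradd : ∀ y y', r (y + y') = r y + r y' := fun y y' => by
    funext i; fin_cases i <;> simp [r, add_pow_q hF, mul_add]
  choose e z he heω using hR
  change ∀ y, IsE hF (e y) (r y) (z y) at he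
  have uniq : ∀ {a : Cfsg.SU (2 + 2) F q} {y s : F}, IsE hF a (r y) s → a • ω = ω → s = z y := by
    intro a y s ha haω
    have h := (he y).inv.mul ha
    rw [neg_add_cancel, H.neg_right hF, sub_neg_eq_add] at h
    have hmem : -z y - h2 (r y) (r y) + s + h2 (r y) (r y) ∈ Zof hF 2 ω :=
      ⟨_, h, by rw [mul_smul, haω, inv_smul_eq_iff, heω]⟩
    rw [hall, AddSubgroup.mem_bot] at hmem
    linear_combination hmem
  have hz : ∀ y y', z (y + y') = z y + z y' + (y ^ q * y' + y * y' ^ q) := by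
    intro y y'
    have h := (he y).mul (he y')
    rw [← hradd] at h
    rw [← uniq h (by rw [mul_smul, heω, heω]), hr, sub_eq_add_neg, hneg]
    ring
  obtain ⟨η, hη⟩ := one_half_not_skew hF
  have hη0 : η ≠ 0 := fun e => by rw [e, zero_pow_q hF, add_zero] at hη; exact zero_ne_one hη
  have main : ∀ b : F, b ^ q = b → ∀ t : F, t ^ q = t →
      z (t * (η + b)) + z (t * η) = t * (z (η + b) + z η) := by
    intro b hb t ht
    have hνq : (b * ν ^ q) ^ q = b * ν := by rw [mul_pow, hb, pow_q_pow_q hF]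
    have hsl : (1 + b) ^ (q + 1) + (b * ν ^ q) ^ (q + 1) = 1 := by
      rw [pow_succ, pow_succ, add_pow_q hF, one_pow, hb, hνq]
      linear_combination (b * b) * hν + b * h20
    set B := sl hF (1 + b) (b * ν ^ q) hsl
    let T : F → F := fun y => y + b * (y + y ^ q)
    have hB : ∀ y, suAct B (r y) = r (T y) := by
      intro y
      rw [suAct_sl]
      funext i
      fin_cases i
      · simp [r, T, hνq, add_pow_q hF, mul_pow, hb, pow_q_pow_q hF]
        linear_combination (-b * ν * y) * h20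
      · simp [r, T, add_pow_q hF, hb]
        linear_combination (b * y ^ q) * hν - (b * y ^ q) * h20
    obtain ⟨hJ, hJk, hJg⟩ := levJ (hF := hF) B
    set J := blockEmb 2 F q B
    have hrho : ∀ y, rhoX hF 2 ⟨J, hJ⟩ (r y) = r (T y) := fun y => by
      rw [rhoX_apply, hJk, hJg, one_pow, one_smul, hB]
    obtain ⟨a, w, zw, ha, haω⟩ := four_lift hF hω hM ⟨J, hJ⟩ (by
      refine Set.eq_of_subset_of_ncard_le ?_
        (by rw [Set.ncard_image_of_injective _ (rhoX hF 2 ⟨J, hJ⟩).injective])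
      rintro _ ⟨x, hx, rfl⟩
      have hxr : x = r (x 1) := by
        funext i; fin_cases i
        · exact hshape x hx
        · rfl
      rw [hxr, hrho]
      exact ⟨_, _, he _, heω _⟩)
    change a • J • ω = ω at haω
    have hzT : ∀ y, z y - h2 (r (T y)) w + h2 w (r (T y)) = z (T y) := by
      intro y
      have h := (he y).conj hJ
      rw [hJk, one_pow, one_smul, one_pow, one_mul, hJg, hB] at h
      refine uniq (conj_radQ hF ha h) ?_
      simp only [mul_smul]
      rw [inv_smul_eq_iff.2 haω.symm, inv_smul_smul, heω, haω]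
    have e1 := hzT (t * η)
    have e2 := hzT η
    have hTη : T η = η + b := by simp only [T, hη, mul_one]
    have hTt : T (t * η) = t * (η + b) := by
      simp only [T, mul_pow, ht]
      linear_combination (t * b) * hη
    have hrsm : r (t * (η + b)) = t • r (η + b) := by
      funext i
      fin_cases i <;> simp [r, mul_pow, ht]
      ring
    rw [hTt, hrsm, H.smul_left, H.smul_right, ht] at e1
    rw [hTη] at e2
    linear_combination -e1 + t * e2 + (z (t * η) - t * z η) * h20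
  -- evaluate
  obtain ⟨t, ht, ht0, ht1⟩ : ∃ t : F, t ^ q = t ∧ t ≠ 0 ∧ t ≠ 1 := by
    by_contra hc
    simp only [not_exists, not_and, not_not] at hc
    have : ({c : F | c ^ q = c}).ncard ≤ 2 := by
      refine (Set.ncard_le_ncard (t := {0, 1}) fun x hx => ?_).trans ((Set.ncard_insert_le _ _).trans (by simp))
      by_cases h0 : x = 0
      · exact Or.inl h0
      · exact Or.inr (hc x hx h0)
    rw [← Nat.card_coe_set_eq, show Nat.card {c : F | c ^ q = c} = q from card_fixed hF] at this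
    omega
  have hsplit : ∀ b s : F, b ^ q = b → s ^ q = s → z (s * (η + b)) = z (s * η) + z (s * b) + s * s * b := by
    intro b s hb hs
    rw [mul_add, hz, mul_pow, mul_pow, hb, hs]
    linear_combination (s * s * b) * hη
  have hm : ∀ s : F, s ^ q = s → z s = s * (z 1 + 1) + s * s := by
    intro s hs
    have h := main 1 (one_pow q) s hs
    rw [hsplit 1 s (one_pow q) hs, ← one_mul (η + 1), hsplit 1 1 (one_pow q) (one_pow q)] at h
    simp only [mul_one, one_mul] at h
    linear_combination h + (s * z η - z (s * η) - s * s) * h20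
  have h := main t ht t ht
  rw [hsplit t t ht ht, ← one_mul (η + t), hsplit t 1 ht (one_pow q), one_mul, one_mul, one_mul, one_mul,
    hm (t * t) (by rw [mul_pow, ht]), hm t ht] at h
  have hfin : t ^ 2 * (t - 1) ^ 2 = 0 := by
    linear_combination h + (t * z η - z (t * η) - t * t * t + t * t) * h20
  rcases mul_eq_zero.1 hfin with h' | h'
  · exact ht0 ((pow_eq_zero_iff two_ne_zero).1 h')
  · exact ht1 (sub_eq_zero.1 ((pow_eq_zero_iff two_ne_zero).1 h'))

theorem four_fix_ge (htr : ∀ x y : Ω, ∃ g : Cfsg.SU (2 + 2) F q, g • x = y)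
    (hnt : ∃ (g : Cfsg.SU (2 + 2) F q) (ω : Ω), g • ω ≠ ω) (hne : (Fix0 hF 2 (Ω := Ω)).Nonempty) :
    (q + 1) * (q ^ 3 + 1) ≤ Nat.card Ω ∨ q + 1 ≤ (Fix0 hF 2 (Ω := Ω)).ncard := by
  classical
  have hq := two_le_q hF
  by_cases hfull : ∀ ω ∈ Fix0 hF 2 (Ω := Ω), Xof hF 2 ω = ⊤
  · left
    obtain ⟨k, hk1, h2k, hk⟩ := ti_points hF le_rfl htr hnt hne hfull
    refine le_trans ?_ hk
    have hqq : 4 ≤ q ^ 2 := Nat.pow_le_pow_left hq 2
    have hs : q ^ 4 - 1 = (q ^ 2 - 1) * (q ^ 2 + 1) := by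
      rw [mul_comm, show q ^ 4 = (q ^ 2) ^ 2 by ring]
      simpa using Nat.sq_sub_sq (q ^ 2) 1
    rcases (show k = 1 ∨ k = 2 by omega) with rfl | rfl
    · refine Nat.le_of_mul_le_mul_right ?_ (show 0 < q ^ 2 - 1 by omega)
      rw [tiN_one hF (by omega)]
      show _ ≤ isoC q 4
      simp only [isoC, show Even 4 by decide, if_true, show 4 - 1 = 3 from rfl, hs]
      calc (q + 1) * (q ^ 3 + 1) * (q ^ 2 - 1) ≤ (q ^ 2 + 1) * (q ^ 3 + 1) * (q ^ 2 - 1) := by
            gcongr; exact Nat.le_self_pow two_ne_zero q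
        _ = _ := by ring
    · have h := tiN_mul_den (F := F) (m := 2 + 2) (k := 2) hF (by omega)
      simp [tiD, tiP, Finset.prod_range_succ, isoC, show Even 4 by decide] at h
      have hpos : 0 < (q ^ 2 - 1) * (q ^ 4 - 1) :=
        Nat.mul_pos (by omega) (Nat.sub_pos_of_lt (Nat.one_lt_pow (by omega) hq))
      refine le_of_eq (Nat.eq_of_mul_eq_mul_right hpos ?_)
      rw [show (q ^ 2) ^ 2 = q ^ 4 by ring] at h
      rw [h]; ring
  · right
    simp only [not_forall] at hfull
    obtain ⟨ω, hω, hX⟩ := hfull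
    obtain ⟨ψ, hψ, -⟩ := exists_char_kills (A := F) (K := ⊥) bot_ne_top
    refine le_trans ?_ (fix_labels hF hψ hω)
    set A := annih hF ψ (Xof hF 2 ω)
    obtain ⟨y, hyA, hy0⟩ := exists_mem_annih hF hψ hX
    set O := Set.range fun g => rhoA hF 2 g y
    have h := card_class_le (rhoA hF 2) (A : Set V2) hyA (C := O)
      (by rintro g _ ⟨h, rfl⟩; exact ⟨g * h, by simp only [map_mul, Equiv.Perm.mul_apply]⟩) fun _ hx => hx
    refine le_trans ?_ (h.trans (Nat.mul_le_mul_left _ (Set.ncard_le_ncard Set.inter_subset_left)))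
    refine le_trans ?_ ((orb2_le hF hy0).trans (Set.ncard_le_ncard ?_))
    · have : q * 2 ≤ q ^ 2 := by rw [sq]; exact Nat.mul_le_mul_left _ hq
      omega
    · rintro _ ⟨B, rfl⟩
      obtain ⟨hB, hk, hg⟩ := levJ (hF := hF) B
      exact ⟨⟨_, hB⟩, by show rhoA hF 2 ⟨_, hB⟩ y = _; rw [rhoA_apply, hk, hg, inv_one, one_smul]⟩

include hF in
/-- SU_4 needs at least `(q + 1)(q³ + 1)` points. -/
theorem four_points (htr : ∀ x y : Ω, ∃ g : Cfsg.SU (2 + 2) F q, g • x = y)
    (hnt : ∃ (g : Cfsg.SU (2 + 2) F q) (ω : Ω), g • ω ≠ ω) :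
    (q + 1) * (q ^ 3 + 1) ≤ Nat.card Ω ∨ (q = 2 ∧ 24 ≤ Nat.card Ω) := by
  classical
  have hq := two_le_q hF
  obtain ⟨ω, hω⟩ := exists_mov hF le_rfl hnt
  have hle : (Mov0 hF 2 (Ω := Ω)).ncard ≤ Nat.card Ω := Set.ncard_le_card _
  by_cases hM : (q + 1) * (q ^ 3 + 1) ≤ (Mov0 hF 2 (Ω := Ω)).ncard
  · exact Or.inl (hM.trans hle)
  obtain ⟨-, -, -, hlow, hshape⟩ := (four_moved hF hω).resolve_left hM
  rcases Nat.eq_or_lt_of_le hq with hq2 | hq3
  · refine Or.inr ⟨hq2.symm, ?_⟩
    have e : (q + 1) * q ^ 3 = 24 := (congrArg (fun n => (n + 1) * n ^ 3) hq2).symm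
    omega
  left
  by_cases hne : (Fix0 hF 2 (Ω := Ω)).Nonempty
  · rcases four_fix_ge hF htr hnt hne with h | h
    · exact h
    have h2' := Set.ncard_add_ncard_compl (Fix0 hF 2 (Ω := Ω))
    have hc : (Fix0 hF 2 (Ω := Ω))ᶜ = Mov0 hF 2 := by ext; rfl
    rw [hc] at h2'
    have : (q + 1) * (q ^ 3 + 1) = (q + 1) * q ^ 3 + (q + 1) := by ring
    omega
  exfalso
  rw [Set.not_nonempty_iff_eq_empty, Set.eq_empty_iff_forall_notMem] at hne
  have hall : ∀ x : Ω, Zof hF 2 x = ⊥ := fun x => ((four_moved hF (hne x)).resolve_left hM).1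
  rcases hshape with ⟨c, hc0, hc, hline, hXc⟩ | ⟨h20, ν, hν, hsh, hR⟩
  · exact line_impossible hF hall (not_le.1 hM) hω hc0 hc hline hXc
  · refine real_impossible hF ?_ h20 hall (not_le.1 hM) hω hν hsh hR
    by_contra hlt
    obtain hq3' : q = 3 := by omega
    have h9 : ((q ^ 2 : ℕ) : F) = 0 := by rw [← hF]; exact Nat.cast_card_eq_zero F
    rw [hq3'] at h9
    norm_num at h9
    exact one_ne_zero (α := F) (by linear_combination h9 - 4 * h20)

end Cfsg.Agent.MinIndexU
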