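import Cfsg.Agent.Lib.MinIndexU.Radical
/-
The unitary plane and its Levi subgroup in SU_4.
* herm_two; sl, suAct_sl; move2_aniso, move2_iso, move2_iso_smul, orb2_le
* diagL: the element acting by ν on the pair and by ν^q on the plane
-/
set_option autoImplicit false

namespace Cfsg.Agent.MinIndexU

open Cfsg.Agent.Unitary
open Cfsg.Agent.SUMinDegree
open scoped Matrix

variable {F : Type*} [Field F] [Fintype F] {q : ℕ}

local notation "h2" => Cfsg.hermForm 2 F q
local notation "V2" => (Fin 2 → F)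

omit [Fintype F] in
theorem herm_two (x y : V2) : h2 x y = x 0 * y 0 ^ q + x 1 * y 1 ^ q := by
  simp [Cfsg.hermForm, Fin.sum_univ_two]

/-- The element with first column `(a, b)`. -/
def sl (hF : Fintype.card F = q ^ 2) (a b : F) (h : a ^ (q + 1) + b ^ (q + 1) = 1) : Cfsg.SU 2 F q :=
  suOfUnitary !![a, -b ^ q; b, a ^ q] (fun u v => by
      show h2 (_ *ᵥ u) (_ *ᵥ v) = h2 u v
      simp [herm_two, Matrix.mulVec, dotProduct, Fin.sum_univ_two, add_pow_q hF, sub_pow_q hF,
        neg_pow_q hF, mul_pow, pow_q_pow_q hF]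
      rw [pow_succ, pow_succ] at h
      linear_combination (u 0 * v 0 ^ q + u 1 * v 1 ^ q) * h)
    (by rw [Matrix.det_fin_two_of]; rw [pow_succ, pow_succ] at h; linear_combination h)

theorem suAct_sl (hF : Fintype.card F = q ^ 2) {a b : F} (h : a ^ (q + 1) + b ^ (q + 1) = 1) (x : V2) :
    suAct (sl hF a b h) x = ![a * x 0 - b ^ q * x 1, b * x 0 + a ^ q * x 1] := by
  show !![a, -b ^ q; b, a ^ q] *ᵥ x = _
  funext i
  fin_cases i <;> simp [Matrix.mulVec, dotProduct, Fin.sum_univ_two, sub_eq_add_neg]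

theorem iso_coord_ne (hF : Fintype.card F = q ^ 2) {v : V2} (hv0 : v ≠ 0) (hv : h2 v v = 0) :
    v 0 ≠ 0 ∧ v 1 ≠ 0 := by
  rw [herm_two] at hv
  refine ⟨fun e => hv0 ?_, fun e => hv0 ?_⟩ <;> rw [e, zero_mul] at hv
  · rw [zero_add, ← pow_succ'] at hv
    have := (pow_eq_zero_iff (Nat.succ_ne_zero q)).1 hv
    funext i; fin_cases i <;> simp [e, this]
  · rw [add_zero, ← pow_succ'] at hv
    have := (pow_eq_zero_iff (Nat.succ_ne_zero q)).1 hv
    funext i; fin_cases i <;> simp [e, this]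

/-- The plane group is transitive on the vectors of a given non-zero norm. -/
theorem move2_aniso (hF : Fintype.card F = q ^ 2) {v w : V2} (h : h2 v v = h2 w w) (hv : h2 v v ≠ 0) :
    ∃ g : Cfsg.SU 2 F q, suAct g v = w := by
  obtain ⟨t, ht⟩ : ∃ t, h2 v v = t := ⟨_, rfl⟩
  have hwt := h.symm.trans ht
  have htq : t ^ q = t := ht ▸ (hermForm_isHerm hF 2).self_fixed v
  rw [ht] at hv
  rw [herm_two] at ht hwt
  have e : ((w 0 * v 0 ^ q + v 1 * w 1 ^ q) / t) ^ (q + 1) +
      ((w 1 * v 0 ^ q - v 1 * w 0 ^ q) / t) ^ (q + 1) = 1 := by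
    rw [pow_succ', pow_succ']
    simp only [div_pow, add_pow_q hF, sub_pow_q hF, mul_pow, pow_q_pow_q hF, htq]
    field_simp
    linear_combination (w 0 * w 0 ^ q + w 1 * w 1 ^ q) * ht + t * hwt
  refine ⟨sl hF _ _ e, ?_⟩
  rw [suAct_sl]
  funext i
  fin_cases i
  · show _ - _ = w 0
    simp only [div_pow, sub_pow_q hF, mul_pow, pow_q_pow_q hF, htq]
    field_simp
    linear_combination w 0 * ht
  · show _ + _ = w 1
    simp only [div_pow, add_pow_q hF, mul_pow, pow_q_pow_q hF, htq]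
    field_simp
    linear_combination w 1 * ht

/-- The orbit of an isotropic vector. -/
theorem move2_iso (hF : Fintype.card F = q ^ 2) {v w : V2} (hv0 : v ≠ 0) (hv : h2 v v = 0) (hw0 : w ≠ 0)
    (hw : h2 w w = 0) (hc : w 0 * v 1 ^ q = v 0 * w 1 ^ q) : ∃ g : Cfsg.SU 2 F q, suAct g v = w := by
  obtain ⟨h0, h1⟩ := iso_coord_ne hF hv0 hv
  rw [herm_two] at hv
  have hc' : w 0 ^ q * v 1 = v 0 ^ q * w 1 := by
    have := congrArg (fun x => x ^ q) hc
    simpa [mul_pow, pow_q_pow_q hF] using this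
  set r := w 1 * v 1 ^ q with hr
  obtain ⟨x, hx⟩ := exists_trace_eq hF (c := v 1 ^ (q + 1) + w 1 ^ (q + 1))
    (by rw [add_pow_q hF, pow_q_succ_fixed hF, pow_q_succ_fixed hF])
  have hw1 : w 1 ≠ 0 := (iso_coord_ne hF hw0 hw).2
  have hv1q : v 1 ^ q ≠ 0 := pow_ne_zero _ h1
  have hw1q : w 1 ^ q ≠ 0 := pow_ne_zero _ hw1
  set a := x / (w 1 * v 1 ^ q) with ha
  have hax : a * (w 1 * v 1 ^ q) = x := div_mul_cancel₀ x (mul_ne_zero hw1 hv1q)
  have haxq : a ^ q * (w 1 ^ q * v 1) = x ^ q := by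
    rw [← hax, mul_pow, mul_pow, pow_q_pow_q hF]
  set b := (w 1 - a ^ q * v 1) / v 0 with hb
  have hbv : b * v 0 = w 1 - a ^ q * v 1 := div_mul_cancel₀ _ h0
  have hbvq : b ^ q * v 0 ^ q = w 1 ^ q - a * v 1 ^ q := by
    rw [← mul_pow, hbv, sub_pow_q hF, mul_pow, pow_q_pow_q hF]
  have e : a ^ (q + 1) + b ^ (q + 1) = 1 := by
    rw [pow_succ' a, pow_succ' b]
    rw [pow_succ', pow_succ'] at hx
    refine mul_left_cancel₀ (mul_ne_zero h1 hv1q) ?_
    linear_combination b * b ^ q * hv - b ^ q * v 0 ^ q * hbv - (w 1 - a ^ q * v 1) * hbvq + hax + haxq + hx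
  refine ⟨sl hF a b e, ?_⟩
  rw [suAct_sl]
  funext i
  fin_cases i
  · show _ - _ = w 0
    refine mul_right_cancel₀ hv1q ?_
    rw [hc]
    refine mul_left_cancel₀ (pow_ne_zero q h0) ?_
    linear_combination -(v 1 * v 1 ^ q) * hbvq + (a * v 1 ^ q - w 1 ^ q) * hv
  · show _ + _ = w 1
    linear_combination hbv

/-- Up to a scalar of prescribed shape, any two isotropic vectors are in one orbit. -/
theorem move2_iso_smul (hF : Fintype.card F = q ^ 2) {v w : V2} (hv0 : v ≠ 0) (hv : h2 v v = 0) (hw0 : w ≠ 0)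
    (hw : h2 w w = 0) :
    ∃ ν : F, ν ^ (q + 1) = 1 ∧ ∀ μ : F, μ ≠ 0 → μ ^ q = ν * μ → ∃ g : Cfsg.SU 2 F q, suAct g v = μ • w := by
  obtain ⟨h0, h1⟩ := iso_coord_ne hF hv0 hv
  obtain ⟨k0, k1⟩ := iso_coord_ne hF hw0 hw
  refine ⟨w 0 * v 1 ^ q / (v 0 * w 1 ^ q), ?_, fun μ hμ hμq => ?_⟩
  · rw [herm_two] at hv hw
    simp only [div_pow, mul_pow, pow_succ', pow_q_pow_q hF]
    have := pow_ne_zero q h0
    have := pow_ne_zero q k1
    field_simp
    linear_combination (v 1 * v 1 ^ q) * hw - (w 1 * w 1 ^ q) * hv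
  · refine move2_iso hF hv0 hv (smul_ne_zero hμ hw0) (herm_smul_zero hF μ hw) ?_
    simp only [Pi.smul_apply, smul_eq_mul, mul_pow, hμq]
    field_simp

theorem orb2_le (hF : Fintype.card F = q ^ 2) {v : V2} (hv0 : v ≠ 0) :
    q ^ 2 - 1 ≤ (Set.range fun g : Cfsg.SU 2 F q => suAct g v).ncard := by
  classical
  have H := hermForm_isHerm hF 2
  have hq := two_le_q hF
  by_cases hv : h2 v v = 0
  · obtain ⟨h0, h1⟩ := iso_coord_ne hF hv0 hv
    let f : Fˣ → V2 := fun y => ![v 0 * (y : F) ^ q / v 1 ^ q, y]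
    have hf : ∀ y, f y ∈ Set.range fun g : Cfsg.SU 2 F q => suAct g v := fun y => by
      refine move2_iso hF hv0 hv (fun e => y.ne_zero (congrFun e 1)) ?_ ?_
      · rw [herm_two] at hv ⊢
        simp only [f, Matrix.cons_val_zero, Matrix.cons_val_one, div_pow, mul_pow, pow_q_pow_q hF]
        field_simp
        linear_combination ((y : F) * (y : F) ^ q) * hv
      · simp only [f, Matrix.cons_val_zero, Matrix.cons_val_one]
        field_simp
    rw [← card_units hF, ← Nat.card_coe_set_eq]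
    exact Nat.card_le_card_of_injective (fun y => ⟨f y, hf y⟩)
      fun y y' h => Units.ext (congrFun (congrArg Subtype.val h) 1)
  · refine le_trans ?_ (Set.ncard_le_ncard (s := cls 2 q (h2 v v))
      (fun w hw => move2_aniso hF hw.2.symm hv))
    rw [ncard_cls hF 2 (H.self_fixed v) hv, normOne_count hF, if_pos even_two]
    exact Nat.le_mul_of_pos_left _ (Nat.pow_pos (by omega))

/-! ### A diagonal Levi element -/

theorem exists_diagL (hF : Fintype.card F = q ^ 2) {ν : F} (hν : ν ^ (q + 1) = 1) :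
    ∃ g : Cfsg.SU (2 + 2) F q, g ∈ lev hF 2 ∧ kap hF g = ν ∧ ∀ w, gam g w = ν ^ q • w := by
  let D : Fin 2 → F := fun _ => ν
  let E' : Fin 2 → F := fun _ => ν ^ q
  have hν' : (ν ^ q) ^ (q + 1) = 1 := by rw [← pow_mul, mul_comm, pow_mul, hν, one_pow]
  let g : Cfsg.SU (2 + 2) F q := suOfUnitary (blockMatrix (Matrix.diagonal D) (Matrix.diagonal E'))
    (isUnitary_block (isUnitary_diagonal hF fun _ => hν) (isUnitary_diagonal hF fun _ => hν')) (by
      rw [blockMatrix_det, Matrix.det_diagonal, Matrix.det_diagonal, Fin.prod_univ_two, Fin.prod_univ_two]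
      simp only [D, E']
      rw [pow_succ'] at hν
      linear_combination (ν * ν ^ q + 1) * hν)
  have hg : ∀ (x y : Fin 2 → F), suAct g (Fin.append x y) = Fin.append (ν • x) (ν ^ q • y) := fun x y => by
    show blockMatrix _ _ *ᵥ _ = _
    rw [blockMatrix_mulVec]
    congr 1 <;> funext i <;> simp [D, E', Matrix.mulVec_diagonal]
  have ha : suAct g (va hF 2) = ν • va hF 2 := by
    rw [va, e₀, hg, smul_zero]
    funext i
    induction i using Fin.addCases with
    | left j => simp only [Fin.append_left, Pi.smul_apply]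
    | right j => simp only [Fin.append_right, Pi.smul_apply, Pi.zero_apply, smul_zero]
  have hb : suAct g (vb hF 2) = ν • vb hF 2 := by
    rw [vb, hg, smul_zero]
    funext i
    induction i using Fin.addCases with
    | left j => simp only [Fin.append_left, Pi.smul_apply]
    | right j => simp only [Fin.append_right, Pi.smul_apply, Pi.zero_apply, smul_zero]
  refine ⟨g, ⟨⟨ν, ha⟩, ν, hb⟩, by rw [kap, ha, (hermForm_isHerm hF _).smul_left, va_vb hF, mul_one],
    fun w => ?_⟩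
  show prW (suAct g (Fin.append 0 w)) = _
  rw [hg]
  funext i
  simp only [prW, Fin.append_right]

end Cfsg.Agent.MinIndexU
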