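import Cfsg.Agent.Lib.MinIndexU.Moved
import Cfsg.Agent.Lib.MinIndexU.FourPlane
/-
Points of an SU_4-set moved by the root group at va.
* lev1, rho1, exists_lev1_su, exists_lev1_scal; T1_ge, T1_ge_two, T1_ge_line
* four_labels, four_labels_prod; four_moved: the target, or the shape of the only exception
-/
set_option autoImplicit false

namespace Cfsg.Agent.MinIndexU

open Cfsg.Agent.Unitary
open Cfsg.Agent.SUMinDegree
open scoped Matrix

variable {F : Type*} [Field F] [Fintype F] {q : ℕ} (hF : Fintype.card F = q ^ 2)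

local notation "h2" => Cfsg.hermForm 2 F q
local notation "V2" => (Fin 2 → F)

/-- The Levi elements scaling by a norm-one scalar. -/
def lev1 : Subgroup (lev (F := F) hF 2) where
  carrier := {g | kap hF g.1 ^ (q + 1) = 1}
  one_mem' := by
    show kap hF (1 : Cfsg.SU (2 + 2) F q) ^ (q + 1) = 1
    rw [kap_one, one_pow]
  mul_mem' := fun {a b} (ha : kap hF a.1 ^ (q + 1) = 1) (hb : kap hF b.1 ^ (q + 1) = 1) => by
    show kap hF (a.1 * b.1) ^ (q + 1) = 1
    rw [kap_mul a.2 b.2, mul_pow, ha, hb, one_mul]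
  inv_mem' := fun {a} (ha : kap hF a.1 ^ (q + 1) = 1) => by
    show kap hF a.1⁻¹ ^ (q + 1) = 1
    have h := congrArg (· ^ (q + 1)) (kap_mul (hF := hF) a.2 (inv_mem a.2))
    simp only [mul_inv_cancel, kap_one, one_pow, mul_pow, ha, one_mul] at h
    exact h.symm

/-- Their action. -/
noncomputable def rho1 : lev1 hF →* Equiv.Perm V2 := (rhoX hF 2).comp (lev1 hF).subtype

theorem rhoX_zero {d : ℕ} (g : lev hF d) : rhoX hF d g 0 = 0 := by
  rw [rhoX_apply, show gam g.1 (0 : Fin d → F) = 0 by simp [gam, suAct_zero]; rfl, smul_zero]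

theorem exists_lev1_su (B : Cfsg.SU 2 F q) : ∃ g : lev1 hF, ∀ x, rho1 hF g x = suAct B x := by
  obtain ⟨hB, hk, hg⟩ := levJ (hF := hF) B
  refine ⟨⟨⟨_, hB⟩, show kap hF (blockEmb 2 F q B) ^ (q + 1) = 1 by rw [hk, one_pow]⟩, fun x => ?_⟩
  show rhoX hF 2 ⟨_, hB⟩ x = _
  rw [rhoX_apply, hk, hg, one_pow, one_smul]

theorem exists_lev1_scal {ν : F} (hν : ν ^ (q + 1) = 1) :
    ∃ g : lev1 hF, ∀ x, rho1 hF g x = (ν ^ q * ν ^ q) • x := by
  obtain ⟨g, hg, hk, hgam⟩ := exists_diagL hF hν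
  refine ⟨⟨⟨g, hg⟩, show kap hF g ^ (q + 1) = 1 by rw [hk, hν]⟩, fun x => ?_⟩
  show rhoX hF 2 ⟨g, hg⟩ x = _
  rw [rhoX_apply, hk, hgam, smul_smul]

theorem T1_class {X : Set V2} {v : V2} (hv : v ∈ X) :
    (Set.range fun g => rho1 hF g v).ncard ≤
      (trs (rho1 hF) X).ncard * (X ∩ Set.range fun g => rho1 hF g v).ncard :=
  card_class_le (rho1 hF) X hv
    (by rintro g _ ⟨h, rfl⟩; exact ⟨g * h, by simp only [map_mul, Equiv.Perm.mul_apply]⟩)
    fun _ hx => hx

theorem inter_orbit_le {X : AddSubgroup V2} {v : V2} (hv : v ≠ 0) :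
    ((X : Set V2) ∩ Set.range fun g => rho1 hF g v).ncard ≤ Nat.card X - 1 := by
  refine (Set.ncard_le_ncard (t := (X : Set V2) \ {0}) ?_).trans_eq
    (by rw [Set.ncard_sdiff_singleton_of_mem X.zero_mem]; rfl)
  rintro _ ⟨hx, g, rfl⟩
  exact ⟨hx, fun e : rho1 hF g v = 0 =>
    hv ((rho1 hF g).injective (e.trans (rhoX_zero hF g.1).symm))⟩

/-- The orbit of any vector is large. -/
theorem T1_ge {X : AddSubgroup V2} {v : V2} (hv : v ∈ X) (hv0 : v ≠ 0) :
    q ^ 2 - 1 ≤ (trs (rho1 hF) (X : Set V2)).ncard * (Nat.card X - 1) := by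
  refine le_trans ?_ ((T1_class hF hv).trans (Nat.mul_le_mul_left _ (inter_orbit_le hF hv0)))
  refine (orb2_le hF hv0).trans (Set.ncard_le_ncard ?_)
  rintro _ ⟨B, rfl⟩
  obtain ⟨g, hg⟩ := exists_lev1_su hF B
  exact ⟨g, hg v⟩

include hF in
theorem exists_sqrt_norm_one (h20 : (2 : F) = 0) {ν : F} (hν : ν ^ (q + 1) = 1) :
    ∃ μ : F, μ * μ = ν ∧ μ ^ (q + 1) = 1 := by
  have hc : ringChar F = 2 := by
    have hd : ringChar F ∣ 2 := (ringChar.spec F 2).1 (by exact_mod_cast h20)
    exact ((Nat.dvd_prime Nat.prime_two).1 hd).resolve_left (CharP.ringChar_ne_one (R := F))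
  obtain ⟨μ, hμ⟩ := FiniteField.isSquare_of_char_two hc ν
  refine ⟨μ, hμ.symm, ?_⟩
  rw [hμ, mul_pow] at hν
  have : (μ ^ (q + 1) - 1) * (μ ^ (q + 1) - 1) = 0 := by
    linear_combination hν + (1 - μ ^ (q + 1)) * h20
  exact sub_eq_zero.1 (mul_self_eq_zero.1 this)

theorem isoC_two (q : ℕ) : isoC q 2 = (q ^ 2 - 1) * (q + 1) := by simp [isoC]

/-- Over even characteristic all isotropic vectors are in one orbit. -/
theorem iso_subset_orbit (h20 : (2 : F) = 0) {v : V2} (hv0 : v ≠ 0) (hv : h2 v v = 0) :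
    cls 2 q (0 : F) ⊆ Set.range fun g => rho1 hF g v := by
  rintro w ⟨hw0, hw⟩
  obtain ⟨ν, hν, hmove⟩ := move2_iso_smul hF hv0 hv hw0 hw
  have hνq : (ν ^ q) ^ (q + 1) = 1 := by rw [← pow_mul, mul_comm, pow_mul, hν, one_pow]
  obtain ⟨μ, hμ, hμ1⟩ := exists_sqrt_norm_one hF h20 hνq
  have hμ0 : μ ≠ 0 := fun e => by simp [e] at hμ1
  have hν0 : ν ^ q * ν = 1 := by rw [← pow_succ, hν]
  have hμq : μ ^ q * μ = 1 := by rw [← pow_succ, hμ1]
  obtain ⟨B, hB⟩ := hmove μ hμ0 (by linear_combination (μ * ν) * hμq - μ ^ q * hν0 - μ ^ q * ν * hμ)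
  obtain ⟨ρ, hρ, hρ1⟩ := exists_sqrt_norm_one hF h20 hμ1
  obtain ⟨g, hg⟩ := exists_lev1_scal hF hρ1
  obtain ⟨g', hg'⟩ := exists_lev1_su hF B
  refine ⟨g * g', ?_⟩
  show rho1 hF (g * g') v = w
  rw [map_mul, Equiv.Perm.mul_apply, hg', hB, hg, smul_smul,
    show ρ ^ q * ρ ^ q * μ = 1 by rw [← hρ] at hμq ⊢; rw [mul_pow] at hμq; linear_combination hμq, one_smul]

theorem T1_ge_two (h20 : (2 : F) = 0) {X : AddSubgroup V2} {v : V2} (hvX : v ∈ X) (hv0 : v ≠ 0)
    (hv : h2 v v = 0) : (q ^ 2 - 1) * (q + 1) ≤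
      (trs (rho1 hF) (X : Set V2)).ncard * ((X : Set V2) ∩ Set.range fun g => rho1 hF g v).ncard := by
  rw [← isoC_two, ← ncard_cls_iso (F := F) hF 2]
  exact (Set.ncard_le_ncard (iso_subset_orbit hF h20 hv0 hv)).trans (T1_class hF hvX)

/-- A subgroup of an isotropic line has at least as many translates as there are lines. -/
theorem T1_ge_line {X : AddSubgroup V2} {v : V2} (hvX : v ∈ X) (hv0 : v ≠ 0) (hv : h2 v v = 0)
    (hline : ∀ x ∈ X, ∃ c : F, x = c • v) : q + 1 ≤ (trs (rho1 hF) (X : Set V2)).ncard := by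
  classical
  have hq := two_le_q hF
  have hex : ∀ w ∈ cls 2 q (0 : F), ∃ g : lev1 hF, ∃ μ : F, μ ≠ 0 ∧ rho1 hF g v = μ • w ∧
      ∀ y ∈ rho1 hF g '' (X : Set V2), ∃ c : F, y = c • w := by
    rintro w ⟨hw0, hw⟩
    obtain ⟨ν, hν, hmove⟩ := move2_iso_smul hF hv0 hv hw0 hw
    obtain ⟨μ, hμ0, hμ⟩ := exists_hilbert hF hν
    obtain ⟨B, hB⟩ := hmove μ hμ0 hμ
    obtain ⟨g, hg⟩ := exists_lev1_su hF B
    refine ⟨g, μ, hμ0, by rw [hg, hB], ?_⟩
    rintro _ ⟨x, hx, rfl⟩
    obtain ⟨c, rfl⟩ := hline x hx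
    exact ⟨c * μ, by rw [hg, suAct_smul, hB, smul_smul]⟩
  choose! g μ hμ0 hgv hin using hex
  have h1 := ncard_le_fibre (A := cls 2 q (0 : F)) (B := trs (rho1 hF) (X : Set V2)) (Set.toFinite _)
    (Set.toFinite _) (fun w => rho1 hF (g w) '' (X : Set V2)) (fun w _ => ⟨g w, rfl⟩) (q ^ 2 - 1) (by
      intro Y _
      rcases Set.eq_empty_or_nonempty {w ∈ cls 2 q (0 : F) | rho1 hF (g w) '' (X : Set V2) = Y} with
        he | ⟨w0, hw0, hY0⟩
      · rw [he]; simp
      rw [← card_units hF, ← Nat.card_coe_set_eq]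
      have hc : ∀ w : {w ∈ cls 2 q (0 : F) | rho1 hF (g w) '' (X : Set V2) = Y}, ∃ u : Fˣ, w.1 = (u : F) • w0 := by
        rintro ⟨w, hw, hY⟩
        have hm : μ w • w ∈ Y := hY ▸ (hgv w hw ▸ ⟨v, hvX, rfl⟩)
        rw [← hY0] at hm
        obtain ⟨c, hc⟩ := hin w0 hw0 _ hm
        have e : w = ((μ w)⁻¹ * c) • w0 := by
          rw [← smul_smul, ← hc, inv_smul_smul₀ (hμ0 w hw)]
        have hne : (μ w)⁻¹ * c ≠ 0 := fun h => hw.1 (by rw [e, h, zero_smul])
        exact ⟨Units.mk0 _ hne, e⟩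
      choose u hu using hc
      exact Nat.card_le_card_of_injective u fun a b h => Subtype.ext (by rw [hu a, hu b, h]))
  rw [ncard_cls_iso hF, isoC_two] at h1
  exact Nat.le_of_mul_le_mul_left h1 (by have : 4 ≤ q ^ 2 := Nat.pow_le_pow_left hq 2; omega)

variable {Ω : Type*} [MulAction (Cfsg.SU (2 + 2) F q) Ω] [Finite Ω]

omit [Finite Ω] in
theorem rad_card_two : (q ^ 2) ^ 2 * q = q ^ 5 := by ring

omit [Finite Ω] in
theorem mov_lev {ω : Ω} (hω : ω ∈ Mov0 hF 2) (g : lev hF 2) : g.1 • ω ∈ Mov0 hF 2 := by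
  intro hle
  refine hω (Set.eq_of_subset_of_ncard_le (Zof_le_skew hF ω) ?_).ge
  have h : (skewGrp hF : Set F).ncard ≤ (Zof hF 2 (g.1 • ω) : Set F).ncard := Set.ncard_le_ncard hle
  rwa [(lab_lev hF g ω).2,
    Set.ncard_image_of_injective _ (mul_right_injective₀ (pow_ne_zero _ (kap_spec g.2).2))] at h

omit [Finite Ω] in
theorem lab_size (ω : Ω) (g : lev hF 2) :
    (lab hF 2 (g.1 • ω)).1.ncard * (lab hF 2 (g.1 • ω)).2.ncard =
      Nat.card (Xof hF 2 ω) * Nat.card (Zof hF 2 ω) := by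
  show (Xof hF 2 (g.1 • ω) : Set V2).ncard * (Zof hF 2 (g.1 • ω) : Set F).ncard = _
  rw [(lab_lev hF g ω).1, (lab_lev hF g ω).2, Set.ncard_image_of_injective _ (rhoX hF 2 g).injective,
    Set.ncard_image_of_injective _ (mul_right_injective₀ (pow_ne_zero _ (kap_spec g.2).2))]
  rfl

theorem four_labels {ω : Ω} (hω : ω ∈ Mov0 hF 2) :
    (trs (rhoX hF 2) (Xof hF 2 ω : Set V2)).ncard * q ^ 5 ≤
      Nat.card (Xof hF 2 ω) * Nat.card (Zof hF 2 ω) * (Mov0 hF 2 (Ω := Ω)).ncard := by
  set L := Set.range fun g : lev hF 2 => lab hF 2 (g.1 • ω) with hL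
  have hc := card_labels_mul_le (Ω := Ω) hF L (by rintro _ ⟨g, rfl⟩; exact ⟨_, rfl⟩)
    (by rintro _ ⟨g, rfl⟩; exact lab_size hF ω g)
  rw [rad_card_two] at hc
  refine le_trans (Nat.mul_le_mul_right _ ?_) (hc.trans (Nat.mul_le_mul_left _ (Set.ncard_le_ncard ?_)))
  · refine (Set.ncard_le_ncard (t := Prod.fst '' L) ?_).trans (Set.ncard_image_le (Set.toFinite _))
    rintro _ ⟨g, rfl⟩
    exact ⟨_, ⟨g, rfl⟩, (lab_lev hF g ω).1⟩
  · rintro ω' ⟨g, hg⟩ hle
    have e : (Zof hF 2 (g.1 • ω) : Set F) = Zof hF 2 ω' := congrArg Prod.snd hg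
    exact mov_lev hF hω g fun z hz => by
      show z ∈ (Zof hF 2 (g.1 • ω) : Set F)
      rw [e]
      exact hle hz

theorem four_labels_prod {ω : Ω} (hω : ω ∈ Mov0 hF 2) :
    ∃ I : ℕ, 1 ≤ I ∧ (q - 1 + I) * Nat.card (Zof hF 2 ω) ≤ I * q ∧
      (trs (rho1 hF) (Xof hF 2 ω : Set V2)).ncard * I * q ^ 5 ≤
        Nat.card (Xof hF 2 ω) * Nat.card (Zof hF 2 ω) * (Mov0 hF 2 (Ω := Ω)).ncard := by
  classical
  set X := Xof hF 2 ω
  set Z0 := Zof hF 2 ω
  set I := ((fun c => (fun z => c * z) '' (Z0 : Set F)) '' {c : F | c ^ q = c ∧ c ≠ 0})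
  have hIpos : 1 ≤ I.ncard := (Set.ncard_pos (Set.toFinite _)).2
    ⟨_, Set.mem_image_of_mem _ (show (1 : F) ∈ {c : F | c ^ q = c ∧ c ≠ 0} from ⟨one_pow _, one_ne_zero⟩)⟩
  refine ⟨I.ncard, hIpos, scal_count hF Z0 (Zof_le_skew hF ω) hω, ?_⟩
  have hlev : ∀ J : I, ∃ g : lev hF 2,
      (fun z => kap hF g.1 ^ (q + 1) * z) '' (Z0 : Set F) = J.1 := by
    rintro ⟨_, c, ⟨hc, hc0⟩, rfl⟩
    obtain ⟨κ, hκ⟩ := exists_norm_eq hF hc
    have hκ0 : κ ≠ 0 := fun h => hc0 (by rw [← hκ, h, zero_pow (Nat.succ_ne_zero q)])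
    obtain ⟨g, hg, hgk⟩ := exists_lev_kap (hF := hF) (d := 2) (by omega) hκ0
    exact ⟨⟨g, hg⟩, by simp only [hgk, hκ]⟩
  choose gI hgI using hlev
  let lbl : (trs (rho1 hF) (X : Set V2)) × I → Set V2 × Set F := fun p =>
    (rhoX hF 2 (gI p.2) '' p.1.1, p.2.1)
  have hinj : Function.Injective lbl := by
    rintro ⟨Y, J⟩ ⟨Y', J'⟩ h
    simp only [lbl, Prod.mk.injEq] at h
    obtain rfl : J = J' := Subtype.ext h.2
    obtain rfl : Y = Y' := Subtype.ext ((rhoX hF 2 (gI J)).injective.image_injective h.1)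
    rfl
  have hatt : ∀ l ∈ Set.range lbl, ∃ g : lev hF 2, lab hF 2 (g.1 • ω) = l := by
    rintro _ ⟨⟨⟨_, B, rfl⟩, J⟩, rfl⟩
    refine ⟨gI J * B.1, ?_⟩
    obtain ⟨hl1, hl2⟩ := lab_lev hF (gI J * B.1) ω
    show ((Xof hF 2 _ : Set V2), (Zof hF 2 _ : Set F)) = _
    rw [hl1, hl2]
    refine Prod.ext ?_ ?_ <;> dsimp only
    · show _ = rhoX hF 2 (gI J) '' (rhoX hF 2 B.1 '' (X : Set V2))
      rw [map_mul, Equiv.Perm.coe_mul, Set.image_comp]
    · show _ = J.1
      rw [← hgI J, Subgroup.coe_mul, kap_mul (gI J).2 B.1.2, mul_pow,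
        show kap hF B.1.1 ^ (q + 1) = 1 from B.2, mul_one]
  have hc := card_labels_mul_le (Ω := Ω) hF (Set.range lbl) (s := Nat.card X * Nat.card Z0)
    (fun l hl => (hatt l hl).elim fun g hg => ⟨_, hg⟩) (fun l hl => by
      obtain ⟨g, rfl⟩ := hatt l hl
      exact lab_size hF ω g)
  rw [rad_card_two, ← Nat.card_coe_set_eq (Set.range lbl), Nat.card_range_of_injective hinj,
    Nat.card_prod, Nat.card_coe_set_eq, Nat.card_coe_set_eq I] at hc
  refine hc.trans (Nat.mul_le_mul_left _ (Set.ncard_le_ncard ?_))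
  rintro ω' hl hle
  obtain ⟨g, hg⟩ := hatt _ hl
  have e : (Zof hF 2 (g.1 • ω) : Set F) = Zof hF 2 ω' := congrArg Prod.snd hg
  exact mov_lev hF hω g fun z hz => by
    show z ∈ (Zof hF 2 (g.1 • ω) : Set F)
    rw [e]
    exact hle hz

include hF in
/-- In odd characteristic isotropic subgroups outside lines are small. -/
theorem card_le_q_of_pair (h20 : (2 : F) ≠ 0) {K : AddSubgroup F} (hK : K ≠ ⊤)
    (hfix : ∀ c : F, c ^ q = c → c ∈ K) {X : AddSubgroup V2} (hX : ∀ a ∈ X, ∀ b ∈ X, h2 a b ∈ K)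
    (hsk : ∀ a ∈ X, ∀ b ∈ X, h2 a b + h2 b a = 0) {a b : V2} (ha : a ∈ X) (hb : b ∈ X)
    (hab : h2 a b ≠ 0) : Nat.card X ≤ q := by
  have H := hermForm_isHerm hF 2
  obtain ⟨θ, hθ0, hθ⟩ := exists_skew hF
  have hskq : ∀ x ∈ X, ∀ y ∈ X, h2 x y ^ q = -h2 x y := fun x hx y hy => by
    rw [← H.conj_symm x y]
    exact eq_neg_of_add_eq_zero_right (hsk x hx y hy)
  let Fx := (fixedField hF).toAddSubgroup
  let ψ : Fx × Fx →+ V2 :=
    { toFun := fun p => (θ * p.1.1) • a + (θ * p.2.1) • b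
      map_zero' := by simp
      map_add' := fun p p' => by
        simp only [Prod.fst_add, Prod.snd_add, AddSubgroup.coe_add, mul_add, add_smul]
        abel }
  let B := X ⊔ ψ.range
  have hB : ∀ x ∈ X, ∀ y ∈ B, h2 x y ∈ K := by
    intro x hx y hy
    obtain ⟨y1, hy1, _, ⟨p, rfl⟩, rfl⟩ := AddSubgroup.mem_sup.1 hy
    rw [H.add_right hF]
    refine K.add_mem (hX x hx y1 hy1) (hfix _ ?_)
    show (h2 x ((θ * p.1.1) • a + (θ * p.2.1) • b)) ^ q = h2 x ((θ * p.1.1) • a + (θ * p.2.1) • b)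
    rw [H.add_right hF, H.smul_right, H.smul_right, add_pow_q hF]
    simp only [mul_pow, hskq x hx a ha, hskq x hx b hb, hθ, neg_pow_q hF,
      (mem_fixedField hF).1 p.1.2, (mem_fixedField hF).1 p.2.2]
    ring
  have hkill : ∀ u : F, u ^ q = u → ∀ x ∈ X, ∀ y ∈ X, ∀ s : F, s ^ q = -s → s ≠ 0 →
      h2 x y + θ * u * s = 0 → u = 0 := by
    intro u hu x hx y hy s hs hs0 h
    have h' := congrArg (· ^ q) h
    simp only [add_pow_q hF, mul_pow, hskq x hx y hy, hθ, hu, hs, zero_pow_q hF] at h'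
    have : 2 * (θ * s) * u = 0 := by linear_combination h + h'
    exact (mul_eq_zero.1 this).resolve_left (mul_ne_zero h20 (mul_ne_zero hθ0 hs0))
  have hinj : Function.Injective fun p : X × (Fx × Fx) => (⟨p.1.1 + ψ p.2,
      AddSubgroup.mem_sup.2 ⟨_, p.1.2, _, ⟨p.2, rfl⟩, rfl⟩⟩ : B) := by
    rintro ⟨x, p⟩ ⟨x', p'⟩ h
    have h' : x.1 + ψ p = x'.1 + ψ p' := congrArg Subtype.val h
    have h0 : (x.1 - x'.1) + ((θ * (p - p').1.1) • a + (θ * (p - p').2.1) • b) = 0 := by
      show (x.1 - x'.1) + ψ (p - p') = 0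
      rw [map_sub, ← add_sub_assoc, sub_add_eq_add_sub, h']
      abel
    have hd : x.1 - x'.1 ∈ X := X.sub_mem x.2 x'.2
    have hiso : ∀ c ∈ X, h2 c c = 0 := fun c hc => by
      have : 2 * h2 c c = 0 := by linear_combination hsk c hc c hc
      exact (mul_eq_zero.1 this).resolve_left h20
    have hb' := congrArg (fun z => h2 z b) h0
    have ha' := congrArg (fun z => h2 z a) h0
    simp only [H.add_left, H.smul_left, hiso a ha, hiso b hb, mul_zero, add_zero, zero_add,
      H.zero_left] at ha' hb'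
    have hab' : h2 b a ≠ 0 := fun e => hab ((H.eq_zero_symm hF).1 e)
    have e1 := hkill _ ((mem_fixedField hF).1 (p - p').1.2) _ hd b hb _ (hskq a ha b hb) hab hb'
    have e2 := hkill _ ((mem_fixedField hF).1 (p - p').2.2) _ hd a ha _ (hskq b hb a ha) hab' ha'
    have ep : p = p' := sub_eq_zero.1 (Prod.ext (Subtype.ext e1) (Subtype.ext e2))
    subst ep
    exact Prod.ext (Subtype.ext (add_right_cancel h')) rfl
  have h1 := Nat.card_le_card_of_injective _ hinj
  have eFx : Nat.card Fx = q := card_fixedField hF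
  rw [Nat.card_prod, Nat.card_prod, eFx] at h1
  have h2' := (Nat.mul_le_mul_left (Nat.card X) h1).trans (pair_bound hF hK X B hB)
  refine Nat.mul_self_le_mul_self_iff.1 (Nat.le_of_mul_le_mul_right ?_
    (Nat.mul_pos (show 0 < q by have := two_le_q hF; omega) (show 0 < q by have := two_le_q hF; omega)))
  calc Nat.card X * Nat.card X * (q * q) = Nat.card X * (Nat.card X * (q * q)) := by ring
    _ ≤ _ := h2'.trans_eq (by ring)

/-- The moved points give the target, or are of one very special shape. -/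
theorem four_moved {ω : Ω} (hω : ω ∈ Mov0 hF 2) :
    (q + 1) * (q ^ 3 + 1) ≤ (Mov0 hF 2 (Ω := Ω)).ncard ∨
      (Zof hF 2 ω = ⊥ ∧ Nat.card (Xof hF 2 ω) = q ^ 2 ∧
        q + 1 ≤ (trs (rhoX hF 2) (Xof hF 2 ω : Set V2)).ncard ∧
        (q + 1) * q ^ 3 ≤ (Mov0 hF 2 (Ω := Ω)).ncard ∧
        ((∃ c : V2, c ≠ 0 ∧ h2 c c = 0 ∧ (∀ x ∈ Xof hF 2 ω, ∃ l : F, x = l • c) ∧
            ∀ l : F, l • c ∈ Xof hF 2 ω) ∨
          ((2 : F) = 0 ∧ ∃ ν : F, ν ^ (q + 1) = -1 ∧ (∀ x ∈ Xof hF 2 ω, x 0 = ν * x 1 ^ q) ∧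
            ∀ y : F, ![ν * y ^ q, y] ∈ Xof hF 2 ω))) := by
  classical
  have H := hermForm_isHerm hF 2
  have hq := two_le_q hF
  set X := Xof hF 2 ω with hXdef
  set Z0 := Zof hF 2 ω with hZdef
  set M := (Mov0 hF 2 (Ω := Ω)).ncard
  let φ : F →+ F :=
    { toFun := fun x => x - x ^ q
      map_zero' := by simp [zero_pow_q hF]
      map_add' := fun x y => by rw [add_pow_q hF]; ring }
  have hK : Z0.comap φ ≠ ⊤ := by
    intro htop
    refine hω fun s hs => ?_
    obtain ⟨η, hη⟩ := one_half_not_skew hF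
    have : η * s ∈ Z0.comap φ := htop ▸ AddSubgroup.mem_top _
    have e : φ (η * s) = s := by
      show η * s - (η * s) ^ q = s
      rw [mul_pow, eq_neg_of_add_eq_zero_right (show s + s ^ q = 0 from hs)]
      linear_combination s * hη
    rwa [AddSubgroup.mem_comap, e] at this
  have hXX : ∀ a ∈ X, ∀ b ∈ X, h2 a b ∈ Z0.comap φ := fun a ha b hb => by
    rw [AddSubgroup.mem_comap]
    show _ - _ ^ q ∈ Z0
    rw [← H.conj_symm]
    exact commutator_mem hF ω ha hb
  have hZlt : Z0 < skewGrp hF := lt_of_le_of_ne (Zof_le_skew hF ω) fun e => hω (e ▸ le_rfl : skewGrp hF ≤ Z0)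
  have hZ2 : 2 * Nat.card Z0 ≤ q := (two_mul_card_le_of_lt hZlt).trans_eq (card_skewGrp hF)
  have hZpos : 0 < Nat.card Z0 := Nat.card_pos
  have hXpos : 0 < Nat.card X := Nat.card_pos
  have hXq : Nat.card X ≤ q ^ 2 := card_le_pow hF hK hXX
  have hXsplit : Nat.card X = q ^ 2 ∨ 2 * Nat.card X ≤ q ^ 2 := by
    obtain ⟨p, m, hp, -, hpm, -⟩ := exists_prime_pow hF
    have hd : Nat.card X ∣ p ^ (2 * m * 2) := by
      have := AddSubgroup.card_addSubgroup_dvd_card X
      rwa [card_V hF, hpm, ← pow_mul, ← pow_mul, show m * (2 * 2) = 2 * m * 2 by ring] at this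
    obtain ⟨i, -, hi⟩ := (Nat.dvd_prime_pow hp).1 hd
    rw [hi, hpm, ← pow_mul] at hXq ⊢
    have h1 := (Nat.pow_le_pow_iff_right hp.one_lt).1 hXq
    rcases eq_or_lt_of_le h1 with h | h
    · exact Or.inl (by rw [h])
    · right
      calc 2 * p ^ i ≤ p * p ^ i := Nat.mul_le_mul_right _ hp.two_le
        _ = p ^ (i + 1) := (pow_succ' p i).symm
        _ ≤ _ := Nat.pow_le_pow_right hp.pos h
  have hbase := four_labels hF hω
  rw [← hXdef, ← hZdef] at hbase
  set T := (trs (rhoX hF 2) (X : Set V2)).ncard with hTdef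
  set T1 := (trs (rho1 hF) (X : Set V2)).ncard with hT1def
  have hT1T : T1 ≤ T := Set.ncard_le_ncard (by rintro _ ⟨g, rfl⟩; exact ⟨g.1, rfl⟩)
  have hT1pos : 1 ≤ T1 := (Set.ncard_pos (Set.toFinite _)).2 ⟨_, 1, rfl⟩
  have htarget : (q + 1) * (q ^ 3 + 1) ≤ 2 * q ^ 4 := by
    obtain ⟨r, rfl⟩ : ∃ r, q = r + 2 := ⟨q - 2, by omega⟩
    nlinarith [sq_nonneg r, pow_nonneg (Nat.zero_le r) 3, pow_nonneg (Nat.zero_le r) 4]
  by_cases hX0 : X = ⊥
  · left
    refine htarget.trans (Nat.le_of_mul_le_mul_right ?_ (show 0 < q by omega))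
    have hXc : Nat.card X = 1 := by rw [hX0, AddSubgroup.card_bot]
    rw [hXc, one_mul] at hbase
    calc 2 * q ^ 4 * q = 2 * (1 * q ^ 5) := by ring
      _ ≤ 2 * (Nat.card Z0 * M) := Nat.mul_le_mul_left _
          ((Nat.mul_le_mul_right _ (hT1pos.trans hT1T)).trans hbase)
      _ = 2 * Nat.card Z0 * M := (mul_assoc _ _ _).symm
      _ ≤ q * M := Nat.mul_le_mul_right _ hZ2
      _ = _ := mul_comm _ _
  by_cases hiso : ∀ x ∈ X, h2 x x = 0
  · -- only isotropic vectors
    obtain ⟨v, hvX, hv0⟩ := X.bot_or_exists_ne_zero.resolve_left hX0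
    have hcross : ∀ a ∈ X, ∀ b ∈ X, h2 a b + h2 b a = 0 := by
      intro a ha b hb
      have := hiso (a + b) (X.add_mem ha hb)
      rw [H.add_left, H.add_right hF, H.add_right hF, hiso a ha, hiso b hb] at this
      linear_combination this
    obtain ⟨c0, c1⟩ := iso_coord_ne hF hv0 (hiso v hvX)
    have hvv := hiso v hvX
    rw [herm_two] at hvv
    have shape : q + 1 ≤ T1 ∧ (Nat.card X = q ^ 2 →
        ((∃ c : V2, c ≠ 0 ∧ h2 c c = 0 ∧ (∀ x ∈ X, ∃ l : F, x = l • c) ∧ ∀ l : F, l • c ∈ X) ∨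
          ((2 : F) = 0 ∧ ∃ ν : F, ν ^ (q + 1) = -1 ∧ (∀ x ∈ X, x 0 = ν * x 1 ^ q) ∧
            ∀ y : F, ![ν * y ^ q, y] ∈ X))) := by
      by_cases hti : ∀ a ∈ X, ∀ b ∈ X, h2 a b = 0
      · have hline : ∀ x ∈ X, ∃ l : F, x = l • v := by
          intro x hx
          have h := hti x hx v hvX
          rw [herm_two] at h
          refine ⟨x 1 / v 1, funext fun i => ?_⟩
          fin_cases i
          · show x 0 = x 1 / v 1 * v 0
            field_simp
            refine mul_right_cancel₀ (pow_ne_zero q c0) ?_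
            linear_combination v 1 * h - x 1 * hvv
          · show x 1 = x 1 / v 1 * v 1
            rw [div_mul_cancel₀ _ c1]
        refine ⟨T1_ge_line hF hvX hv0 (hiso v hvX) hline, fun hcard =>
          Or.inl ⟨v, hv0, hiso v hvX, hline, ?_⟩⟩
        have e : (X : Set V2) = (fun l : F => l • v) '' Set.univ := by
          refine Set.eq_of_subset_of_ncard_le (fun x hx => ?_) ?_
          · obtain ⟨l, hl⟩ := hline x hx
            exact ⟨l, trivial, hl.symm⟩
          · refine (Set.ncard_image_le (Set.toFinite _)).trans ?_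
            rw [Set.ncard_univ, card_F hF, ← hcard]
            exact le_rfl
        intro l
        show l • v ∈ (X : Set V2)
        rw [e]
        exact ⟨l, trivial, rfl⟩
      · simp only [not_forall] at hti
        obtain ⟨a, ha, b, hb, hab⟩ := hti
        by_cases h20 : (2 : F) = 0
        · refine ⟨?_, fun hcard => Or.inr ⟨h20, ?_⟩⟩
          · have h := (T1_ge_two hF h20 hvX hv0 (hiso v hvX)).trans
              (Nat.mul_le_mul_left _ (inter_orbit_le hF hv0))
            refine Nat.le_of_mul_le_mul_left ?_ (show 0 < q ^ 2 - 1 by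
              have : 4 ≤ q ^ 2 := Nat.pow_le_pow_left hq 2
              omega)
            rw [mul_comm (q ^ 2 - 1) T1]
            exact h.trans (Nat.mul_le_mul_left _ (by omega))
          · have ha0 : a ≠ 0 := fun e => hab (by rw [e, H.zero_left])
            have hb0 : b ≠ 0 := fun e => hab (by rw [e, H.zero_right hF])
            have hμ : ∀ x : V2, x ≠ 0 → h2 x x = 0 → ∃ μ : F, μ ^ (q + 1) = -1 ∧ x 0 = μ * x 1 ^ q := by
              intro x hx0 hx
              obtain ⟨-, x1⟩ := iso_coord_ne hF hx0 hx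
              rw [herm_two] at hx
              refine ⟨x 0 / x 1 ^ q, ?_, (div_mul_cancel₀ _ (pow_ne_zero q x1)).symm⟩
              rw [pow_succ', div_pow, pow_q_pow_q hF]
              have := pow_ne_zero q x1
              field_simp
              linear_combination hx
            have hsame : ∀ x ∈ X, ∀ y ∈ X, h2 x y ≠ 0 → ∀ ν : F, ν ^ (q + 1) = -1 →
                y 0 = ν * y 1 ^ q → x 0 = ν * x 1 ^ q := by
              intro x hx y hy hxy ν hν hyν
              obtain ⟨μ, hμ1, hxμ⟩ := hμ x (fun e => hxy (by rw [e, H.zero_left])) (hiso x hx)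
              have h := hcross x hx y hy
              rw [pow_succ'] at hν hμ1
              simp only [herm_two, hxμ, hyν, mul_pow, pow_q_pow_q hF] at h hxy
              set A := x 1 ^ q * y 1
              have e : (μ * ν ^ q + 1) * (A + μ ^ q * ν * (x 1 * y 1 ^ q)) = 0 := by
                linear_combination h + (x 1 * y 1 ^ q) * (ν * ν ^ q * hμ1 - hν)
              rcases mul_eq_zero.1 e with e | e
              · have : μ = ν := by linear_combination μ * hν - ν * e
                rw [hxμ, this]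
              · refine absurd ?_ hxy
                linear_combination (μ * ν ^ q) * e - (x 1 * y 1 ^ q) * (ν * ν ^ q * hμ1 - hν)
            obtain ⟨ν, hν, haν⟩ := hμ a ha0 (hiso a ha)
            have hba : h2 b a ≠ 0 := fun e => hab ((H.eq_zero_symm hF).1 e)
            have hbν := hsame b hb a ha hba ν hν haν
            have hall : ∀ x ∈ X, x 0 = ν * x 1 ^ q := by
              intro x hx
              by_cases hxa : h2 x a = 0
              · by_cases hxb : h2 x b = 0
                · have : x = 0 := by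
                    obtain ⟨a0, a1⟩ := iso_coord_ne hF ha0 (hiso a ha)
                    have haa := hiso a ha
                    rw [herm_two] at hxa hxb haa hab
                    have hx1 : x 1 * (a 0 * b 0 ^ q + a 1 * b 1 ^ q) = 0 := by
                      refine mul_left_cancel₀ (pow_ne_zero q a0) ?_
                      linear_combination (a 0 ^ q * a 1) * hxb + (x 1 * b 0 ^ q) * haa - (a 1 * b 0 ^ q) * hxa
                    have hx1' := (mul_eq_zero.1 hx1).resolve_right hab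
                    have hx0 : x 0 = 0 := by
                      rw [hx1', zero_mul, add_zero] at hxa
                      exact (mul_eq_zero.1 hxa).resolve_right (pow_ne_zero q a0)
                    funext i; fin_cases i <;> assumption
                  rw [this]; simp [zero_pow_q hF]
                · exact hsame x hx b hb hxb ν hν hbν
              · exact hsame x hx a ha hxa ν hν haν
            refine ⟨ν, hν, hall, ?_⟩
            have e : (X : Set V2) = (fun y : F => ![ν * y ^ q, y]) '' Set.univ := by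
              refine Set.eq_of_subset_of_ncard_le (fun x hx => ⟨x 1, trivial, ?_⟩) ?_
              · funext i
                fin_cases i
                · exact (hall x hx).symm
                · rfl
              · refine (Set.ncard_image_le (Set.toFinite _)).trans ?_
                rw [Set.ncard_univ, card_F hF, ← hcard]
                exact le_rfl
            intro y
            show ![ν * y ^ q, y] ∈ (X : Set V2)
            rw [e]
            exact ⟨y, trivial, rfl⟩
        · have hle := card_le_q_of_pair hF h20 hK (fun c hc => by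
            rw [AddSubgroup.mem_comap]
            show c - c ^ q ∈ Z0
            rw [hc, sub_self]
            exact Z0.zero_mem) hXX hcross ha hb hab
          refine ⟨?_, fun hcard => ?_⟩
          · have h := (T1_ge hF hvX hv0).trans (Nat.mul_le_mul_left _ (show Nat.card X - 1 ≤ q - 1 by omega))
            refine Nat.le_of_mul_le_mul_right ?_ (show 0 < q - 1 by omega)
            rw [show (q + 1) * (q - 1) = q ^ 2 - 1 by simpa using (Nat.sq_sub_sq q 1).symm]
            exact h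
          · exfalso
            have : q * 2 ≤ q ^ 2 := by rw [sq]; exact Nat.mul_le_mul_left _ hq
            omega
    obtain ⟨hT1, hshape⟩ := shape
    obtain ⟨I, hI1, hI2, hprod⟩ := four_labels_prod hF hω
    rw [← hXdef, ← hZdef, ← hT1def] at hprod
    rw [← hZdef] at hI2
    rcases hXsplit with hXe | hX2
    · by_cases hZ0 : Z0 = ⊥
      · right
        refine ⟨hZ0, hXe, hT1.trans hT1T, ?_, hshape hXe⟩
        have hZc : Nat.card Z0 = 1 := by rw [hZ0, AddSubgroup.card_bot]
        rw [hXe, hZc, mul_one] at hbase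
        refine Nat.le_of_mul_le_mul_left ?_ (show 0 < q ^ 2 by positivity)
        calc q ^ 2 * ((q + 1) * q ^ 3) = (q + 1) * q ^ 5 := by ring
          _ ≤ _ := (Nat.mul_le_mul_right _ (hT1.trans hT1T)).trans hbase
      · left
        have hZge : 2 ≤ Nat.card Z0 := by
          have h := two_mul_card_le_of_lt (bot_lt_iff_ne_bot.2 hZ0)
          rwa [AddSubgroup.card_bot, mul_one] at h
        have hI2' : 2 ≤ I := by
          by_contra hlt
          obtain rfl : I = 1 := by omega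
          rw [one_mul, Nat.sub_add_cancel (by omega)] at hI2
          have : q * 2 ≤ q * 1 := by rw [mul_one]; exact (Nat.mul_le_mul_left _ hZge).trans hI2
          omega
        have hIZ : (q + 1) * Nat.card Z0 ≤ I * q :=
          (Nat.mul_le_mul_right _ (by omega)).trans hI2
        rw [hXe] at hprod
        refine le_trans (b := (q + 1) * (q + 1) * q ^ 2) ?_ ?_
        · calc (q + 1) * (q ^ 3 + 1) ≤ (q + 1) * ((q + 1) * q ^ 2) := by
                refine Nat.mul_le_mul_left _ ?_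
                have : 1 ≤ q ^ 2 := Nat.one_le_pow _ _ (by omega)
                rw [add_mul, one_mul, ← pow_succ']
                show q ^ 3 + 1 ≤ q ^ 3 + q ^ 2
                omega
            _ = _ := (mul_assoc _ _ _).symm
        · refine Nat.le_of_mul_le_mul_right ?_ (show 0 < q ^ 2 * Nat.card Z0 from Nat.mul_pos (by positivity) hZpos)
          calc (q + 1) * (q + 1) * q ^ 2 * (q ^ 2 * Nat.card Z0)
              = (q + 1) * ((q + 1) * Nat.card Z0) * q ^ 4 := by ring
            _ ≤ T1 * (I * q) * q ^ 4 := Nat.mul_le_mul_right _ (Nat.mul_le_mul hT1 hIZ)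
            _ = T1 * I * q ^ 5 := by ring
            _ ≤ _ := hprod
            _ = _ := mul_comm _ _
    · left
      have hZI : Nat.card Z0 ≤ I := by
        refine Nat.le_of_mul_le_mul_left ?_ (show 0 < q by omega)
        rw [mul_comm q I]
        exact (Nat.mul_le_mul_right _ (show q ≤ q - 1 + I by omega)).trans hI2
      have hkey : 2 * (q + 1) * q ^ 3 ≤ M := by
        refine Nat.le_of_mul_le_mul_left ?_ (show 0 < q ^ 2 * Nat.card Z0 from Nat.mul_pos (by positivity) hZpos)
        calc q ^ 2 * Nat.card Z0 * (2 * (q + 1) * q ^ 3) = 2 * ((q + 1) * Nat.card Z0 * q ^ 5) := by ring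
          _ ≤ 2 * (T1 * I * q ^ 5) :=
            Nat.mul_le_mul_left _ (Nat.mul_le_mul_right _ (Nat.mul_le_mul hT1 hZI))
          _ ≤ 2 * (Nat.card X * Nat.card Z0 * M) := Nat.mul_le_mul_left _ hprod
          _ = 2 * Nat.card X * (Nat.card Z0 * M) := by ring
          _ ≤ q ^ 2 * (Nat.card Z0 * M) := Nat.mul_le_mul_right _ hX2
          _ = _ := (mul_assoc _ _ _).symm
      refine le_trans ?_ hkey
      calc (q + 1) * (q ^ 3 + 1) ≤ (q + 1) * (2 * q ^ 3) := by
            refine Nat.mul_le_mul_left _ ?_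
            have : 1 ≤ q ^ 3 := Nat.one_le_pow _ _ (by omega)
            omega
        _ = _ := by ring
  · -- a vector of non-zero norm
    simp only [not_forall] at hiso
    obtain ⟨v, hvX, hv⟩ := hiso
    set Cn := {x : V2 | h2 x x ≠ 0}
    have hnorm : ∀ g x, h2 (rhoX hF 2 g x) (rhoX hF 2 g x) = kap hF g.1 ^ (q + 1) * h2 x x := by
      intro g x
      rw [rhoX_apply, H.smul_left, H.smul_right, gam_herm g.2, pow_q_pow_q hF, ← mul_assoc, pow_succ]
    have hcn := card_class_le (rhoX hF 2) (X : Set V2) hvX (C := Cn)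
      (fun g x (hx : h2 x x ≠ 0) => show h2 _ _ ≠ 0 by
        rw [hnorm]; exact mul_ne_zero (pow_ne_zero _ (kap_spec g.2).2) hx)
      (fun x (hx : h2 x x ≠ 0) => by
        obtain ⟨κ, hκ⟩ := exists_norm_eq hF (c := h2 x x / h2 v v) (by rw [div_pow, H.self_fixed, H.self_fixed])
        have hκ0 : κ ≠ 0 := fun h => by
          rw [h, zero_pow (Nat.succ_ne_zero q)] at hκ
          exact div_ne_zero hx hv hκ.symm
        obtain ⟨g, hg, hgk⟩ := exists_lev_kap (hF := hF) (d := 2) (by omega) hκ0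
        have hy : h2 (rhoX hF 2 ⟨g, hg⟩ v) (rhoX hF 2 ⟨g, hg⟩ v) = h2 x x := by
          rw [hnorm]
          show kap hF g ^ _ * _ = _
          rw [hgk, hκ, div_mul_cancel₀ _ hv]
        obtain ⟨B, hB⟩ := move2_aniso hF hy (by rw [hy]; exact hx)
        obtain ⟨g', hg'⟩ := exists_lev1_su hF B
        exact ⟨g'.1 * ⟨g, hg⟩, by rw [map_mul, Equiv.Perm.mul_apply]; exact (hg' _).trans hB⟩)
    have hCn : Cn.ncard = (q - 1) * (q * (q ^ 2 - 1)) := by
      rw [card_cls_aniso_two hF]
    have hXn : ((X : Set V2) ∩ Cn).ncard ≤ Nat.card X - 1 := by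
      refine (Set.ncard_le_ncard (t := (X : Set V2) \ {0}) ?_).trans_eq
        (by rw [Set.ncard_sdiff_singleton_of_mem X.zero_mem]; rfl)
      rintro x ⟨hx, hx'⟩
      exact ⟨hx, fun e : x = 0 => hx' (by rw [e, H.zero_left])⟩
    rw [hCn] at hcn
    rcases hXsplit with hXe | hX2
    · have h4 : 4 ≤ q ^ 2 := Nat.pow_le_pow_left hq 2
      rcases Nat.eq_or_lt_of_le hq with hq2 | hq3
      · left
        have hZc : Nat.card Z0 = 1 := by omega
        have hZbot : Z0 = ⊥ := AddSubgroup.eq_bot_of_card_eq _ hZc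
        have h20 : (2 : F) = 0 := by
          obtain ⟨p, m, hp, hchar, hpm, hm⟩ := exists_prime_pow hF
          have hdvd : p ∣ 2 := by rw [hq2, hpm]; exact dvd_pow_self p (by omega)
          obtain rfl : p = 2 := (Nat.prime_dvd_prime_iff_eq hp Nat.prime_two).1 hdvd
          exact_mod_cast CharP.cast_eq_zero F 2
        have hone : ∀ x, h2 x x ≠ 0 → h2 x x = 1 := fun x hx => by
          have e : h2 x x * h2 x x = h2 x x :=
            (pow_two _).symm.trans ((congrArg (h2 x x ^ ·) hq2).trans (H.self_fixed x))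
          exact mul_left_cancel₀ hx (e.trans (mul_one _).symm)
        obtain ⟨w, hwX, hw0, hw, hwv⟩ : ∃ w ∈ X, w ≠ 0 ∧ h2 w w = 0 ∧ w ≠ v := by
          obtain ⟨b, hbX, hbne⟩ : ∃ b ∈ (X : Set V2), b ∉ ({0, v} : Set V2) := by
            refine Set.exists_mem_notMem_of_ncard_lt_ncard ?_
            rw [Set.ncard_pair (fun e => hv (by rw [← e, H.zero_left]))]
            rw [← Nat.card_coe_set_eq]
            show 2 < Nat.card X
            omega
          simp only [Set.mem_insert_iff, Set.mem_singleton_iff, not_or] at hbne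
          by_cases hb : h2 b b = 0
          · exact ⟨b, hbX, hbne.1, hb, hbne.2⟩
          refine ⟨v + b, X.add_mem hvX hbX, ?_, ?_, ?_⟩
          · intro e
            apply hbne.2
            funext i
            have := congrFun e i
            simp only [Pi.add_apply, Pi.zero_apply] at this
            linear_combination this - v i * h20
          · have e := hXX v hvX b hbX
            rw [AddSubgroup.mem_comap, hZbot, AddSubgroup.mem_bot] at e
            have e' : h2 v b ^ q = h2 v b := (sub_eq_zero.1 e).symm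
            rw [H.add_left, H.add_right hF, H.add_right hF, hone v hv, hone b hb, H.conj_symm v b, e']
            linear_combination (1 + h2 v b) * h20
          · intro e
            exact hbne.1 (add_eq_left.1 e)
        have h := T1_ge_two hF h20 hwX hw0 hw
        have hle : ((X : Set V2) ∩ Set.range fun g => rho1 hF g w).ncard ≤ 2 := by
          refine (Set.ncard_le_ncard (t := (X : Set V2) \ {0, v}) ?_).trans ?_
          · rintro _ ⟨hx, g, rfl⟩
            refine ⟨hx, ?_⟩
            rintro (e | e)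
            · exact hw0 ((rho1 hF g).injective (e.trans (rhoX_zero hF g.1).symm))
            · apply hv
              have e : rho1 hF g w = v := e
              rw [← e]
              show h2 (rhoX hF 2 g.1 w) (rhoX hF 2 g.1 w) = 0
              rw [hnorm, hw, mul_zero]
          · rw [Set.ncard_sdiff (Set.insert_subset_iff.2 ⟨X.zero_mem, Set.singleton_subset_iff.2 hvX⟩),
              Set.ncard_pair (fun e => hv (by rw [← e, H.zero_left]))]
            show Nat.card X - 2 ≤ 2
            have e4 : q ^ 2 = 4 := (congrArg (· ^ 2) hq2).symm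
            omega
        have hT5 : 5 ≤ T := by
          have := h.trans (Nat.mul_le_mul_left _ hle)
          have e9 : (q ^ 2 - 1) * (q + 1) = 9 := (congrArg (fun n => (n ^ 2 - 1) * (n + 1)) hq2).symm
          omega
        have e5 : q ^ 5 = 32 := (congrArg (· ^ 5) hq2).symm
        have e4 : q ^ 2 = 4 := (congrArg (· ^ 2) hq2).symm
        have e27 : (q + 1) * (q ^ 3 + 1) = 27 := (congrArg (fun n => (n + 1) * (n ^ 3 + 1)) hq2).symm
        rw [hXe, hZc, mul_one, e5, e4] at hbase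
        rw [e27]
        show 27 ≤ M
        omega
      · left
        have hT : q * (q - 1) ≤ T := by
          refine Nat.le_of_mul_le_mul_right ?_ (show 0 < q ^ 2 - 1 by omega)
          calc q * (q - 1) * (q ^ 2 - 1) = (q - 1) * (q * (q ^ 2 - 1)) := by ring
            _ ≤ _ := hcn
            _ ≤ _ := Nat.mul_le_mul_left _ (hXn.trans (by omega))
        rw [hXe] at hbase
        have hkey : (q - 1) * q ^ 4 ≤ Nat.card Z0 * M := by
          refine Nat.le_of_mul_le_mul_left ?_ (show 0 < q ^ 2 by positivity)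
          calc q ^ 2 * ((q - 1) * q ^ 4) = q * (q - 1) * q ^ 5 := by ring
            _ ≤ _ := Nat.mul_le_mul_right _ hT
            _ ≤ _ := hbase
            _ = _ := mul_assoc _ _ _
        rcases Nat.eq_or_lt_of_le (show 3 ≤ q from hq3) with hq3' | hq4
        · have hZc : Nat.card Z0 = 1 := by omega
          rw [hZc, one_mul, ← hq3'] at hkey
          rw [← hq3']
          norm_num at hkey ⊢
          omega
        · refine le_trans ?_ (Nat.le_of_mul_le_mul_left
            (show q * ((q - 1) * (2 * q ^ 3)) ≤ q * M from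
              calc q * ((q - 1) * (2 * q ^ 3)) = 2 * ((q - 1) * q ^ 4) := by ring
                _ ≤ 2 * (Nat.card Z0 * M) := Nat.mul_le_mul_left _ hkey
                _ = 2 * Nat.card Z0 * M := (mul_assoc _ _ _).symm
                _ ≤ _ := Nat.mul_le_mul_right _ hZ2) (by omega))
          obtain ⟨r, rfl⟩ : ∃ r, q = r + 4 := ⟨q - 4, by omega⟩
          rw [show r + 4 - 1 = r + 3 by omega]
          nlinarith [pow_nonneg (Nat.zero_le r) 2, pow_nonneg (Nat.zero_le r) 3, pow_nonneg (Nat.zero_le r) 4]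
    · left
      have h1 : (q - 1) * (q * (q ^ 2 - 1)) ≤ T * Nat.card X :=
        hcn.trans (Nat.mul_le_mul_left _ (hXn.trans (Nat.sub_le _ _)))
      have hkey : 8 * ((q - 1) * (q * (q ^ 2 - 1))) ≤ M := by
        refine Nat.le_of_mul_le_mul_right ?_ (show 0 < q ^ 5 by positivity)
        calc 8 * ((q - 1) * (q * (q ^ 2 - 1))) * q ^ 5 ≤ 8 * (T * Nat.card X) * q ^ 5 :=
              Nat.mul_le_mul_right _ (Nat.mul_le_mul_left _ h1)
          _ = 8 * Nat.card X * (T * q ^ 5) := by ring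
          _ ≤ 8 * Nat.card X * (Nat.card X * Nat.card Z0 * M) := Nat.mul_le_mul_left _ hbase
          _ = (2 * Nat.card X) * (2 * Nat.card X) * (2 * Nat.card Z0) * M := by ring
          _ ≤ q ^ 2 * q ^ 2 * q * M := Nat.mul_le_mul_right _ (Nat.mul_le_mul (Nat.mul_le_mul hX2 hX2) hZ2)
          _ = _ := by ring
      refine le_trans ?_ hkey
      obtain ⟨r, rfl⟩ : ∃ r, q = r + 2 := ⟨q - 2, by omega⟩
      obtain ⟨B, hB⟩ : ∃ B, (r + 2) ^ 2 = B + 1 := ⟨(r + 2) ^ 2 - 1, by have := Nat.one_le_pow 2 (r+2) (by omega); omega⟩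
      rw [hB, Nat.add_sub_cancel, show r + 2 - 1 = r + 1 by omega]
      have : B = r * r + 4 * r + 3 := by
        have : (r + 2) ^ 2 = r * r + 4 * r + 4 := by ring
        omega
      subst this
      nlinarith [pow_nonneg (Nat.zero_le r) 2, pow_nonneg (Nat.zero_le r) 3, pow_nonneg (Nat.zero_le r) 4]
where
  card_cls_aniso_two (hF : Fintype.card F = q ^ 2) :
      ({x : V2 | h2 x x ≠ 0}).ncard = (q - 1) * (q * (q ^ 2 - 1)) := by
    have h1 := normCount_total hF 2
    have h' := Set.ncard_add_ncard_compl {x : V2 | h2 x x = 0}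
    rw [card_V hF] at h'
    change normCount 2 q (0 : F) + ({x : V2 | h2 x x ≠ 0}).ncard = _ at h'
    have h3 := normOne_count (F := F) hF 2
    rw [if_pos even_two, Nat.add_one_sub_one] at *
    simp only [pow_one] at h3
    rw [h3] at h1
    omega

end Cfsg.Agent.MinIndexU
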