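import Cfsg.Agent.Lib.MinIndexU.Small
import Cfsg.Agent.Lib.AutPSU.Sylow
/-
Translates in dimension three, and the uniform statement.
* Frame3, exists_frame3, Frame3.decomp
* translates_three; key_translates
-/
set_option autoImplicit false

namespace Cfsg.Agent.MinIndexU

open Cfsg.Agent.Unitary
open scoped Matrix

variable {F : Type*} [Field F] [Fintype F] {q : ℕ}

local notation "hm" => Cfsg.hermForm 3 F q
local notation "V3" => (Fin 3 → F)

theorem exists_frame3 (hF : Fintype.card F = q ^ 2) {v : V3} (hv : v ≠ 0) (hv0 : hm v v = 0) :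
    ∃ w z : V3, hm w w = 0 ∧ hm v w = 1 ∧ hm z z = 1 ∧ hm v z = 0 ∧ hm w z = 0 := by
  obtain ⟨w, hw, hvw⟩ := exists_iso_partner hF hv hv0
  obtain ⟨r, s, e, hr, hs, hrs, he, hre, hse⟩ := exists_model (n := 3) hF le_rfl
  obtain ⟨g, hgr, hgs⟩ := su_transitive_hyperbolic hF le_rfl hr hs hrs hv0 hw hvw
  refine ⟨w, suAct g e, hw, hvw, (suAct_herm g e e).trans he, ?_, ?_⟩
  · rw [← hgr, suAct_herm]; exact hre
  · rw [← hgs, suAct_herm]; exact hse

theorem decomp3 (hF : Fintype.card F = q ^ 2) {v w z : V3} (hv : hm v v = 0) (hw : hm w w = 0)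
    (hvw : hm v w = 1) (hz : hm z z = 1) (hvz : hm v z = 0) (hwz : hm w z = 0) (x : V3) :
    x = hm x w • v + hm x v • w + hm x z • z := by
  have H := hermForm_isHerm hF 3
  have hwv : hm w v = 1 := by rw [H.conj_symm v w, hvw, one_pow]
  have hzv : hm z v = 0 := (H.eq_zero_symm hF).1 hvz
  have hzw : hm z w = 0 := (H.eq_zero_symm hF).1 hwz
  have hli : LinearIndependent F ![v, w, z] := by
    rw [Fintype.linearIndependent_iff]
    intro c hc
    simp only [Fin.sum_univ_three, Matrix.cons_val_zero, Matrix.cons_val_one, Matrix.cons_val] at hc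
    have h0 := congrArg (fun y => hm y w) hc
    have h1 := congrArg (fun y => hm y v) hc
    have h2 := congrArg (fun y => hm y z) hc
    simp only [H.add_left, H.smul_left, H.zero_left, hv, hw, hvw, hwv, hzv, hzw, hvz, hwz, hz,
      mul_zero, mul_one, add_zero, zero_add] at h0 h1 h2
    intro i; fin_cases i <;> assumption
  have hspan := hli.span_eq_top_of_card_eq_finrank' (by simp)
  obtain ⟨c, rfl⟩ := Submodule.mem_span_range_iff_exists_fun F |>.1
    (show x ∈ Submodule.span F (Set.range ![v, w, z]) by rw [hspan]; trivial)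
  simp only [Fin.sum_univ_three, Matrix.cons_val_zero, Matrix.cons_val_one, Matrix.cons_val,
    H.add_left, H.smul_left, hv, hw, hvw, hwv, hzv, hzw, hvz, hwz, hz,
    mul_zero, mul_one, add_zero, zero_add]

theorem three_numeric (hq : 2 ≤ q) :
    (q + 2) * q ^ 5 ≤ (q + 1) * (2 * ((q ^ 3 + 1) * (q ^ 2 - 1))) := by
  obtain ⟨r, rfl⟩ : ∃ r, q = r + 2 := ⟨q - 2, by omega⟩
  have h1 : 1 ≤ (r + 2) ^ 2 := Nat.one_le_pow _ _ (by omega)
  zify [h1]
  have h2 : (0 : ℤ) ≤ r := Int.natCast_nonneg r
  nlinarith [pow_nonneg h2 2, pow_nonneg h2 3, pow_nonneg h2 4, pow_nonneg h2 5, pow_nonneg h2 6]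

theorem translates_three (hF : Fintype.card F = q ^ 2) {K : AddSubgroup F} (hK : K ≠ ⊤)
    {X : AddSubgroup V3} (hX : ∀ a ∈ X, ∀ b ∈ X, hm a b ∈ K) (hbig : q ^ 2 < Nat.card X) :
    (q + 2) * Nat.card X ≤ (q + 1) * nT 3 q (X : Set V3) := by
  have H := hermForm_isHerm hF 3
  have hq := two_le_q hF
  have hXq : Nat.card X ≤ q ^ 3 := card_le_pow hF hK hX
  have goal_of : (q + 2) * q ^ 3 ≤ (q + 1) * nT 3 q (X : Set V3) →
      (q + 2) * Nat.card X ≤ (q + 1) * nT 3 q (X : Set V3) := fun h =>
    (Nat.mul_le_mul_left _ hXq).trans h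
  by_contra hfail
  -- facts about an isotropic vector of X
  have key : ∀ v ∈ X, v ≠ 0 → hm v v = 0 →
      q ^ 3 < 2 * ((X : Set V3) ∩ cls 3 q (0 : F)).ncard ∧ (∀ x ∈ X, hm x v + hm v x = 0) ∧
      ∃ x ∈ X, hm x x ≠ 0 := by
    intro v hvX hv hv0
    obtain ⟨w, z, hw, hvw, hz, hvz, hwz⟩ := exists_frame3 hF hv hv0
    have hwv : hm w v = 1 := by rw [H.conj_symm v w, hvw, one_pow]
    have hzv : hm z v = 0 := (H.eq_zero_symm hF).1 hvz
    have hzw : hm z w = 0 := (H.eq_zero_symm hF).1 hwz
    have dec := decomp3 hF hv0 hw hvw hz hvz hwz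
    have hnorm : ∀ x, hm x x = hm x w * hm x v ^ q + (hm x w * hm x v ^ q) ^ q + hm x z ^ (q + 1) := by
      intro x
      conv_lhs => rw [dec x]
      simp only [H.add_left, H.add_right hF, H.smul_left, H.smul_right, hv0, hw, hvw, hwv, hzv, hzw,
        hvz, hwz, hz, mul_pow, pow_q_pow_q hF]
      ring
    let A : AddSubgroup F := X.comap ((smulAddHom F V3).flip v)
    have hA : ∀ α, α ∈ A ↔ α • v ∈ X := fun α => Iff.rfl
    let fs : V3 →+ F :=
      { toFun := fun x => hm x v, map_zero' := H.zero_left v, map_add' := fun a b => H.add_left a b v }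
    let fl : V3 →+ F :=
      { toFun := fun x => hm x z, map_zero' := H.zero_left z, map_add' := fun a b => H.add_left a b z }
    let S : AddSubgroup F := X.map fs
    let Λ : AddSubgroup F := (X ⊓ fs.ker).map fl
    have hAS : Nat.card A * Nat.card S ≤ q ^ 2 := pair_bound_one hF hK A S (by
      rintro α hα _ ⟨x, hx, rfl⟩
      have := hX _ hα _ hx
      rw [show ((smulAddHom F V3).flip v) α = α • v from rfl, H.smul_left, H.conj_symm x v] at this
      exact this)
    have hΛK : ∀ a ∈ Λ, ∀ b ∈ Λ, a * b ^ q ∈ K := by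
      rintro _ ⟨x, ⟨hx, hxv⟩, rfl⟩ _ ⟨y, ⟨hy, hyv⟩, rfl⟩
      have hxv' : hm x v = 0 := hxv
      have hyv' : hm y v = 0 := hyv
      have := hX x hx y hy
      rw [dec x, dec y, hxv', hyv'] at this
      simpa [H.add_left, H.add_right hF, H.smul_left, H.smul_right, hv0, hw, hvw, hwv, hzv, hzw,
        hvz, hwz, hz, zero_pow_q hF, fl, mul_comm] using this
    have hΛq : Nat.card Λ ≤ q := by
      have := pair_bound_one hF hK Λ Λ hΛK
      rw [sq] at this
      exact Nat.mul_self_le_mul_self_iff.1 this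
    have hKv : ∀ x ∈ X, hm x v = 0 → x = hm x w • v + hm x z • z := fun x _ h => by
      conv_lhs => rw [dec x]
      rw [h, zero_smul, add_zero]
    -- the fibres
    have hmapΛ : ∀ x ∈ X, hm x v = 0 → fl x ∈ (Λ : Set F) := fun x hx h => ⟨x, ⟨hx, h⟩, rfl⟩
    have hmapS : ∀ x ∈ X, fs x ∈ (S : Set F) := fun x hx => ⟨x, hx, rfl⟩
    let Ls : F → AddSubgroup F := fun s =>
      { carrier := {α | α * s ^ q + (α * s ^ q) ^ q = 0}
        zero_mem' := by simp [zero_pow_q hF]
        add_mem' := fun {a b} (ha : a * s ^ q + (a * s ^ q) ^ q = 0)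
          (hb : b * s ^ q + (b * s ^ q) ^ q = 0) => by
            show (a + b) * s ^ q + ((a + b) * s ^ q) ^ q = 0
            rw [add_mul, add_pow_q hF]; linear_combination ha + hb
        neg_mem' := fun {a} (ha : a * s ^ q + (a * s ^ q) ^ q = 0) => by
            show -a * s ^ q + (-a * s ^ q) ^ q = 0
            rw [neg_mul, neg_pow_q hF]; linear_combination -ha }
    have hLs : ∀ s, s ≠ 0 → Nat.card (Ls s) = q := fun s hs =>
      card_trace_fibre (c := s ^ q) (r := 0) hF (pow_ne_zero _ hs) (zero_pow_q hF)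
    have hfib : ∀ s t, ((X : Set V3) ∩ orb v q s t).ncard ≤
        Nat.card ↥(A ⊓ Ls s) * Nat.card Λ := by
      intro s t
      rcases Set.eq_empty_or_nonempty ((X : Set V3) ∩ orb v q s t) with he | ⟨x0, hx0⟩
      · rw [he]; simp
      rw [show Nat.card Λ = (Λ : Set F).ncard from Nat.card_coe_set_eq _]
      refine ncard_le_fibre (Set.toFinite _) (Set.toFinite _) (fun x => fl (x - x0)) (fun x hx =>
        hmapΛ (x - x0) (X.sub_mem hx.1 hx0.1) (by rw [H.sub_left, hx.2.1, hx0.2.1, sub_self])) _ fun b _ => ?_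
      rcases Set.eq_empty_or_nonempty {x ∈ (X : Set V3) ∩ orb v q s t | fl (x - x0) = b} with he | ⟨x1, hx1⟩
      · rw [he]; simp
      rw [← Nat.card_coe_set_eq]
      have hdiff : ∀ x : {x ∈ (X : Set V3) ∩ orb v q s t | fl (x - x0) = b},
          x.1 = x1 + (hm x.1 w - hm x1 w) • v := by
        rintro ⟨x, ⟨hx, hxo⟩, hxb⟩
        have e : hm x z = hm x1 z := by
          have := hxb.trans hx1.2.symm
          simpa [fl, H.sub_left] using this
        show x = _
        conv_lhs => rw [dec x, hxo.1, e]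
        conv_rhs => arg 1; rw [dec x1, hx1.1.2.1]
        rw [sub_smul]; abel
      refine Nat.card_le_card_of_injective (fun x => ⟨hm x.1 w - hm x1 w, ?_, ?_⟩) fun x y h => ?_
      · show (hm x.1 w - hm x1 w) • v ∈ X
        rw [show (hm x.1 w - hm x1 w) • v = x.1 - x1 by nth_rw 2 [hdiff x]; rw [add_sub_cancel_left]]
        exact X.sub_mem x.2.1.1 hx1.1.1
      · obtain ⟨⟨hx, hxo⟩, hxb⟩ := x.2
        show (_ - _) * s ^ q + ((_ - _) * s ^ q) ^ q = 0
        have e : hm x.1 z = hm x1 z := by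
          have := hxb.trans hx1.2.symm
          simpa [fl, H.sub_left] using this
        have n1 := hnorm x.1
        have n2 := hnorm x1
        rw [hxo.1, hxo.2.1, e] at n1
        rw [hx1.1.2.1, hx1.1.2.2.1] at n2
        rw [sub_mul, sub_pow_q hF]
        linear_combination n2 - n1
      · have h' : hm x.1 w - hm x1 w = hm y.1 w - hm x1 w := congrArg Subtype.val h
        exact Subtype.ext ((hdiff x).trans (by rw [h', ← hdiff y]))
    have hfibq : ∀ s t, s ≠ 0 → ((X : Set V3) ∩ orb v q s t).ncard ≤ q * q := fun s t hs =>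
      (hfib s t).trans (Nat.mul_le_mul ((Nat.card_le_card_of_injective _
        (AddSubgroup.inclusion_injective inf_le_right)).trans (hLs s hs).le) hΛq)
    -- S is nontrivial
    have hS : ∃ u ∈ X, hm u v ≠ 0 := by
      by_contra hS
      simp only [not_exists, not_and, not_not] at hS
      have hiso : ∀ x ∈ X, hm x x = 0 → hm x z = 0 := by
        intro x hx h0
        have := hnorm x
        rw [h0, hS x hx, zero_pow_q hF, mul_zero, zero_pow_q hF, zero_add, zero_add] at this
        exact (pow_eq_zero_iff (Nat.succ_ne_zero q)).1 this.symm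
      obtain ⟨y0, hy0, hly⟩ : ∃ y ∈ X, hm y z ≠ 0 := by
        by_contra hΛ
        simp only [not_exists, not_and, not_not] at hΛ
        have hle : Nat.card X ≤ Nat.card F := by
          refine Nat.card_le_card_of_injective (fun x => hm (x : V3) w) fun x y h => Subtype.ext ?_
          rw [hKv x.1 x.2 (hS x.1 x.2), hKv y.1 y.2 (hS y.1 y.2), hΛ x.1 x.2, hΛ y.1 y.2]
          exact congrArg (fun c => c • v + (0 : F) • z) h
        rw [card_F hF] at hle
        omega
      obtain ⟨ζ, hζ, hζΛ⟩ : ∃ ζ : F, ζ ^ (q + 1) = 1 ∧ ∃ l ∈ Λ, ζ * l ∉ Λ := by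
        by_contra hc
        simp only [not_exists, not_and, not_not] at hc
        let l0 := hm y0 z
        have hl0 : l0 ∈ Λ := ⟨y0, ⟨hy0, hS y0 hy0⟩, rfl⟩
        have h1 : (insert (0 : F) {ζ : F | ζ ^ (q + 1) = 1}).ncard ≤ (Λ : Set F).ncard := by
          refine Set.ncard_le_ncard_of_injOn (fun c => c * l0) ?_
            (fun a _ b _ h => mul_right_cancel₀ hly h) (Set.toFinite _)
          rintro c (rfl | hc')
          · simp
          · exact hc c hc' l0 hl0
        rw [Set.ncard_insert_of_notMem (by simp) (Set.toFinite _)] at h1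
        change Nat.card {ζ : F // ζ ^ (q + 1) = 1} + 1 ≤ Nat.card Λ at h1
        rw [card_norm_one hF] at h1
        omega
      obtain ⟨l, hl, hnot⟩ := hζΛ
      obtain ⟨M1, hM1, hM1d, hM1f, lam, hM1v⟩ :=
        exists_gu_scale hF hv0 hw hvw (m := ζ⁻¹) (inv_pow_succ ζ hζ)
      obtain ⟨M2, hM2, hM2d, hM2f, hM2z⟩ : ∃ M : Matrix (Fin 3) (Fin 3) F, IsUnitary q M ∧ M.det = ζ ∧
          (∀ x, hm x z = 0 → M *ᵥ x = x) ∧ M *ᵥ z = ζ • z := by
        refine ⟨Cfsg.unitaryTransvection 3 q z (ζ - 1), fun x y => ?_, ?_, fun x hx => ?_, ?_⟩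
        · rw [transvection_mulVec, transvection_mulVec, H.add_left, H.add_right hF, H.add_right hF,
            H.smul_left, H.smul_left, H.smul_right, H.smul_right, hz, H.conj_symm y z, mul_pow,
            sub_pow_q hF, one_pow]
          linear_combination hm x z * hm y z ^ q * hζ
        · rw [Cfsg.unitaryTransvection, ← Matrix.smul_vecMulVec,
            Matrix.vecMulVec_eq Unit, Matrix.det_one_add_replicateCol_mul_replicateRow]
          have : (fun j => z j ^ q) ⬝ᵥ ((ζ - 1) • z) = ζ - 1 := by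
            rw [dotProduct_smul, smul_eq_mul, AutPSU.conj_dot, hz, mul_one]
          rw [this]; ring
        · rw [transvection_mulVec, hx, mul_zero, zero_smul, add_zero]
        · rw [transvection_mulVec, hz]; module
      have hdet : (M2 * M1).det = 1 := by
        rw [Matrix.det_mul, hM1d, hM2d, mul_inv_cancel₀ (fun h => by simp [h] at hζ)]
      let g1 : Cfsg.SU 3 F q := suOfUnitary _ (hM2.mul hM1) hdet
      have hg1z : suAct g1 z = ζ • z := by
        show (M2 * M1) *ᵥ z = _
        rw [← Matrix.mulVec_mulVec, hM1f z hzv hzw, hM2z]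
      have hg1v : suAct g1 v = lam • v := by
        show (M2 * M1) *ᵥ v = _
        rw [← Matrix.mulVec_mulVec, hM1v, Matrix.mulVec_smul, hM2f v hvz]
      have hg1X : suPerm 3 F q g1 '' (X : Set V3) ≠ X := by
        intro he
        obtain ⟨x, ⟨hx, hxv⟩, rfl⟩ := hl
        have hgx : suAct g1 x ∈ (X : Set V3) := he ▸ Set.mem_image_of_mem (suPerm 3 F q g1) hx
        refine hnot ⟨suAct g1 x, ⟨hgx, hS _ hgx⟩, ?_⟩
        show hm (suAct g1 x) z = ζ * hm x z
        rw [hKv x hx hxv, suAct_add, suAct_smul, suAct_smul, hg1v, hg1z]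
        simp [H.add_left, H.smul_left, hvz, hz]
        ring
      -- two translates for each line
      let C := cls 3 q (0 : F)
      have htr : ∀ p : IsoLine 3 F q, ∃ g : Cfsg.SU 3 F q,
          g • IsoLine.mk v hv hv0 = p := fun p => by
        have := isoLine_pretransitive (n := 3) hF le_rfl
        exact MulAction.exists_smul_eq _ _ _
      choose g hg using htr
      have hfix1 : g1 • IsoLine.mk v hv hv0 = IsoLine.mk v hv hv0 := by
        rw [IsoLine.smul_mk]; exact IsoLine.mk_eq_iff.2 ⟨lam, hg1v.symm⟩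
      have hline : ∀ (a b : Cfsg.SU 3 F q), suPerm 3 F q a '' (X : Set V3) = suPerm 3 F q b '' X →
          a • IsoLine.mk v hv hv0 = b • IsoLine.mk v hv hv0 := by
        intro a b hab
        have : suAct a v ∈ suPerm 3 F q b '' (X : Set V3) := hab ▸ Set.mem_image_of_mem _ hvX
        obtain ⟨x, hx, hbx⟩ := this
        change suAct b x = suAct a v at hbx
        have hx0 : hm x x = 0 := by rw [← suAct_herm b x x, hbx, suAct_herm, hv0]
        have hxe : x = hm x w • v := by
          conv_lhs => rw [hKv x hx (hS x hx), hiso x hx hx0, zero_smul, add_zero]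
        rw [IsoLine.smul_mk, IsoLine.smul_mk]
        exact IsoLine.mk_eq_iff.2 ⟨hm x w, by rw [← suAct_smul, ← hxe, hbx]⟩
      have hcomp : ∀ a b : Cfsg.SU 3 F q, suPerm 3 F q (a * b) '' (X : Set V3) =
          suPerm 3 F q a '' (suPerm 3 F q b '' X) := fun a b => by
        rw [map_mul, Equiv.Perm.coe_mul, Set.image_comp]
      have h2 : Nat.card (IsoLine 3 F q × Bool) ≤ nT 3 q (X : Set V3) := by
        rw [nT, ← Nat.card_coe_set_eq]
        refine Nat.card_le_card_of_injective
          (fun p => ⟨suPerm 3 F q (g p.1 * bif p.2 then g1 else 1) '' X, _, rfl⟩) ?_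
        rintro ⟨p, b⟩ ⟨p', b'⟩ he
        have he' : suPerm 3 F q (g p * bif b then g1 else 1) '' (X : Set V3) =
            suPerm 3 F q (g p' * bif b' then g1 else 1) '' X := congrArg Subtype.val he
        have hl' := hline _ _ he'
        have hb : ∀ b : Bool, (bif b then g1 else 1) • IsoLine.mk v hv hv0 = IsoLine.mk v hv hv0 := by
          rintro (_ | _) <;> simp [hfix1]
        rw [mul_smul, mul_smul, hb, hb, hg, hg] at hl'
        subst hl'
        rw [hcomp, hcomp] at he'
        have he'' := (suPerm 3 F q (g p)).injective.image_injective he'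
        cases b <;> cases b' <;> simp only [cond_true, cond_false, map_one, Equiv.Perm.coe_one, Set.image_id] at he'' <;>
          first
            | rfl
            | exact absurd he'' hg1X
            | exact absurd he''.symm hg1X
      have hI : Nat.card (IsoLine 3 F q) = tiN F q 3 1 :=
        Nat.card_congr (Equiv.subtypeEquivRight fun W => by
          constructor
          · rintro ⟨a, ha, ha0, rfl⟩
            refine ⟨finrank_span_singleton ha, fun x hx y hy => ?_⟩
            obtain ⟨c, rfl⟩ := Submodule.mem_span_singleton.1 hx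
            obtain ⟨c', rfl⟩ := Submodule.mem_span_singleton.1 hy
            rw [H.smul_left, H.smul_right, ha0, mul_zero, mul_zero]
          · rintro ⟨h1, h2⟩
            obtain ⟨a, ha, hspan⟩ := finrank_eq_one_iff'.1 h1
            refine ⟨a.1, fun h => ha (Subtype.ext h), h2 _ a.2 _ a.2, le_antisymm (fun x hx => ?_)
              ((Submodule.span_singleton_le_iff_mem _ _).2 a.2)⟩
            obtain ⟨c, hc⟩ := hspan ⟨x, hx⟩
            exact Submodule.mem_span_singleton.2 ⟨c, congrArg Subtype.val hc⟩)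
      have hI2 : Nat.card (IsoLine 3 F q) = q ^ 3 + 1 := by
        rw [hI]
        have h4 : 4 ≤ q ^ 2 := Nat.pow_le_pow_left hq 2
        refine Nat.eq_of_mul_eq_mul_right (show 0 < q ^ 2 - 1 by omega) ?_
        rw [tiN_one hF (by omega), isoC, if_neg (by decide), cmin]
      rw [Nat.card_prod, hI2, Nat.card_eq_fintype_card (α := Bool), Fintype.card_bool] at h2
      refine hfail (goal_of ?_)
      calc (q + 2) * q ^ 3 ≤ (q + 1) * ((q ^ 3 + 1) * 2) := by
            rw [← mul_assoc, mul_comm ((q + 1) * _) 2, ← mul_assoc]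
            exact Nat.mul_le_mul (by omega) (Nat.le_succ _)
        _ ≤ _ := Nat.mul_le_mul_left _ h2
    have hcount : ∀ u ∈ X, hm u v ≠ 0 → (q ^ 3 + 1) * (q ^ 2 - 1) * q ^ 3 ≤
        nT 3 q (X : Set V3) * (((X : Set V3) ∩ cls 3 q (0 : F)).ncard *
          ((X : Set V3) ∩ orb v q (hm u v) (hm u u)).ncard) := by
      intro u hu hs
      have huo : u ∈ orb v q (hm u v) (hm u u) :=
        ⟨rfl, rfl, fun c hc => hs (by rw [← hc, H.smul_left, hv0, mul_zero])⟩
      have h := orbit_count hF le_rfl hv hvX hu huo fun x hx =>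
        exists_norm_one_perp_hyp hF le_rfl hv0 (by rw [hx.1]; exact hs)
      rw [hv0] at h
      refine le_trans ?_ h
      refine Nat.mul_le_mul ?_ (le_trans ?_ (orb_lower_iso hF (by omega) hv0 hs))
      · rw [ncard_cls_iso hF, isoC, if_neg (by decide), cmin]
      · rw [show 3 - 2 = 1 by rfl, pow_one, ← pow_succ]
    have hdone : ∀ u ∈ X, hm u v ≠ 0 → ¬ 2 * (((X : Set V3) ∩ cls 3 q (0 : F)).ncard *
          ((X : Set V3) ∩ orb v q (hm u v) (hm u u)).ncard) ≤ q ^ 5 := by
      intro u hu hs hle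
      refine hfail (goal_of ?_)
      have h := hcount u hu hs
      refine Nat.le_of_mul_le_mul_right ?_ (show 0 < q ^ 5 by positivity)
      calc (q + 2) * q ^ 3 * q ^ 5 = q ^ 3 * ((q + 2) * q ^ 5) := by ring
        _ ≤ q ^ 3 * ((q + 1) * (2 * ((q ^ 3 + 1) * (q ^ 2 - 1)))) :=
            Nat.mul_le_mul_left _ (three_numeric hq)
        _ = (q + 1) * (2 * ((q ^ 3 + 1) * (q ^ 2 - 1) * q ^ 3)) := by ring
        _ ≤ (q + 1) * (2 * (nT 3 q (X : Set V3) * (((X : Set V3) ∩ cls 3 q (0 : F)).ncard *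
            ((X : Set V3) ∩ orb v q (hm u v) (hm u u)).ncard))) :=
              Nat.mul_le_mul_left _ (Nat.mul_le_mul_left _ h)
        _ = (q + 1) * nT 3 q (X : Set V3) * (2 * (((X : Set V3) ∩ cls 3 q (0 : F)).ncard *
            ((X : Set V3) ∩ orb v q (hm u v) (hm u u)).ncard)) := by ring
        _ ≤ _ := Nat.mul_le_mul_left _ hle
    obtain ⟨u0, hu0, hs0⟩ := hS
    -- many isotropic vectors
    have hmaj : q ^ 3 < 2 * ((X : Set V3) ∩ cls 3 q (0 : F)).ncard := by
      by_contra hc
      refine hdone u0 hu0 hs0 ?_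
      calc _ = 2 * ((X : Set V3) ∩ cls 3 q (0 : F)).ncard *
            ((X : Set V3) ∩ orb v q (hm u0 v) (hm u0 u0)).ncard := by ring
        _ ≤ q ^ 3 * (q * q) := Nat.mul_le_mul (not_lt.1 hc) (hfibq _ _ hs0)
        _ = _ := by ring
    have hC0 : ((X : Set V3) ∩ cls 3 q (0 : F)).ncard ≤ q ^ 3 := le_trans
      (Set.ncard_le_ncard Set.inter_subset_left) hXq
    have hbad : ∀ u ∈ X, hm u v ≠ 0 → Ls (hm u v) ≤ A ∧ Λ ≠ ⊥ := by
      intro u hu hs
      have h := hdone u hu hs
      have h' : q ^ 2 < 2 * (Nat.card ↥(A ⊓ Ls (hm u v)) * Nat.card Λ) := by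
        by_contra hc
        refine h (le_trans ?_ (le_of_eq (show q ^ 3 * q ^ 2 = q ^ 5 by ring)))
        calc _ ≤ 2 * (q ^ 3 * (Nat.card ↥(A ⊓ Ls (hm u v)) * Nat.card Λ)) :=
              Nat.mul_le_mul_left _ (Nat.mul_le_mul hC0 (hfib _ _))
          _ = q ^ 3 * (2 * (Nat.card ↥(A ⊓ Ls (hm u v)) * Nat.card Λ)) := by ring
          _ ≤ _ := Nat.mul_le_mul_left _ (not_lt.1 hc)
      constructor
      · by_contra hle
        have := two_mul_card_le_of_lt (lt_of_le_of_ne (inf_le_right : A ⊓ Ls (hm u v) ≤ Ls (hm u v))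
          fun e => hle (e ▸ inf_le_left))
        rw [hLs _ hs] at this
        have : 2 * (Nat.card ↥(A ⊓ Ls (hm u v)) * Nat.card Λ) ≤ q * q := by
          rw [← mul_assoc]; exact Nat.mul_le_mul this hΛq
        rw [sq] at h'
        omega
      · intro hΛ
        rw [hΛ, AddSubgroup.card_bot, mul_one] at h'
        have : Nat.card ↥(A ⊓ Ls (hm u v)) ≤ q := (Nat.card_le_card_of_injective _
          (AddSubgroup.inclusion_injective inf_le_right)).trans (hLs _ hs).le
        have : q * 2 ≤ q ^ 2 := by rw [sq]; exact Nat.mul_le_mul_left _ hq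
        omega
    have hAq : ∀ u ∈ X, hm u v ≠ 0 → A = Ls (hm u v) := by
      intro u hu hs
      refine le_antisymm ?_ (hbad u hu hs).1
      by_contra hle
      have h2A := two_mul_card_le_of_lt (lt_of_le_of_ne (hbad u hu hs).1 fun e => hle e.ge)
      rw [hLs _ hs] at h2A
      have h2S : 2 * Nat.card S ≤ q := by
        refine Nat.le_of_mul_le_mul_left ?_ (show 0 < q by omega)
        calc q * (2 * Nat.card S) = 2 * q * Nat.card S := by ring
          _ ≤ Nat.card A * Nat.card S := Nat.mul_le_mul_right _ h2A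
          _ ≤ q * q := by rw [← sq]; exact hAS
      have hfi : ((X : Set V3) ∩ cls 3 q (0 : F)).ncard ≤ q ^ 2 * Nat.card S := by
        rw [show Nat.card S = (S : Set F).ncard from Nat.card_coe_set_eq _]
        refine ncard_le_fibre (Set.toFinite _) (Set.toFinite _) fs
          (fun x hx => hmapS x hx.1) _ fun s _ => ?_
        by_cases hs' : s = 0
        · refine le_trans (Set.ncard_le_ncard_of_injOn (fun x => hm x w) (fun x _ => Set.mem_univ _)
            ?_ (Set.toFinite _)) (by rw [Set.ncard_univ, card_F hF])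
          rintro x ⟨⟨hx, -, hx0⟩, hxs⟩ y ⟨⟨hy, -, hy0⟩, hys⟩ hxy
          have f : ∀ r, fs r = s → hm r r = 0 → hm r z = 0 ∧ hm r v = 0 := fun r hr hr0 => by
            have hrv : hm r v = 0 := by rw [← hs', ← hr]; rfl
            refine ⟨?_, hrv⟩
            have := hnorm r
            rw [hr0, hrv, zero_pow_q hF, mul_zero, zero_pow_q hF, zero_add, zero_add] at this
            exact (pow_eq_zero_iff (Nat.succ_ne_zero q)).1 this.symm
          rw [dec x, dec y, (f x hxs hx0).1, (f x hxs hx0).2, (f y hys hy0).1, (f y hys hy0).2]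
          exact congrArg (fun c => c • v + (0 : F) • w + (0 : F) • z) hxy
        · refine le_trans (Set.ncard_le_ncard (t := (X : Set V3) ∩ orb v q s 0) ?_)
            (by rw [sq]; exact hfibq _ _ hs')
          rintro x ⟨⟨hx, -, hx0⟩, hxs⟩
          exact ⟨hx, hxs, hx0, fun c hc => hs' (by
            rw [← hxs, ← hc]; show hm (c • v) v = 0; rw [H.smul_left, hv0, mul_zero])⟩
      have : 2 * ((X : Set V3) ∩ cls 3 q (0 : F)).ncard ≤ q ^ 3 := by
        calc _ ≤ 2 * (q ^ 2 * Nat.card S) := Nat.mul_le_mul_left _ hfi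
          _ = q ^ 2 * (2 * Nat.card S) := by ring
          _ ≤ q ^ 2 * q := Nat.mul_le_mul_left _ h2S
          _ = _ := by ring
      omega
    refine ⟨hmaj, fun x hx => ?_, ?_⟩
    · by_cases hs : hm x v = 0
      · rw [hs, (H.eq_zero_symm hF).1 hs, add_zero]
      · have h1 : (1 : F) ∈ Ls (hm x v) := by
          rw [← hAq x hx hs, hA, one_smul]; exact hvX
        have h1' : (1 : F) * hm x v ^ q + (1 * hm x v ^ q) ^ q = 0 := h1
        rw [one_mul, pow_q_pow_q hF, ← H.conj_symm x v] at h1'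
        rw [add_comm]; exact h1'
    · by_contra hc
      simp only [not_exists, not_and, not_not] at hc
      refine (hbad u0 hu0 hs0).2 (eq_bot_iff.2 ?_)
      rintro _ ⟨x, ⟨hx, hxv⟩, rfl⟩
      have hxv' : hm x v = 0 := hxv
      have := hnorm x
      rw [hc x hx, hxv', zero_pow_q hF, mul_zero, zero_pow_q hF, zero_add, zero_add] at this
      exact AddSubgroup.mem_bot.2 ((pow_eq_zero_iff (Nat.succ_ne_zero q)).1 this.symm)
  -- all isotropic vectors lie in a proper subgroup
  obtain ⟨v, hvX, hv, hv0⟩ := exists_iso_of_big hF X hbig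
  let R : AddSubgroup V3 :=
    { carrier := {x | x ∈ X ∧ hm x x = 0 ∧ ∀ y ∈ X, hm y x + hm x y = 0}
      zero_mem' := ⟨X.zero_mem, H.zero_left _, fun y _ => by rw [H.zero_left, H.zero_right hF, add_zero]⟩
      add_mem' := fun {a b} ha hb => ⟨X.add_mem ha.1 hb.1, by
          have := hb.2.2 a ha.1
          rw [H.add_left, H.add_right hF, H.add_right hF, ha.2.1, hb.2.1]
          linear_combination this,
        fun y hy => by
          rw [H.add_left, H.add_right hF]
          linear_combination ha.2.2 y hy + hb.2.2 y hy⟩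
      neg_mem' := fun {a} ha => ⟨X.neg_mem ha.1, by
          rw [H.neg_left, H.neg_right hF, neg_neg, ha.2.1],
        fun y hy => by
          rw [H.neg_left, H.neg_right hF]
          linear_combination -(ha.2.2 y hy)⟩ }
  have hRX : R < X := by
    refine lt_of_le_of_ne (fun x hx => hx.1) fun e => ?_
    obtain ⟨x, hx, hx0⟩ := (key v hvX hv hv0).2.2
    exact hx0 (e ▸ hx : x ∈ R).2.1
  have hCR : ((X : Set V3) ∩ cls 3 q (0 : F)).ncard ≤ Nat.card R :=
    Set.ncard_le_ncard (t := (R : Set V3)) fun x hx =>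
      ⟨hx.1, hx.2.2, (key x hx.1 hx.2.1 hx.2.2).2.1⟩
  have h2 : 2 * ((X : Set V3) ∩ cls 3 q (0 : F)).ncard ≤ q ^ 3 :=
    ((Nat.mul_le_mul_left _ hCR).trans (two_mul_card_le_of_lt hRX)).trans hXq
  exact absurd h2 (not_le.2 (key v hvX hv hv0).1)

/-- Translates of a subgroup with products in a proper subgroup. -/
theorem key_translates {d : ℕ} (hF : Fintype.card F = q ^ 2) (hd : 3 ≤ d) {K : AddSubgroup F}
    (hK : K ≠ ⊤) {X : AddSubgroup (Fin d → F)} (hX0 : X ≠ ⊥)
    (hX : ∀ a ∈ X, ∀ b ∈ X, Cfsg.hermForm d F q a b ∈ K) :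
    (q + 2) * Nat.card X ≤ (q + 1) * nT d q (X : Set (Fin d → F)) := by
  rcases Nat.lt_or_ge (q ^ 2) (Nat.card X) with hbig | hs
  · rcases Nat.eq_or_lt_of_le hd with rfl | hd4
    · exact translates_three hF hK hX hbig
    · by_cases h0 : ∀ a ∈ X, ∀ b ∈ X, Cfsg.hermForm d F q a b = 0
      · exact translates_ti hF hd4 hK hX hbig h0
      · simp only [not_forall] at h0
        obtain ⟨a, ha, b, hb, hab⟩ := h0
        exact translates_pair hF hd4 hK hX hbig ⟨a, ha, b, hb, hab⟩
  · exact translates_small hF hd hX0 hs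

end Cfsg.Agent.MinIndexU
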