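import Cfsg.Agent.Lib.MinIndexU.Radical
import Cfsg.Agent.Lib.MinIndexU.Three
/-
Points moved by the root group at va.
* Fix0, Mov0; scal_count; mov_bound; mov_dichotomy; exists_mov; exists_fixed_or
-/
set_option autoImplicit false

namespace Cfsg.Agent.MinIndexU

open Cfsg.Agent.Unitary
open Cfsg.Agent.SUMinDegree
open scoped Matrix

variable {F : Type*} [Field F] [Fintype F] {q d : ℕ} (hF : Fintype.card F = q ^ 2)
variable {Ω : Type*} [MulAction (Cfsg.SU (2 + d) F q) Ω]

local notation "hn" => Cfsg.hermForm (2 + d) F q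
local notation "Vn" => (Fin (2 + d) → F)
local notation "Wd" => (Fin d → F)

/-- The points fixed by the root group at `va`. -/
def Fix0 (d : ℕ) [MulAction (Cfsg.SU (2 + d) F q) Ω] : Set Ω := {ω | skewGrp hF ≤ Zof hF d ω}

/-- The other points. -/
def Mov0 (d : ℕ) [MulAction (Cfsg.SU (2 + d) F q) Ω] : Set Ω := {ω | ¬ skewGrp hF ≤ Zof hF d ω}

theorem isE_tv (θ : skewGrp hF) :
    IsE hF (tv hF (va hF d) (va_va hF) θ) (0 : Wd) θ.1 := fun x => by
  rw [suAct_tv, map_zero, (hermForm_isHerm hF _).zero_right hF]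
  simp

/-- The fixed scalars moving a subgroup of the skew elements. -/
theorem scal_count (Z0 : AddSubgroup F) (hle : Z0 ≤ skewGrp hF) (hne : ¬ skewGrp hF ≤ Z0) :
    (q - 1 + ((fun c => (fun z => c * z) '' (Z0 : Set F)) '' {c : F | c ^ q = c ∧ c ≠ 0}).ncard) *
        Nat.card Z0 ≤
      ((fun c => (fun z => c * z) '' (Z0 : Set F)) '' {c : F | c ^ q = c ∧ c ≠ 0}).ncard * q := by
  classical
  set I := ((fun c => (fun z => c * z) '' (Z0 : Set F)) '' {c : F | c ^ q = c ∧ c ≠ 0})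
  obtain ⟨s, hs, hsZ⟩ := Set.not_subset.1 hne
  let K0 : AddSubgroup F :=
    { carrier := {c | c ^ q = c ∧ ∀ z ∈ Z0, c * z ∈ Z0}
      zero_mem' := ⟨zero_pow_q hF, fun z _ => by rw [zero_mul]; exact Z0.zero_mem⟩
      add_mem' := fun {a b} ha hb => ⟨by rw [add_pow_q hF, ha.1, hb.1],
        fun z hz => by rw [add_mul]; exact Z0.add_mem (ha.2 z hz) (hb.2 z hz)⟩
      neg_mem' := fun {a} ha => ⟨by rw [neg_pow_q hF, ha.1],
        fun z hz => by rw [neg_mul]; exact Z0.neg_mem (ha.2 z hz)⟩ }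
  have h1 : Nat.card K0 * Nat.card Z0 ≤ q := by
    rw [← card_skewGrp hF, ← Nat.card_prod]
    refine Nat.card_le_card_of_injective (fun p => ⟨p.1.1 * s + p.2.1,
      (skewGrp hF).add_mem (smulFix hF p.1.1 p.1.2.1 ⟨s, hs⟩).2 (hle p.2.2)⟩) ?_
    rintro ⟨c, z⟩ ⟨c', z'⟩ h
    have h' : c.1 * s + z.1 = c'.1 * s + z'.1 := congrArg Subtype.val h
    by_cases hcc : (c.1 - c'.1) = 0
    · obtain rfl : c = c' := Subtype.ext (sub_eq_zero.1 hcc)
      obtain rfl : z = z' := Subtype.ext (add_left_cancel h')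
      rfl
    · exfalso
      have hδ : c.1 - c'.1 ∈ K0 := K0.sub_mem c.2 c'.2
      have himg : (fun y => (c.1 - c'.1) * y) '' (Z0 : Set F) = Z0 :=
        Set.eq_of_subset_of_ncard_le (Set.image_subset_iff.2 fun y hy => hδ.2 y hy)
          (by rw [Set.ncard_image_of_injective _ (mul_right_injective₀ hcc)])
      obtain ⟨y, hy, he⟩ : (z'.1 - z.1) ∈ (fun y => (c.1 - c'.1) * y) '' (Z0 : Set F) := by
        rw [himg]; exact Z0.sub_mem z'.2 z.2
      refine hsZ ((mul_right_injective₀ hcc (?_ : (c.1 - c'.1) * y = (c.1 - c'.1) * s)) ▸ hy)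
      rw [show (c.1 - c'.1) * y = z'.1 - z.1 from he]
      linear_combination -h'
  have h2 : {c : F | c ^ q = c ∧ c ≠ 0}.ncard ≤ ((K0 : Set F) \ {0}).ncard * I.ncard := by
    refine ncard_le_fibre (Set.toFinite _) (Set.toFinite _) _
      (fun c hc => Set.mem_image_of_mem _ hc) _ fun J _ => ?_
    rcases Set.eq_empty_or_nonempty {c ∈ {c : F | c ^ q = c ∧ c ≠ 0} |
        (fun z => c * z) '' (Z0 : Set F) = J} with he | ⟨c0, ⟨hc0, hc0'⟩, hJ⟩
    · rw [he]; simp
    refine Set.ncard_le_ncard_of_injOn (fun c => c / c0) ?_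
      (fun a _ b _ h => (div_left_inj' hc0').1 h) (Set.toFinite _)
    rintro c ⟨⟨hc, hc'⟩, hcJ⟩
    refine ⟨⟨by rw [div_pow, hc, hc0], fun z hz => ?_⟩, div_ne_zero hc' hc0'⟩
    obtain ⟨y, hy, he⟩ : c * z ∈ (fun z => c0 * z) '' (Z0 : Set F) := by
      rw [hJ, ← hcJ]; exact ⟨z, hz, rfl⟩
    rw [div_mul_eq_mul_div, ← he, mul_div_cancel_left₀ _ hc0']
    exact hy
  have h3 : q - 1 ≤ (Nat.card K0 - 1) * I.ncard := by
    have e1 : {c : F | c ^ q = c ∧ c ≠ 0}.ncard = q - 1 := by
      rw [show {c : F | c ^ q = c ∧ c ≠ 0} = {c : F | c ^ q = c} \ {0} by ext c; simp,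
        Set.ncard_sdiff_singleton_of_mem (show (0 : F) ∈ {c : F | c ^ q = c} from zero_pow_q hF),
        ← Nat.card_coe_set_eq]
      exact congrArg (· - 1) (card_fixed hF)
    rw [e1, Set.ncard_sdiff_singleton_of_mem K0.zero_mem] at h2
    exact h2
  have hK1 : 1 ≤ Nat.card K0 := Nat.card_pos
  calc (q - 1 + I.ncard) * Nat.card Z0 ≤ ((Nat.card K0 - 1) * I.ncard + I.ncard) * Nat.card Z0 :=
        Nat.mul_le_mul_right _ (Nat.add_le_add_right h3 _)
    _ = I.ncard * (Nat.card K0 * Nat.card Z0) := by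
        rw [← Nat.succ_mul, show (Nat.card K0 - 1).succ = Nat.card K0 by omega]; ring
    _ ≤ _ := Nat.mul_le_mul_left _ h1

variable [Finite Ω]

theorem mov_bound (hd : 3 ≤ d) {ω : Ω} (hω : ω ∈ Mov0 hF d) :
    (q + 2) * ((q ^ 2) ^ d * q) ≤ (q + 1) * (Mov0 hF d (Ω := Ω)).ncard ∨
      (Xof hF d ω = ⊥ ∧ Zof hF d ω = ⊥) := by
  classical
  have hq := two_le_q hF
  set X := Xof hF d ω with hX
  set Z0 := Zof hF d ω with hZ
  let φ : F →+ F :=
    { toFun := fun x => x - x ^ q
      map_zero' := by simp [zero_pow_q hF]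
      map_add' := fun x y => by rw [add_pow_q hF]; ring }
  have hK : Z0.comap φ ≠ ⊤ := by
    intro htop
    refine hω fun s hs => ?_
    obtain ⟨η, hη⟩ := one_half_not_skew hF
    have : η * s ∈ Z0.comap φ := htop ▸ AddSubgroup.mem_top _
    have e : φ (η * s) = s := by
      show η * s - (η * s) ^ q = s
      rw [mul_pow, eq_neg_of_add_eq_zero_right (show s + s ^ q = 0 from hs)]
      linear_combination s * hη
    rwa [AddSubgroup.mem_comap, e] at this
  have hXX : ∀ a ∈ X, ∀ b ∈ X, Cfsg.hermForm d F q a b ∈ Z0.comap φ := fun a ha b hb => by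
    rw [AddSubgroup.mem_comap]
    show _ - _ ^ q ∈ Z0
    rw [← (hermForm_isHerm hF d).conj_symm]
    exact commutator_mem hF ω ha hb
  set I := ((fun c => (fun z => c * z) '' (Z0 : Set F)) '' {c : F | c ^ q = c ∧ c ≠ 0})
  have hsc := scal_count hF Z0 (Zof_le_skew hF ω) hω
  have hlev : ∀ J : I, ∃ g : lev hF d,
      (fun z => kap hF g.1 ^ (q + 1) * z) '' (Z0 : Set F) = J.1 := by
    rintro ⟨_, c, ⟨hc, hc0⟩, rfl⟩
    obtain ⟨κ, hκ⟩ := exists_norm_eq hF hc
    have hκ0 : κ ≠ 0 := fun h => hc0 (by rw [← hκ, h, zero_pow (Nat.succ_ne_zero q)])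
    obtain ⟨g, hg, hgk⟩ := exists_lev_kap (hF := hF) (d := d) (by omega) hκ0
    exact ⟨⟨g, hg⟩, by simp only [hgk, hκ]⟩
  choose gI hgI using hlev
  let pairs := (trs (suPerm d F q) (X : Set Wd)) × I
  let lbl : pairs → Set Wd × Set F := fun p => (rhoX hF d (gI p.2) '' p.1.1, p.2.1)
  have hinj : Function.Injective lbl := by
    rintro ⟨Y, J⟩ ⟨Y', J'⟩ h
    simp only [lbl, Prod.mk.injEq] at h
    obtain rfl : J = J' := Subtype.ext h.2
    obtain rfl : Y = Y' := Subtype.ext ((rhoX hF d (gI J)).injective.image_injective h.1)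
    rfl
  have hatt : ∀ l ∈ Set.range lbl, ∃ ω' : Ω, lab hF d ω' = l := by
    rintro _ ⟨⟨⟨_, B, rfl⟩, J⟩, rfl⟩
    obtain ⟨hB, hBk, hBg⟩ := levJ (hF := hF) B
    refine ⟨((gI J) * ⟨_, hB⟩ : lev hF d).1 • ω, ?_⟩
    obtain ⟨h1, h2⟩ := lab_lev hF ((gI J) * ⟨_, hB⟩) ω
    show ((Xof hF d _ : Set Wd), (Zof hF d _ : Set F)) = _
    rw [h1, h2]
    refine Prod.ext ?_ ?_ <;> dsimp only
    · show _ = rhoX hF d (gI J) '' (suPerm d F q B '' (X : Set Wd))
      rw [map_mul, Equiv.Perm.coe_mul, Set.image_comp, ← hX]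
      congr 1
      refine Set.image_congr' fun w => ?_
      rw [rhoX_apply, hBk, hBg, one_pow, one_smul]
      rfl
    · show _ = J.1
      rw [← hgI J, ← hZ, Subgroup.coe_mul, kap_mul (gI J).2 hB, hBk, mul_one]
  have hsize : ∀ l ∈ Set.range lbl, l.1.ncard * l.2.ncard = Nat.card X * Nat.card Z0 := by
    rintro _ ⟨⟨⟨_, B, rfl⟩, J⟩, rfl⟩
    simp only [lbl]
    rw [← hgI J, Set.ncard_image_of_injective _ (rhoX hF d (gI J)).injective,
      Set.ncard_image_of_injective _ (suPerm d F q B).injective,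
      Set.ncard_image_of_injective _ (mul_right_injective₀ (pow_ne_zero _ (kap_spec (gI J).2).2))]
    rfl
  have hmov : {ω' : Ω | lab hF d ω' ∈ Set.range lbl} ⊆ Mov0 hF d := by
    rintro ω' ⟨⟨Y, J⟩, hl⟩ hle
    have e : (Zof hF d ω' : Set F) = J.1 := (congrArg Prod.snd hl).symm
    have h1 : (skewGrp hF : Set F).ncard ≤ (Zof hF d ω' : Set F).ncard := Set.ncard_le_ncard hle
    rw [e, ← hgI J,
      Set.ncard_image_of_injective _ (mul_right_injective₀ (pow_ne_zero _ (kap_spec (gI J).2).2))] at h1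
    refine hω (Set.eq_of_subset_of_ncard_le (Zof_le_skew hF ω) h1).ge
  have hcount := (card_labels_mul_le hF (Set.range lbl) hatt hsize).trans
    (Nat.mul_le_mul_left _ (Set.ncard_le_ncard hmov))
  rw [← Nat.card_coe_set_eq (Set.range lbl), Nat.card_range_of_injective hinj, Nat.card_prod,
    Nat.card_coe_set_eq, Nat.card_coe_set_eq I] at hcount
  change nT d q (X : Set Wd) * I.ncard * _ ≤ _ at hcount
  have hXpos : 0 < Nat.card X := Nat.card_pos
  have hZpos : 0 < Nat.card Z0 := Nat.card_pos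
  have hIpos : 1 ≤ I.ncard := (Set.ncard_pos (Set.toFinite _)).2
    ⟨_, Set.mem_image_of_mem _ (show (1 : F) ∈ {c : F | c ^ q = c ∧ c ≠ 0} from ⟨one_pow _, one_ne_zero⟩)⟩
  set T := nT d q (X : Set Wd)
  set P := (q ^ 2) ^ d * q
  set M := (Mov0 hF d (Ω := Ω)).ncard
  have finish : (q + 2) * Nat.card X * Nat.card Z0 ≤ (q + 1) * T * I.ncard → (q + 2) * P ≤ (q + 1) * M := by
    intro h
    refine Nat.le_of_mul_le_mul_right ?_ (Nat.mul_pos hXpos hZpos)
    calc (q + 2) * P * (Nat.card X * Nat.card Z0) = (q + 2) * Nat.card X * Nat.card Z0 * P := by ring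
      _ ≤ (q + 1) * T * I.ncard * P := Nat.mul_le_mul_right _ h
      _ = (q + 1) * (T * I.ncard * P) := by ring
      _ ≤ (q + 1) * (Nat.card X * Nat.card Z0 * M) := Nat.mul_le_mul_left _ hcount
      _ = _ := by ring
  by_cases hX0 : X = ⊥
  · by_cases hZ0 : Z0 = ⊥
    · exact Or.inr ⟨hX0, hZ0⟩
    refine Or.inl (finish ?_)
    have hT : 1 ≤ T := (Set.ncard_pos (Set.toFinite _)).2 ⟨_, 1, rfl⟩
    have hZ2 : 2 ≤ Nat.card Z0 := by
      have h := two_mul_card_le_of_lt (bot_lt_iff_ne_bot.2 hZ0)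
      rwa [AddSubgroup.card_bot, mul_one] at h
    have hI2 : 2 ≤ I.ncard := by
      by_contra hlt
      obtain hI1 : I.ncard = 1 := by omega
      rw [hI1, one_mul, Nat.sub_add_cancel (by omega)] at hsc
      have : q * 2 ≤ q * 1 := by rw [mul_one]; exact (Nat.mul_le_mul_left _ hZ2).trans hsc
      omega
    have hXc : Nat.card X = 1 := by rw [hX0, AddSubgroup.card_bot]
    rw [hXc, mul_one]
    have h1 : (q + 1) * Nat.card Z0 ≤ I.ncard * q :=
      (Nat.mul_le_mul_right _ (show q + 1 ≤ q - 1 + I.ncard by omega)).trans hsc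
    refine le_trans ?_ (Nat.mul_le_mul_right I.ncard (Nat.le_mul_of_pos_right (q + 1) hT))
    refine Nat.le_of_mul_le_mul_left ?_ (show 0 < q + 1 by omega)
    calc (q + 1) * ((q + 2) * Nat.card Z0) = (q + 2) * ((q + 1) * Nat.card Z0) := by ring
      _ ≤ (q + 2) * (I.ncard * q) := Nat.mul_le_mul_left _ h1
      _ = (q + 2) * q * I.ncard := by ring
      _ ≤ (q + 1) * (q + 1) * I.ncard := Nat.mul_le_mul_right _ (by nlinarith)
      _ = _ := by ring
  · refine Or.inl (finish ?_)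
    have hZI : Nat.card Z0 ≤ I.ncard := by
      refine Nat.le_of_mul_le_mul_left ?_ (show 0 < q by omega)
      rw [mul_comm q I.ncard]
      exact (Nat.mul_le_mul_right _ (show q ≤ q - 1 + I.ncard by omega)).trans hsc
    exact Nat.mul_le_mul (key_translates hF hd hK hX0 hXX) hZI

theorem mov_dichotomy (hd : 3 ≤ d) :
    (q + 2) * ((q ^ 2) ^ d * q) ≤ (q + 1) * Nat.card Ω ∨
      ((∀ ω ∈ Mov0 hF d (Ω := Ω), Xof hF d ω = ⊥ ∧ Zof hF d ω = ⊥) ∧
        ∀ ω ∈ Mov0 hF d (Ω := Ω), ∀ ω' ∈ Mov0 hF d (Ω := Ω), ∃ a ∈ radQ hF d, a • ω = ω') := by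
  classical
  have hle : (Mov0 hF d (Ω := Ω)).ncard ≤ Nat.card Ω := Set.ncard_le_card _
  by_cases hbig : (q + 2) * ((q ^ 2) ^ d * q) ≤ (q + 1) * (Mov0 hF d (Ω := Ω)).ncard
  · exact Or.inl (hbig.trans (Nat.mul_le_mul_left _ hle))
  have hfree : ∀ ω ∈ Mov0 hF d (Ω := Ω), Xof hF d ω = ⊥ ∧ Zof hF d ω = ⊥ :=
    fun ω hω => (mov_bound hF hd hω).resolve_left hbig
  refine Or.inr ⟨hfree, fun ω hω ω' hω' => ?_⟩
  by_contra hne
  simp only [not_exists, not_and] at hne
  apply hbig
  have horb : ∀ x ∈ Mov0 hF d (Ω := Ω),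
      MulAction.orbit (radQ hF d) x ⊆ Mov0 hF d ∧
        (MulAction.orbit (radQ hF d) x).ncard = (q ^ 2) ^ d * q := by
    intro x hx
    refine ⟨?_, ?_⟩
    · rintro _ ⟨a, rfl⟩
      show ¬ _ ≤ Zof hF d (a.1 • x)
      rw [(lab_radQ hF a.2 x).2]
      exact hx
    · have := card_orbit_mul (d := d) hF x
      rwa [(hfree x hx).1, (hfree x hx).2, AddSubgroup.card_bot, AddSubgroup.card_bot, mul_one,
        mul_one, Nat.card_coe_set_eq] at this
  have hdisj : Disjoint (MulAction.orbit (radQ hF d) ω) (MulAction.orbit (radQ hF d) ω') := by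
    rw [Set.disjoint_left]
    rintro x ⟨a, rfl⟩ ⟨b, hb⟩
    refine hne ((b⁻¹ * a : radQ hF d) : Cfsg.SU (2 + d) F q) (b⁻¹ * a : radQ hF d).2 ?_
    show (b⁻¹ * a) • ω = ω'
    rw [mul_smul, inv_smul_eq_iff]
    exact hb.symm
  have h2 := Set.ncard_union_eq hdisj (Set.toFinite _) (Set.toFinite _)
  rw [(horb ω hω).2, (horb ω' hω').2] at h2
  have h3 := Set.ncard_le_ncard (Set.union_subset (horb ω hω).1 (horb ω' hω').1)
  rw [h2] at h3
  calc (q + 2) * ((q ^ 2) ^ d * q) ≤ (q + 1) * (2 * ((q ^ 2) ^ d * q)) := by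
        rw [show (q + 1) * (2 * ((q ^ 2) ^ d * q)) = (q + 1) * 2 * ((q ^ 2) ^ d * q) from (mul_assoc _ _ _).symm]
        exact Nat.mul_le_mul_right _ (by omega)
    _ ≤ _ := Nat.mul_le_mul_left _ (by omega)

omit [Finite Ω] in
/-- The transvections generate, so some point is moved by the root group at `va`. -/
theorem exists_mov (hd : 2 ≤ d) (hnt : ∃ (g : Cfsg.SU (2 + d) F q) (ω : Ω), g • ω ≠ ω) :
    (Mov0 hF d (Ω := Ω)).Nonempty := by
  by_contra hne
  rw [Set.not_nonempty_iff_eq_empty, Set.eq_empty_iff_forall_notMem] at hne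
  have hall : ∀ (θ : skewGrp hF) (ω : Ω), tv hF (va hF d) (va_va hF) θ • ω = ω := by
    intro θ ω
    obtain ⟨g, hg, hgω⟩ := not_not.1 (hne ω) θ.2
    rwa [hg.unique (isE_tv hF θ)] at hgω
  obtain ⟨g, ω, hg⟩ := hnt
  apply hg
  have hmem : g ∈ transvectionGroup (2 + d) F q := by
    rw [transvectionGroup_eq_top hF (Or.inl (by omega))]; trivial
  clear hg
  revert ω
  induction hmem using Subgroup.closure_induction with
  | mem A hA =>
    intro ω
    obtain ⟨v, c, hv0, hA⟩ := hA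
    by_cases hv : v = 0
    · rw [show A = 1 from Subtype.ext (Subtype.ext (by simp [hA, hv, Cfsg.unitaryTransvection])),
        one_smul]
    have hc : c + c ^ q = 0 :=
      (transvection_isometry_iff hF v hv hv0 c).1 (hA ▸ (A.2 : IsUnitary q _))
    obtain ⟨a, ha⟩ := su_transitive_iso hF (by omega) (va_ne_zero hF (d := d)) (va_va hF) hv hv0
    have e : A = a * tv hF (va hF d) (va_va hF) ⟨c, hc⟩ * a⁻¹ := by
      rw [tv_conj, mul_inv_cancel_right, tv_congr hF (hw := hv0) ha rfl]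
      exact Subtype.ext (Subtype.ext hA)
    rw [e, mul_smul, mul_smul, hall, smul_inv_smul]
  | one => exact fun ω => one_smul _ ω
  | mul x y _ _ hx hy => exact fun ω => by rw [mul_smul, hy, hx]
  | inv x _ hx => exact fun ω => inv_smul_eq_iff.2 (hx ω).symm

omit [Finite Ω] in
/-- If the radical is regular on everything, we get a contradiction. -/
theorem exists_fix (hd : 3 ≤ d) (hne : Nonempty Ω)
    (hfree : ∀ ω ∈ Mov0 hF d (Ω := Ω), Xof hF d ω = ⊥ ∧ Zof hF d ω = ⊥)
    (hone : ∀ ω ∈ Mov0 hF d (Ω := Ω), ∀ ω' ∈ Mov0 hF d (Ω := Ω), ∃ a ∈ radQ hF d, a • ω = ω') :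
    (Fix0 hF d (Ω := Ω)).Nonempty := by
  by_contra hemp
  rw [Set.not_nonempty_iff_eq_empty, Set.eq_empty_iff_forall_notMem] at hemp
  have hall : ∀ x : Ω, x ∈ Mov0 hF d := hemp
  have hfix1 : ∀ {x : Ω} {g : Cfsg.SU (2 + d) F q} {w : Wd} {z : F}, IsE hF g w z → g • x = x →
      w = 0 ∧ z = 0 := by
    intro x g w z h hg
    obtain ⟨hX, hZ⟩ := hfree x (hall x)
    have hw0 : w ∈ Xof hF d x := ⟨g, z, h, hg⟩
    rw [hX, AddSubgroup.mem_bot] at hw0
    subst hw0
    have hz0 : z ∈ Zof hF d x := ⟨g, h, hg⟩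
    rw [hZ, AddSubgroup.mem_bot] at hz0
    exact ⟨rfl, hz0⟩
  obtain ⟨ω⟩ := hne
  have hex : ∀ B : Cfsg.SU d F q, ∃ a : Cfsg.SU (2 + d) F q, ∃ w z,
      IsE hF a w z ∧ a • blockEmb d F q B • ω = ω := fun B => by
    obtain ⟨a, ⟨w, z, hwz⟩, ha⟩ := hone _ (hall (blockEmb d F q B • ω)) ω (hall ω)
    exact ⟨a, w, z, hwz, ha⟩
  choose aof wof zof hE hfixω using hex
  have hcomp : ∀ t g : Cfsg.SU d F q, t * g = g * t →
      wof t + suAct t (wof g) = wof g + suAct g (wof t) := by
    intro t g hcomm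
    have key : ∀ t g : Cfsg.SU d F q, ∃ a : Cfsg.SU (2 + d) F q, ∃ z,
        IsE hF a (wof t + suAct t (wof g)) z ∧ a • blockEmb d F q (t * g) • ω = ω := by
      intro t g
      obtain ⟨hB, hBk, hBg⟩ := levJ (hF := hF) t
      have h := (hE t).mul ((hE g).conj hB)
      rw [hBk, hBg, one_pow, one_smul] at h
      refine ⟨_, _, h, ?_⟩
      simp only [mul_smul, map_mul, inv_smul_smul]
      rw [hfixω g, hfixω t]
    obtain ⟨a, z, ha, haω⟩ := key t g
    obtain ⟨b, z', hb, hbω⟩ := key g t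
    rw [← hcomm] at hbω
    have : (b⁻¹ * a) • blockEmb d F q (t * g) • ω = blockEmb d F q (t * g) • ω := by
      rw [mul_smul, haω, inv_smul_eq_iff, hbω]
    have := (hfix1 (hb.inv.mul ha) this).1
    exact (neg_add_eq_zero.1 this).symm
  -- the transvection in the complement
  obtain ⟨lam, hlam, hord⟩ := exists_norm_one_gen hF
  obtain ⟨θ, hθ0, hθ⟩ := exists_skew hF
  have hθs : θ + θ ^ q = 0 := by rw [hθ, add_neg_cancel]
  have hq := two_le_q hF
  have hl0 : lam ≠ 0 := fun h => by simp [h] at hlam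
  have hl1 : lam ≠ 1 := fun h => by rw [h, orderOf_one] at hord; omega
  have hl2 : lam ^ 2 ≠ 1 := fun h => by
    have := Nat.le_of_dvd two_pos (hord ▸ orderOf_dvd_of_pow_eq_one h); omega
  have hlq : lam * lam ^ q = 1 := by rw [← pow_succ', hlam]
  let i0 : Fin d := ⟨0, by omega⟩
  let i1 : Fin d := ⟨1, by omega⟩
  have h01 : i0 ≠ i1 := by simp [i0, i1]
  let c : Wd := Pi.single i0 1 + eps hF • Pi.single i1 1
  have hc0 : c i0 = 1 := by simp [c, h01]
  have hc1 : c i1 = eps hF := by simp [c, h01.symm]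
  have hcc : Cfsg.hermForm d F q c c = 0 := by
    have H := hermForm_isHerm hF d
    simp only [c, H.add_left, H.add_right hF, H.smul_left, H.smul_right, (single_orthonormal hF d).apply]
    simp only [if_true, h01, h01.symm, if_false]
    linear_combination eps_norm hF
  let t : Cfsg.SU d F q := suTransvection hF c hcc θ hθs
  have hwt : ∀ i, i ≠ i0 → i ≠ i1 →
      (lam - 1) * wof t i1 = eps hF * ((lam - 1) * wof t i0) ∧ wof t i = 0 := by
    intro i hi0 hi1
    let D : Fin d → F := Pi.mulSingle i0 lam * Pi.mulSingle i1 lam * Pi.mulSingle i (lam ^ 2)⁻¹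
    have hD0 : D i0 = lam := by simp [D, h01, Ne.symm hi0]
    have hD1 : D i1 = lam := by simp [D, h01.symm, Ne.symm hi1]
    have hDi : D i = (lam ^ 2)⁻¹ := by simp [D, hi0, hi1]
    have hDn : ∀ j, D j ^ (q + 1) = 1 := by
      intro j
      simp only [D, Pi.mul_apply, Pi.mulSingle_apply, mul_pow, apply_ite (fun x : F => x ^ (q + 1)),
        one_pow, hlam, inv_pow, ← pow_mul, mul_comm 2 (q + 1)]
      simp [pow_mul, hlam]
    have hDd : (Matrix.diagonal D).det = 1 := by
      rw [Matrix.det_diagonal]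
      simp only [D, Pi.mul_apply, Finset.prod_mul_distrib, Finset.prod_pi_mulSingle',
        Finset.mem_univ, if_true]
      rw [← sq, mul_inv_cancel₀ (pow_ne_zero _ hl0)]
    let g : Cfsg.SU d F q := suOfUnitary _ (isUnitary_diagonal hF hDn) hDd
    have hg : ∀ x, suAct g x = fun j => D j * x j := fun x => funext fun j => by
      show (Matrix.diagonal D *ᵥ x) j = _
      rw [Matrix.mulVec_diagonal]
    have hgc : suAct g c = lam • c := by
      rw [hg]
      funext j
      rcases eq_or_ne j i0 with rfl | hj0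
      · simp [hD0, hc0]
      rcases eq_or_ne j i1 with rfl | hj1
      · simp [hD1, hc1]
      · simp [c, hj0, hj1]
    have hcomm : t * g = g * t := by
      refine suAct_ext fun x => ?_
      rw [suAct_mul, suAct_mul, suAct_suTransvection, suAct_suTransvection, suAct_add, suAct_smul,
        hgc]
      have e : Cfsg.hermForm d F q (suAct g x) c = lam * Cfsg.hermForm d F q x c := by
        have := suAct_herm g x c
        rw [hgc, (hermForm_isHerm hF d).smul_right] at this
        linear_combination lam * this - Cfsg.hermForm d F q (suAct g x) c * hlq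
      rw [e]; module
    have h := hcomp t g hcomm
    rw [suAct_suTransvection, hg] at h
    set k := θ * Cfsg.hermForm d F q (wof g) c
    have e : ∀ j, (D j - 1) * wof t j = k * c j := fun j => by
      have := congrFun h j
      simp only [Pi.add_apply, Pi.smul_apply, smul_eq_mul] at this
      linear_combination -this
    refine ⟨?_, ?_⟩
    · have a0 := e i0
      have a1 := e i1
      rw [hD0, hc0, mul_one] at a0
      rw [hD1, hc1, ← a0] at a1
      rw [a1]; ring
    · have a := e i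
      rw [hDi, show c i = 0 by simp [c, hi0, hi1], mul_zero] at a
      refine (mul_eq_zero.1 a).resolve_left (sub_ne_zero.2 fun h => hl2 ?_)
      exact inv_eq_one.1 h
  set μ := wof t i0
  have hwc : wof t = μ • c := by
    funext j
    rcases eq_or_ne j i0 with rfl | hj0
    · simp [hc0, μ]
    rcases eq_or_ne j i1 with rfl | hj1
    · have h := (hwt ⟨2, by omega⟩ (by simp [i0]) (by simp [i1])).1
      simp [hc1]
      refine mul_left_cancel₀ (sub_ne_zero.2 hl1) ?_
      linear_combination h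
    · rw [(hwt j hj0 hj1).2]; simp [c, hj0, hj1]
  -- the element y
  set z := zof t
  set y := aof t * blockEmb d F q t with hy
  have hyω : y • ω = ω := by rw [hy, mul_smul]; exact hfixω t
  set c' : Vn := inW d c with hc'
  have H := hermForm_isHerm hF (2 + d)
  have hc'c' : hn c' c' = 0 := by rw [hc', inW_inW hF, hcc]
  have hEt : IsE hF (aof t) (μ • c) z := hwc ▸ hE t
  have hz : z + z ^ q = 0 := by
    have h := hEt.param
    rwa [(hermForm_isHerm hF d).smul_left, (hermForm_isHerm hF d).smul_right, hcc, mul_zero, mul_zero,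
      add_zero] at h
  have hzq : z ^ q = -z := eq_neg_of_add_eq_zero_right hz
  have hJt : ∀ x, suAct (blockEmb d F q t) x = x + (θ * hn x c') • c' := fun x => by
    rw [show t = tv hF c hcc ⟨θ, hθs⟩ from rfl, blockEmb_tv]
    exact suAct_tv hF _ _ _ x
  have hyact : ∀ x, suAct y x = x + (θ * hn x c' + μ * hn x (va hF d)) • c' +
      (z * hn x (va hF d) - μ ^ q * hn x c') • va hF d := fun x => by
    rw [hy, suAct_mul, hEt, hJt, map_smul, ← hc']
    simp only [H.add_left, H.smul_left, H.smul_right, hc'c', mul_zero, add_zero, hc', inW_va hF, inW_inW hF, hcc]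
    module
  by_cases h00 : μ = 0 ∧ z = 0
  · -- y is a transvection
    have hc'0 : c' ≠ 0 := fun h => by
      have : c = 0 := inW_injective (h.trans (map_zero _).symm)
      rw [this] at hc0; simp at hc0
    obtain ⟨a, ha⟩ := su_transitive_iso hF (by omega) hc'0 hc'c' (va_ne_zero hF (d := d)) (va_va hF)
    have hy' : y = tv hF c' hc'c' ⟨θ, hθs⟩ := suAct_ext fun x => by
      rw [hyact, suAct_tv, h00.1, h00.2, zero_pow_q hF]
      simp
    have e : a * y * a⁻¹ = tv hF (va hF d) (va_va hF) ⟨θ, hθs⟩ := by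
      rw [hy', tv_conj, mul_inv_cancel_right, tv_congr hF (hw := va_va hF) ha rfl]
    have := hfix1 (x := a • ω) (e ▸ isE_tv hF ⟨θ, hθs⟩ : IsE hF (a * y * a⁻¹) (0 : Wd) θ)
      (by rw [mul_smul, mul_smul, inv_smul_smul, hyω])
    exact hθ0 this.2
  · obtain ⟨σ, hσ⟩ : ∃ σ : F, z * σ ^ (q + 1) + (μ ^ q * σ - μ * σ ^ q) + θ = 0 := by
      by_cases hz0 : z = 0
      · have hμ : μ ≠ 0 := fun h => h00 ⟨h, hz0⟩
        obtain ⟨η, hη⟩ := one_half_not_skew hF
        refine ⟨-(η * θ) / μ ^ q, ?_⟩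
        have hμq : μ ^ q ≠ 0 := pow_ne_zero _ hμ
        have e : (-(η * θ) / μ ^ q) ^ q = η ^ q * θ / μ := by
          rw [div_pow, neg_pow_q hF, mul_pow, hθ, pow_q_pow_q hF]; ring
        rw [hz0, zero_mul, zero_add, e, mul_div_cancel₀ _ hμq, mul_div_cancel₀ _ hμ]
        linear_combination -θ * hη
      · obtain ⟨k, hk⟩ : ∃ k : F, μ = -k * z := ⟨-μ / z, by field_simp⟩
        have hkq : μ ^ q = k ^ q * z := by rw [hk, mul_pow, neg_pow_q hF, hzq]; ring
        obtain ⟨ρ, hρ⟩ := exists_norm_eq hF (c := k ^ (q + 1) - θ / z) (by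
          rw [sub_pow_q hF, pow_q_succ_fixed hF, div_pow θ z q, hθ, hzq, neg_div_neg_eq])
        refine ⟨ρ - k, ?_⟩
        rw [pow_succ, sub_pow_q hF, hkq, hk]
        rw [pow_succ, pow_succ] at hρ
        linear_combination z * hρ - (mul_div_cancel₀ θ hz0)
    set ν := μ - z * σ
    set a' : Vn := va hF d + σ • c'
    have hva' : va hF d ≠ 0 := va_ne_zero hF
    have hcv : hn c' (va hF d) = 0 := by rw [hc', inW_va hF]
    have hvc : hn (va hF d) c' = 0 := by rw [hc', va_inW hF]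
    have ha'iso : hn a' a' = 0 := by
      simp only [a', H.add_left, H.add_right hF, H.smul_left, H.smul_right, va_va hF, hcv, hvc, hc'c']
      ring
    have ha'0 : a' ≠ 0 := fun h => by
      have := congrArg (fun x => hn x (vb hF d)) h
      simp [a', H.add_left, H.smul_left, va_vb hF, hc', inW_vb hF, H.zero_left] at this
    have hyE : ∀ x, suAct y x = x + hn x a' • (ν • c') - hn x (ν • c') • a' + (z * hn x a') • a' := by
      intro x
      rw [hyact]
      simp only [a', ν, H.add_right hF, H.smul_right, sub_pow_q hF, mul_pow, hzq]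
      rw [pow_succ] at hσ
      match_scalars
      · ring
      · linear_combination (hn x c') * hσ
      · ring
    obtain ⟨g, hg⟩ := su_transitive_iso hF (by omega) ha'0 ha'iso hva' (va_va hF)
    set u := ν • suAct g c'
    have hu : hn u (va hF d) = 0 := by
      simp only [u, H.smul_left]
      rw [← hg, suAct_herm]
      simp [a', H.add_right hF, H.smul_right, hcv, hc'c']
    have hdec : u = inW d (prW u) + hn u (vb hF d) • va hF d := by
      conv_lhs => rw [decomp hF u, hu, zero_smul, add_zero]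
    set lam' := hn u (vb hF d)
    have hgy : IsE hF (g * y * g⁻¹) (prW u) (z + lam' - lam' ^ q) := fun x => by
      have e1 : hn (suAct g⁻¹ x) a' = hn x (va hF d) := by
        rw [← suAct_herm g (suAct g⁻¹ x), suAct_suAct_inv, hg]
      have e2 : hn (suAct g⁻¹ x) (ν • c') = hn x u := by
        rw [← suAct_herm g (suAct g⁻¹ x), suAct_suAct_inv, suAct_smul]
      rw [suAct_mul, suAct_mul, hyE, suAct_add, suAct_sub, suAct_add, suAct_smul, suAct_smul,
        suAct_smul, suAct_suAct_inv, e1, e2]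
      simp only [suAct_smul, hg]
      rw [show ν • suAct g c' = u from rfl]
      clear_value lam'
      generalize prW u = U at hdec
      rw [hdec, H.add_right hF, H.smul_right]
      module
    obtain ⟨h1, h2⟩ := hfix1 (x := g • ω) hgy (by rw [mul_smul, mul_smul, inv_smul_smul, hyω])
    have hy1 : y = 1 := by
      rw [h1, h2] at hgy
      exact conj_eq_one_iff.1 (hgy.unique isE_one)
    have := hyact (vb hF d)
    rw [hy1, suAct_one, vb_va hF, hc', vb_inW hF, mul_zero, mul_zero, zero_add, mul_one, mul_one,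
      sub_zero, add_assoc, left_eq_add] at this
    have hz' := congrArg (fun x => hn x (vb hF d)) this
    simp only [H.add_left, H.smul_left, inW_vb hF, va_vb hF, H.zero_left, mul_zero, zero_add, mul_one]
      at hz'
    rw [hz', zero_smul, add_zero, smul_eq_zero] at this
    refine h00 ⟨this.resolve_right fun h => ?_, hz'⟩
    have : c = 0 := inW_injective (h.trans (map_zero _).symm)
    rw [this] at hc0; simp at hc0

end Cfsg.Agent.MinIndexU
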