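import Cfsg.Agent.Lib.MinIndexU.Main
/-
The line stabiliser of SU_3 in a transitive action.
* gam_one_dim, cfac; vaLine, lineStab, exists_rad_lev, card_lineStab_ge
* Sof, card_stab_le, pst_le_points_mul; full_fixed, stab_large
-/
set_option autoImplicit false

namespace Cfsg.Agent.MinIndexU

open Cfsg.Agent.Unitary
open Cfsg.Agent.SUMinDegree
open scoped Matrix

variable {F : Type*} [Field F] [Fintype F] {q : ℕ} (hF : Fintype.card F = q ^ 2)

local notation "h3" => Cfsg.hermForm (2 + 1) F q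
local notation "V3" => (Fin (2 + 1) → F)
local notation "G3" => Cfsg.SU (2 + 1) F q

/-- The factor of a scalar on `va` on the first coordinate of the radical. -/
def cfac (q : ℕ) (k : F) : F := k ^ q * k ^ (q - 1)

omit [Fintype F] in
theorem cfac_ne {k : F} (hk : k ≠ 0) : cfac q k ≠ 0 :=
  mul_ne_zero (pow_ne_zero _ hk) (pow_ne_zero _ hk)

include hF in
theorem gam_one_dim {g : G3} (hg : g ∈ lev hF 1) (w : Fin 1 → F) :
    gam g w = kap hF g ^ (q - 1) • w := by
  have H := hermForm_isHerm hF (2 + 1)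
  have hq := two_le_q hF
  obtain ⟨hk, hk0⟩ := kap_spec hg
  set k := kap hF g
  obtain ⟨-, l, hl⟩ := id hg
  have hkl : k * l ^ q = 1 := by
    have := suAct_herm g (va hF 1) (vb hF 1)
    rwa [hk, hl, H.smul_left, H.smul_right, va_vb hF, mul_one] at this
  have hlk : k ^ q * l = 1 := by
    have := congrArg (fun x => x ^ q) hkl
    simpa [mul_pow, pow_q_pow_q hF] using this
  let e : Fin 1 → F := fun _ => 1
  set ν := gam g e 0
  have hge : suAct g (inW 1 e) = ν • inW 1 e := by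
    rw [gam_spec hg, ← map_smul]; congr 1; funext i; simp [e, ν, Subsingleton.elim i 0]
  let B : Matrix (Fin (2 + 1)) (Fin (2 + 1)) F :=
    Matrix.of fun i j => ![va hF 1, vb hF 1, inW 1 e] j i
  let D : Matrix (Fin (2 + 1)) (Fin (2 + 1)) F := Matrix.diagonal ![k, l, ν]
  have hBD : ((g : Matrix.SpecialLinearGroup (Fin (2 + 1)) F) : Matrix _ _ F) * B = B * D := by
    ext i j
    rw [Matrix.mul_diagonal, Matrix.mul_apply]
    fin_cases j
    · have := congrFun hk i
      simpa [B, suAct, Matrix.mulVec, dotProduct, mul_comm] using this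
    · have := congrFun hl i
      simpa [B, suAct, Matrix.mulVec, dotProduct, mul_comm] using this
    · have := congrFun hge i
      simpa [B, suAct, Matrix.mulVec, dotProduct, mul_comm] using this
  have hB : B.det ≠ 0 := by
    refine ((Matrix.isUnit_iff_isUnit_det B).1 (Matrix.mulVec_surjective_iff_isUnit.1 fun x => ?_)).ne_zero
    refine ⟨![h3 x (vb hF 1), h3 x (va hF 1), prW x 0], ?_⟩
    have hw : inW 1 (prW x) = prW x 0 • inW 1 e := by
      rw [← map_smul]; congr 1; funext i; simp [e, Subsingleton.elim i 0]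
    conv_rhs => rw [decomp hF x, hw]
    funext i
    simp [B, Matrix.mulVec, dotProduct, Fin.sum_univ_three]
    ring
  have hdet := congrArg Matrix.det hBD
  rw [Matrix.det_mul, Matrix.det_mul, Matrix.det_diagonal, Matrix.SpecialLinearGroup.det_coe, one_mul,
    eq_comm, mul_eq_left₀ hB] at hdet
  simp [Fin.prod_univ_three] at hdet
  have hν : ν = k ^ (q - 1) := by
    have e1 : k * k ^ (q - 1) = k ^ q := by rw [← pow_succ', show q - 1 + 1 = q by omega]
    refine mul_left_cancel₀ (mul_ne_zero hk0 (right_ne_zero_of_mul_eq_one hlk)) ?_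
    rw [hdet, mul_right_comm, e1, hlk]
  funext i
  have hw : w = w 0 • e := by funext i; simp [e, Subsingleton.elim i 0]
  conv_lhs => rw [hw, gam_smul]
  rw [Subsingleton.elim i 0]
  simp [← hν, ν, mul_comm]

/-- The line of `va`. -/
noncomputable def vaLine : IsoLine (2 + 1) F q := IsoLine.mk (va hF 1) (va_ne_zero hF) (va_va hF)

/-- The stabiliser of that line. -/
noncomputable def lineStab : Subgroup G3 := MulAction.stabilizer G3 (vaLine hF)

theorem mem_lineStab {g : G3} :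
    g ∈ lineStab hF ↔ ∃ c : F, suAct g (va hF 1) = c • va hF 1 := by
  rw [lineStab, MulAction.mem_stabilizer_iff, vaLine, IsoLine.smul_mk, IsoLine.mk_eq_iff]
  exact ⟨fun ⟨c, hc⟩ => ⟨c, hc.symm⟩, fun ⟨c, hc⟩ => ⟨c, hc.symm⟩⟩

theorem va_of_isE {e : G3} {w : Fin 1 → F} {z : F} (he : IsE hF e w z) :
    suAct e (va hF 1) = va hF 1 := by
  rw [he, va_va hF, va_inW hF]; simp

theorem radQ_le_lineStab : radQ hF 1 ≤ lineStab hF := fun e ⟨_, _, he⟩ =>
  (mem_lineStab hF).2 ⟨1, by rw [va_of_isE hF he, one_smul]⟩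

theorem lev_le_lineStab : lev hF 1 ≤ lineStab hF := fun _ hg => (mem_lineStab hF).2 hg.1

/-- An element fixing the line is a product of a radical and a Levi element. -/
theorem exists_rad_lev {g : G3} (hg : g ∈ lineStab hF) :
    ∃ e ∈ radQ hF 1, ∃ l ∈ lev hF 1, g = e * l ∧ kap hF l = kap hF g := by
  have H := hermForm_isHerm hF (2 + 1)
  obtain ⟨c, hc⟩ := (mem_lineStab hF).1 hg
  have hc0 : c ≠ 0 := fun h => suAct_ne_zero g (va_ne_zero hF (d := 1)) (by rw [hc, h, zero_smul])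
  set y := suAct g (vb hF 1)
  have hy : h3 y y = 0 := (suAct_herm g _ _).trans (vb_vb hF)
  have hya : h3 y (va hF 1) * c ^ q = 1 := by
    have := suAct_herm g (vb hF 1) (va hF 1)
    rwa [hc, H.smul_right, mul_comm, vb_va hF] at this
  set β := h3 y (va hF 1)
  have hβ : β ≠ 0 := left_ne_zero_of_mul_eq_one hya
  set y' := β⁻¹ • y
  have hy'a : h3 y' (va hF 1) = 1 := by rw [H.smul_left, inv_mul_cancel₀ hβ]
  have hdec := decomp hF y'
  rw [hy'a, one_smul] at hdec
  set z := h3 y' (vb hF 1)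
  obtain ⟨e, he⟩ := exists_isE (hF := hF) (w := prW y') (z := z) (by
    have := herm_smul_zero hF β⁻¹ hy
    rw [show β⁻¹ • y = y' from rfl, hdec] at this
    simp only [H.add_left, H.add_right hF, H.smul_left, H.smul_right, va_va hF, va_vb hF,
      vb_va hF, vb_vb hF, va_inW hF, inW_va hF, vb_inW hF, inW_vb hF, inW_inW hF] at this
    linear_combination this)
  have hey : suAct e (vb hF 1) = y' := by
    rw [he.act_vb]
    conv_rhs => rw [hdec]
    abel
  have hinv : suAct e⁻¹ (va hF 1) = va hF 1 := va_of_isE hF he.inv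
  have hl : e⁻¹ * g ∈ lev hF 1 := ⟨⟨c, by rw [suAct_mul, hc, suAct_smul, hinv]⟩, β, by
    have : y = β • y' := (smul_inv_smul₀ hβ y).symm
    rw [suAct_mul, show suAct g (vb hF 1) = y from rfl, this, suAct_smul, ← hey, suAct_inv_suAct]⟩
  refine ⟨e, ⟨_, _, he⟩, _, hl, (mul_inv_cancel_left e g).symm, ?_⟩
  show h3 (suAct (e⁻¹ * g) (va hF 1)) _ = h3 _ _
  rw [suAct_mul, hc, suAct_smul, hinv]

theorem card_lineStab_ge : q ^ 3 * (q ^ 2 - 1) ≤ Nat.card (lineStab hF) := by
  classical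
  choose l hl hlk using fun k : {k : F // k ≠ 0} => exists_lev_kap (hF := hF) (d := 1) le_rfl k.2
  have hcard : Nat.card {k : F // k ≠ 0} = q ^ 2 - 1 := by
    rw [Nat.card_eq_fintype_card, Fintype.card_subtype_compl, Fintype.card_subtype_eq, hF]
  rw [show q ^ 3 = (q ^ 2) ^ 1 * q by ring, ← card_radQ hF, ← hcard, ← Nat.card_prod]
  refine Nat.card_le_card_of_injective (fun p => ⟨p.1.1 * l p.2,
    mul_mem (radQ_le_lineStab hF p.1.2) (lev_le_lineStab hF (hl p.2))⟩) ?_
  rintro ⟨⟨e, w, z, he⟩, k⟩ ⟨⟨e', w', z', he'⟩, k'⟩ h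
  have h' : e * l k = e' * l k' := congrArg Subtype.val h
  have hkk : k = k' := by
    refine Subtype.ext ?_
    have := congrArg (fun x => h3 (suAct x (va hF 1)) (vb hF 1)) h'
    simp only [suAct_mul, (kap_spec (hl k)).1, (kap_spec (hl k')).1, suAct_smul, va_of_isE hF he,
      va_of_isE hF he', (hermForm_isHerm hF (2 + 1)).smul_left, va_vb hF, mul_one, hlk] at this
    exact this
  subst hkk
  obtain rfl : e = e' := mul_right_cancel h'
  rfl

variable {Ω : Type*} [MulAction (Cfsg.SU (2 + 1) F q) Ω]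

/-- The scalars preserving the labels of a point. -/
def Sof (ω : Ω) : Set F :=
  {k | k ≠ 0 ∧ (∀ w ∈ Xof hF 1 ω, cfac q k • w ∈ Xof hF 1 ω) ∧
    ∀ z ∈ Zof hF 1 ω, k ^ (q + 1) * z ∈ Zof hF 1 ω}

/-- The elements fixing the point and the line. -/
noncomputable def pointLine (ω : Ω) : Subgroup G3 := lineStab hF ⊓ MulAction.stabilizer G3 ω

theorem kap_mem_Sof {g : G3} {ω : Ω} (hg : g ∈ pointLine hF ω) : kap hF g ∈ Sof hF ω := by
  obtain ⟨hgl, hgω⟩ := hg
  have hgω' : g • ω = ω := hgω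
  obtain ⟨e, he, l, hl, rfl, hk⟩ := exists_rad_lev hF hgl
  rw [← hk]
  rw [mul_smul] at hgω'
  obtain ⟨h1, h2⟩ := lab_radQ hF he (l • ω)
  rw [hgω'] at h1 h2
  obtain ⟨h4, h5⟩ := lab_lev hF ⟨l, hl⟩ ω
  rw [← h1] at h4
  rw [← h2] at h5
  refine ⟨(kap_spec hl).2, fun w hw => ?_, fun z hz => ?_⟩
  · show _ ∈ (Xof hF 1 ω : Set (Fin 1 → F))
    rw [h4]
    exact ⟨w, hw, by rw [rhoX_apply, gam_one_dim hF hl, smul_smul]; rfl⟩
  · show _ ∈ (Zof hF 1 ω : Set F)
    rw [h5]
    exact ⟨z, hz, rfl⟩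

theorem card_stab_le (ω : Ω) :
    Nat.card (pointLine hF ω) ≤
      Nat.card (Xof hF 1 ω) * Nat.card (Zof hF 1 ω) * (Sof hF ω).ncard := by
  classical
  rw [← card_stab_radQ]
  have hR : Nat.card (MulAction.stabilizer (radQ hF 1) ω) =
      ((radQ hF 1 : Set G3) ∩ {g | g • ω = ω}).ncard := by
    rw [← Nat.card_coe_set_eq]
    exact Nat.card_congr
      { toFun := fun x => ⟨x.1.1, x.1.2, x.2⟩
        invFun := fun x => ⟨⟨x.1, x.2.1⟩, x.2.2⟩
        left_inv := fun _ => rfl
        right_inv := fun _ => rfl }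
  rw [hR, show Nat.card (pointLine hF ω) = (pointLine hF ω : Set G3).ncard from Nat.card_coe_set_eq _]
  refine ncard_le_fibre (Set.toFinite _) (Set.toFinite _) (fun g : G3 => kap hF g)
    (fun g hg => kap_mem_Sof hF (ω := ω) hg) _ fun k _ => ?_
  rcases Set.eq_empty_or_nonempty {g ∈ (pointLine hF ω : Set G3) | kap hF g = k} with he | ⟨g0, hg0, hk0⟩
  · rw [he]; simp
  refine Set.ncard_le_ncard_of_injOn (fun g => g0⁻¹ * g) ?_ (fun a _ b _ h => mul_left_cancel h)
    (Set.toFinite _)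
  rintro g ⟨hg, hk⟩
  have hm : g0⁻¹ * g ∈ pointLine hF ω := mul_mem (inv_mem hg0) hg
  refine ⟨?_, hm.2⟩
  obtain ⟨e, he, l, hl, hel, hkl⟩ := exists_rad_lev hF hm.1
  obtain ⟨c, hc⟩ := (mem_lineStab hF).1 hg0.1
  obtain ⟨c', hc'⟩ := (mem_lineStab hF).1 hg.1
  have hkc : ∀ (x : G3) (a : F), suAct x (va hF 1) = a • va hF 1 → kap hF x = a := fun x a hx => by
    rw [kap, hx, (hermForm_isHerm hF (2 + 1)).smul_left, va_vb hF, mul_one]
  have hcc : c' = c := by rw [← hkc g0 c hc, ← hkc g c' hc', hk, hk0]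
  have h1 : kap hF (g0⁻¹ * g) = 1 := hkc _ _ (by
    rw [suAct_mul, hc', hcc, ← hc, suAct_inv_suAct, one_smul])
  have hl1 : l = 1 := by
    refine suAct_ext fun x => ?_
    rw [suAct_one]
    obtain ⟨hk1, -⟩ := kap_spec hl
    rw [hkl, h1, one_smul] at hk1
    obtain ⟨-, b, hb⟩ := id hl
    have hb1 : b = 1 := by
      have := suAct_herm l (vb hF 1) (va hF 1)
      rwa [hb, hk1, (hermForm_isHerm hF (2 + 1)).smul_left, vb_va hF, mul_one] at this
    conv_lhs => rw [decomp hF x]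
    conv_rhs => rw [decomp hF x]
    rw [suAct_add, suAct_add, suAct_smul, suAct_smul, hk1, hb, hb1, one_smul, gam_spec hl,
      gam_one_dim hF hl, hkl, h1, one_pow, one_smul]
  show g0⁻¹ * g ∈ radQ hF 1
  rw [hel, hl1, mul_one]; exact he

theorem pst_le_points_mul [Finite Ω] (htr : ∀ x y : Ω, ∃ g : G3, g • x = y) (ω : Ω) :
    q ^ 3 * (q ^ 2 - 1) ≤ Nat.card Ω * Nat.card (pointLine hF ω) := by
  have := isoLine_pretransitive (n := 2 + 1) (F := F) hF le_rfl
  have : MulAction.IsPretransitive G3 Ω := ⟨htr⟩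
  refine (card_lineStab_ge hF).trans ?_
  have h1 := (lineStab hF).card_mul_index
  have h2 := (pointLine hF ω).card_mul_index
  have h4 : (pointLine hF ω).index ≤ (lineStab hF).index * Nat.card Ω := by
    rw [← MulAction.index_stabilizer_of_transitive G3 ω]
    exact Subgroup.index_inf_le
  have hpos : 0 < (lineStab hF).index := Nat.pos_of_ne_zero Subgroup.index_ne_zero_of_finite
  refine Nat.le_of_mul_le_mul_right ?_ hpos
  calc Nat.card (lineStab hF) * (lineStab hF).index
      = Nat.card (pointLine hF ω) * (pointLine hF ω).index := h1.trans h2.symm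
    _ ≤ Nat.card (pointLine hF ω) * ((lineStab hF).index * Nat.card Ω) := Nat.mul_le_mul_left _ h4
    _ = _ := by ring

/-- If every point is fixed by the root group at `va`, nothing moves. -/
theorem full_fixed (hq : 3 ≤ q) (h : ∀ ω : Ω, ω ∈ Fix0 hF 1) : ∀ (g : G3) (ω : Ω), g • ω = ω := by
  have hle : ∀ ω : Ω, transvectionGroup (2 + 1) F q ≤ MulAction.stabilizer G3 ω := by
    intro ω
    rw [transvectionGroup, Subgroup.closure_le]
    rintro A ⟨v, c, hv0, hA⟩
    by_cases hv : v = 0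
    · rw [show A = 1 from Subtype.ext (Subtype.ext (by simp [hA, hv, Cfsg.unitaryTransvection]))]
      exact one_smul _ ω
    have hc : c + c ^ q = 0 :=
      (transvection_isometry_iff hF v hv hv0 c).1 (hA ▸ (A.2 : IsUnitary q _))
    obtain ⟨g, hg⟩ := su_transitive_iso hF le_rfl hv hv0 (va_ne_zero hF (d := 1)) (va_va hF (d := 1))
    have hmem : va hF 1 ∈ cents hF (g • ω) := ⟨va_ne_zero hF, va_va hF, fun θ => by
      obtain ⟨t, ht, htω⟩ := h (g • ω) θ.2
      rwa [ht.unique (isE_tv hF θ)] at htω⟩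
    have h' := cents_act hF g⁻¹ _ hmem
    rw [inv_smul_smul, ← hg, suAct_inv_suAct] at h'
    obtain ⟨-, h2, hfix⟩ := h'
    rw [show A = tv hF v h2 ⟨c, hc⟩ from Subtype.ext (Subtype.ext hA)]
    exact hfix _
  intro g ω
  have := hle ω
  rw [transvectionGroup_eq_top hF (Or.inr (Or.inl ⟨rfl, hq⟩))] at this
  exact this (Subgroup.mem_top g)

end Cfsg.Agent.MinIndexU
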