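import Cfsg.Agent.Lib.MinIndexU.Basic
import Cfsg.Agent.Lib.SUMinDegree.Elements
/-
The unipotent radical and the Levi subgroup at the isotropic vector va of SU_{2+d}, and labels of points.
* va, vb, inW, prW, decomp
* IsE, exists_isE, IsE.mul, IsE.inv, radQ, card_radQ
* lev, kap, gam, IsE.conj, exists_lev_kap, levJ; rhoX, rhoA
* Xof, Zof, radical and Levi equivariance, card_orbit_mul, commutator_mem, card_labels_mul_le
-/
set_option autoImplicit false

namespace Cfsg.Agent.MinIndexU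

open Cfsg.Agent.Unitary
open Cfsg.Agent.SUMinDegree
open scoped Matrix

variable {F : Type*} [Field F] [Fintype F] {q d : ℕ}

local notation "hn" => Cfsg.hermForm (2 + d) F q
local notation "hw" => Cfsg.hermForm d F q
local notation "Vn" => (Fin (2 + d) → F)
local notation "Wd" => (Fin d → F)

/-- The distinguished isotropic vector. -/
noncomputable abbrev va (hF : Fintype.card F = q ^ 2) (d : ℕ) : Fin (2 + d) → F := e₀ hF d

/-- A chosen element of trace `-1`. -/
noncomputable def ell (hF : Fintype.card F = q ^ 2) : F :=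
  Classical.choose (exists_trace_eq hF (c := (-1 : F)) (by rw [neg_pow_q hF, one_pow]))

theorem ell_spec (hF : Fintype.card F = q ^ 2) : ell hF + ell hF ^ q = -1 :=
  Classical.choose_spec (exists_trace_eq hF (c := (-1 : F)) (by rw [neg_pow_q hF, one_pow]))

/-- Its partner. -/
noncomputable def vb (hF : Fintype.card F = q ^ 2) (d : ℕ) : Fin (2 + d) → F :=
  Fin.append (![1, 0] + ell hF • ![1, eps hF]) 0

/-- The orthogonal complement of the pair. -/
def inW (d : ℕ) : (Fin d → F) →ₗ[F] (Fin (2 + d) → F) where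
  toFun w := Fin.append 0 w
  map_add' a b := by funext i; induction i using Fin.addCases <;> simp
  map_smul' c a := by funext i; induction i using Fin.addCases <;> simp

/-- The coordinates in the complement. -/
def prW (x : Fin (2 + d) → F) : Fin d → F := fun i => x (Fin.natAdd 2 i)

omit [Fintype F] in
@[simp] theorem prW_inW (w : Wd) : prW (inW d w) = w := by
  funext i; simp [prW, inW]

omit [Fintype F] in
theorem inW_injective : Function.Injective (inW (F := F) d) :=
  Function.LeftInverse.injective prW_inW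

variable (hF : Fintype.card F = q ^ 2)

section Frame

include hF

theorem va_va : hn (va hF d) (va hF d) = 0 := e₀_iso hF d

theorem va_inW (w : Wd) : hn (va hF d) (inW d w) = 0 := herm_e₀_right hF w

theorem inW_va (w : Wd) : hn (inW d w) (va hF d) = 0 :=
  ((hermForm_isHerm hF _).eq_zero_symm hF).1 (va_inW hF w)

theorem inW_inW (w w' : Wd) : hn (inW d w) (inW d w') = hw w w' := herm_right hF w w'

theorem plane_products :
    Cfsg.hermForm 2 F q (![1, 0] : Fin 2 → F) ![1, eps hF] = 1 ∧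
      Cfsg.hermForm 2 F q ![1, eps hF] (![1, 0] : Fin 2 → F) = 1 ∧
      Cfsg.hermForm 2 F q (![1, 0] : Fin 2 → F) ![1, 0] = 1 := by
  simp [Cfsg.hermForm, Fin.sum_univ_two, zero_pow_q hF]

theorem vb_va : hn (vb hF d) (va hF d) = 1 := by
  have H := hermForm_isHerm hF 2
  rw [vb, va, e₀, hermForm_append, (hermForm_isHerm hF d).zero_left, add_zero, H.add_left,
    H.smul_left, plane_e_e, (plane_products hF).1, mul_zero, add_zero]

theorem va_vb : hn (va hF d) (vb hF d) = 1 := by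
  rw [(hermForm_isHerm hF _).conj_symm (vb hF d), vb_va hF, one_pow]

theorem vb_vb : hn (vb hF d) (vb hF d) = 0 := by
  have H := hermForm_isHerm hF 2
  obtain ⟨h1, h2, h3⟩ := plane_products hF
  rw [vb, hermForm_append, (hermForm_isHerm hF d).zero_left, add_zero, H.add_left,
    H.add_right hF, H.add_right hF, H.smul_left, H.smul_left, H.smul_right, H.smul_right, plane_e_e,
    h1, h2, h3]
  linear_combination ell_spec hF

theorem inW_vb (w : Wd) : hn (inW d w) (vb hF d) = 0 := by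
  show hn (Fin.append 0 w) _ = 0
  rw [vb, hermForm_append, (hermForm_isHerm hF 2).zero_left,
    (hermForm_isHerm hF d).zero_right hF, add_zero]

theorem vb_inW (w : Wd) : hn (vb hF d) (inW d w) = 0 :=
  ((hermForm_isHerm hF _).eq_zero_symm hF).1 (inW_vb hF w)

theorem va_ne_zero : va hF d ≠ 0 := e₀_ne_zero hF d

theorem decomp (x : Vn) :
    x = inW d (prW x) + hn x (va hF d) • vb hF d + hn x (vb hF d) • va hF d := by
  have H := hermForm_isHerm hF 2
  have hε : eps hF * eps hF ^ q = -1 := by rw [← pow_succ', eps_norm]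
  have hl := ell_spec hF
  set u : Fin 2 → F := fun i => x (Fin.castAdd d i)
  have e1 : hn x (va hF d) = u 0 + u 1 * eps hF ^ q := by
    rw [← append_split x, va, e₀, hermForm_append, (hermForm_isHerm hF d).zero_right hF, add_zero]
    simp [Cfsg.hermForm, Fin.sum_univ_two, u]
  have e2 : hn x (vb hF d) = u 0 + ell hF ^ q * hn x (va hF d) := by
    rw [e1, ← append_split x, vb, hermForm_append, (hermForm_isHerm hF d).zero_right hF, add_zero,
      H.add_right hF, H.smul_right]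
    simp [Cfsg.hermForm, Fin.sum_univ_two, zero_pow_q hF, u]
  rw [e2, e1]
  funext i
  induction i using Fin.addCases with
  | left i =>
    fin_cases i
    · simp [inW, vb, va, e₀, u]
      linear_combination -(x (Fin.castAdd d 0) + x (Fin.castAdd d 1) * eps hF ^ q) * hl
    · simp [inW, vb, va, e₀, u]
      linear_combination (-(x (Fin.castAdd d 0) + x (Fin.castAdd d 1) * eps hF ^ q) * eps hF) * hl +
        x (Fin.castAdd d 1) * hε
  | right j => simp [inW, vb, va, e₀, prW]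

theorem eq_inW {x : Vn} (h1 : hn x (va hF d) = 0) (h2 : hn x (vb hF d) = 0) : x = inW d (prW x) := by
  conv_lhs => rw [decomp hF x, h1, h2, zero_smul, zero_smul, add_zero, add_zero]

end Frame

/-! ### The radical -/

/-- `g` is the radical element with coordinates `w`, `z`. -/
def IsE (hF : Fintype.card F = q ^ 2) (g : Cfsg.SU (2 + d) F q) (w : Fin d → F) (z : F) : Prop :=
  ∀ x, suAct g x = x + Cfsg.hermForm (2 + d) F q x (va hF d) • inW d w
    - Cfsg.hermForm (2 + d) F q x (inW d w) • va hF d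
    + (z * Cfsg.hermForm (2 + d) F q x (va hF d)) • va hF d

variable {hF}

theorem exists_isE {w : Wd} {z : F} (hz : z + z ^ q + hw w w = 0) :
    ∃ g : Cfsg.SU (2 + d) F q, IsE hF g w z :=
  ⟨AutPSU.eichler hF (va hF d) (inW d w) z (va_va hF) (va_inW hF w) (by rw [inW_inW hF]; exact hz),
    fun x => AutPSU.suAct_eichler hF (va_va hF) (va_inW hF w) _ x⟩

theorem IsE.act_vb {g : Cfsg.SU (2 + d) F q} {w : Wd} {z : F} (h : IsE hF g w z) :
    suAct g (vb hF d) = vb hF d + inW d w + z • va hF d := by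
  rw [h, vb_va hF, vb_inW hF, zero_smul, sub_zero, one_smul, mul_one]

theorem IsE.param {g : Cfsg.SU (2 + d) F q} {w : Wd} {z : F} (h : IsE hF g w z) :
    z + z ^ q + hw w w = 0 := by
  have H := hermForm_isHerm hF (2 + d)
  have e := suAct_herm g (vb hF d) (vb hF d)
  rw [h.act_vb, vb_vb hF] at e
  simp only [H.add_left, H.add_right hF, H.smul_left, H.smul_right, va_va hF, va_vb hF, vb_va hF,
    vb_vb hF, va_inW hF, inW_va hF, vb_inW hF, inW_vb hF, inW_inW hF] at e
  linear_combination e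

theorem IsE.coords {g : Cfsg.SU (2 + d) F q} {w w' : Wd} {z z' : F} (h : IsE hF g w z)
    (h' : IsE hF g w' z') : w = w' ∧ z = z' := by
  have e := h.act_vb.symm.trans h'.act_vb
  have H := hermForm_isHerm hF (2 + d)
  have hz := congrArg (fun x => hn x (vb hF d)) e
  simp only [H.add_left, H.smul_left, vb_vb hF, inW_vb hF, va_vb hF, zero_add, mul_one] at hz
  subst hz
  exact ⟨inW_injective (add_left_cancel (add_right_cancel e)), rfl⟩

theorem IsE.unique {g g' : Cfsg.SU (2 + d) F q} {w : Wd} {z : F} (h : IsE hF g w z)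
    (h' : IsE hF g' w z) : g = g' :=
  suAct_ext fun x => (h x).trans (h' x).symm

theorem isE_one : IsE hF (1 : Cfsg.SU (2 + d) F q) 0 0 := fun x => by
  simp [(hermForm_isHerm hF (2 + d)).zero_right hF]

theorem IsE.mul {g g' : Cfsg.SU (2 + d) F q} {w w' : Wd} {z z' : F} (h : IsE hF g w z)
    (h' : IsE hF g' w' z') : IsE hF (g * g') (w + w') (z + z' - hw w' w) := by
  intro x
  have H := hermForm_isHerm hF (2 + d)
  have e1 : hn (suAct g' x) (va hF d) = hn x (va hF d) := by
    rw [h' x]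
    simp [H.add_left, H.sub_left, H.smul_left, va_va hF, inW_va hF]
  have e2 : hn (suAct g' x) (inW d w) = hn x (inW d w) + hn x (va hF d) * hw w' w := by
    rw [h' x]
    simp [H.add_left, H.sub_left, H.smul_left, va_inW hF, inW_inW hF]
  rw [suAct_mul, h, e1, e2, h' x, map_add, H.add_right hF]
  module

theorem IsE.inv {g : Cfsg.SU (2 + d) F q} {w : Wd} {z : F} (h : IsE hF g w z) :
    IsE hF g⁻¹ (-w) (-z - hw w w) := by
  have H := hermForm_isHerm hF d
  obtain ⟨g', hg'⟩ := exists_isE (hF := hF) (w := -w) (z := -z - hw w w) (by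
    rw [H.neg_left, H.neg_right hF, neg_neg, sub_pow_q hF, neg_pow_q hF, H.self_fixed]
    linear_combination -h.param)
  have := h.mul hg'
  rw [add_neg_cancel, H.neg_left, show z + (-z - hw w w) - -hw w w = 0 by ring] at this
  rw [inv_eq_of_mul_eq_one_right (this.unique isE_one)]
  exact hg'

variable (hF)

/-- The radical. -/
def radQ (d : ℕ) : Subgroup (Cfsg.SU (2 + d) F q) where
  carrier := {g | ∃ w z, IsE hF g w z}
  one_mem' := ⟨0, 0, isE_one⟩
  mul_mem' := fun ⟨_, _, h⟩ ⟨_, _, h'⟩ => ⟨_, _, h.mul h'⟩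
  inv_mem' := fun ⟨_, _, h⟩ => ⟨_, _, h.inv⟩

theorem card_radQ : Nat.card (radQ hF d) = (q ^ 2) ^ d * q := by
  classical
  have hone : ∀ w : Wd, Nat.card {z : F // z + z ^ q + hw w w = 0} = q := fun w => by
    refine Eq.trans ?_ (card_trace_fibre (c := (1 : F)) (r := -hw w w) hF one_ne_zero
      (by rw [neg_pow_q hF, (hermForm_isHerm hF d).self_fixed]))
    exact Nat.card_congr (Equiv.subtypeEquivRight fun z => by
      rw [mul_one, eq_neg_iff_add_eq_zero])
  have hsum : Nat.card (Σ w : Wd, {z : F // z + z ^ q + hw w w = 0}) = (q ^ 2) ^ d * q := by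
    rw [Nat.card_sigma, Finset.sum_congr rfl (fun w _ => hone w), Finset.sum_const, smul_eq_mul,
      Finset.card_univ, ← Nat.card_eq_fintype_card, card_V hF]
  rw [← hsum]
  choose e he using fun p : Σ w : Wd, {z : F // z + z ^ q + hw w w = 0} =>
    exists_isE (hF := hF) p.2.2
  refine (Nat.card_eq_of_bijective (fun p => ⟨e p, _, _, he p⟩) ⟨?_, ?_⟩).symm
  · rintro ⟨w, z, hz⟩ ⟨w', z', hz'⟩ h
    have e' : e ⟨w, z, hz⟩ = e ⟨w', z', hz'⟩ := congrArg Subtype.val h
    obtain ⟨hw1, hz1⟩ := (he ⟨w, z, hz⟩).coords (w' := w') (z' := z') (by rw [e']; exact he ⟨w', z', hz'⟩)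
    simp only at hw1 hz1
    subst hw1 hz1
    rfl
  · rintro ⟨g, w, z, h⟩
    exact ⟨⟨w, z, h.param⟩, Subtype.ext ((he ⟨w, z, h.param⟩).unique h)⟩

/-! ### The Levi subgroup -/

/-- Elements fixing both lines of the pair. -/
def lev (d : ℕ) : Subgroup (Cfsg.SU (2 + d) F q) where
  carrier := {g | (∃ k : F, suAct g (va hF d) = k • va hF d) ∧ ∃ l : F, suAct g (vb hF d) = l • vb hF d}
  one_mem' := ⟨⟨1, by simp⟩, ⟨1, by simp⟩⟩
  mul_mem' := fun {a b} ⟨⟨k, hk⟩, l, hl⟩ ⟨⟨k', hk'⟩, l', hl'⟩ =>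
    ⟨⟨k' * k, by rw [suAct_mul, hk', suAct_smul, hk, smul_smul]⟩,
      l' * l, by rw [suAct_mul, hl', suAct_smul, hl, smul_smul]⟩
  inv_mem' := fun {a} ⟨⟨k, hk⟩, l, hl⟩ => by
    have key : ∀ (v : Fin (2 + d) → F) (c : F), v ≠ 0 → suAct a v = c • v → suAct a⁻¹ v = c⁻¹ • v := by
      intro v c hv hc
      have hc0 : c ≠ 0 := fun h => suAct_ne_zero a hv (by rw [hc, h, zero_smul])
      have := congrArg (suAct a⁻¹) hc
      rw [suAct_inv_suAct, suAct_smul] at this
      conv_rhs => rw [this, inv_smul_smul₀ hc0]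
    refine ⟨⟨k⁻¹, key _ k (va_ne_zero hF) hk⟩, l⁻¹, key _ l ?_ hl⟩
    intro h
    have := vb_va hF (d := d)
    rw [h, (hermForm_isHerm hF _).zero_left] at this
    exact zero_ne_one this

/-- The scalar on `va`. -/
noncomputable def kap (g : Cfsg.SU (2 + d) F q) : F :=
  Cfsg.hermForm (2 + d) F q (suAct g (va hF d)) (vb hF d)

/-- The action on the complement. -/
def gam (g : Cfsg.SU (2 + d) F q) (w : Fin d → F) : Fin d → F := prW (suAct g (inW d w))

variable {hF}

theorem kap_spec {g : Cfsg.SU (2 + d) F q} (hg : g ∈ lev hF d) :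
    suAct g (va hF d) = kap hF g • va hF d ∧ kap hF g ≠ 0 := by
  obtain ⟨⟨k, hk⟩, -⟩ := hg
  have e : kap hF g = k := by
    rw [kap, hk, (hermForm_isHerm hF _).smul_left, va_vb hF, mul_one]
  refine ⟨e ▸ hk, fun h => suAct_ne_zero g (va_ne_zero hF (d := d)) ?_⟩
  rw [hk, ← e, h, zero_smul]

theorem gam_spec {g : Cfsg.SU (2 + d) F q} (hg : g ∈ lev hF d) (w : Wd) :
    suAct g (inW d w) = inW d (gam g w) := by
  obtain ⟨⟨k, hk⟩, l, hl⟩ := hg
  have H := hermForm_isHerm hF (2 + d)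
  have hkl : k * l ^ q = 1 := by
    have := suAct_herm g (va hF d) (vb hF d)
    rwa [hk, hl, H.smul_left, H.smul_right, va_vb hF, mul_one] at this
  refine eq_inW hF ?_ ?_
  · have := suAct_herm g (inW d w) (va hF d)
    rw [hk, H.smul_right, inW_va hF] at this
    exact (mul_eq_zero.1 this).resolve_left (pow_ne_zero _ (left_ne_zero_of_mul_eq_one hkl))
  · have := suAct_herm g (inW d w) (vb hF d)
    rw [hl, H.smul_right, inW_vb hF] at this
    exact (mul_eq_zero.1 this).resolve_left (right_ne_zero_of_mul_eq_one hkl)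

theorem kap_mul {g g' : Cfsg.SU (2 + d) F q} (hg : g ∈ lev hF d) (hg' : g' ∈ lev hF d) :
    kap hF (g * g') = kap hF g * kap hF g' := by
  show Cfsg.hermForm (2 + d) F q (suAct (g * g') (va hF d)) (vb hF d) = _
  rw [suAct_mul, (kap_spec hg').1, suAct_smul, (hermForm_isHerm hF _).smul_left, mul_comm]
  rfl

theorem kap_one : kap hF (1 : Cfsg.SU (2 + d) F q) = 1 := by rw [kap, suAct_one, va_vb hF]

omit [Fintype F] in
theorem gam_one (w : Wd) : gam (1 : Cfsg.SU (2 + d) F q) w = w := by simp [gam]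

theorem gam_mul {g g' : Cfsg.SU (2 + d) F q} (hg : g ∈ lev hF d) (hg' : g' ∈ lev hF d) (w : Wd) :
    gam (g * g') w = gam g (gam g' w) := by
  rw [gam, suAct_mul, gam_spec hg', gam_spec hg, prW_inW]

omit [Fintype F] in
theorem gam_add (g : Cfsg.SU (2 + d) F q) (w w' : Wd) : gam g (w + w') = gam g w + gam g w' := by
  funext i
  simp [gam, map_add, suAct_add, prW]

omit [Fintype F] in
theorem gam_smul (g : Cfsg.SU (2 + d) F q) (c : F) (w : Wd) : gam g (c • w) = c • gam g w := by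
  funext i
  simp [gam, map_smul, suAct_smul, prW]

theorem gam_herm {g : Cfsg.SU (2 + d) F q} (hg : g ∈ lev hF d) (w w' : Wd) :
    hw (gam g w) (gam g w') = hw w w' := by
  rw [← inW_inW hF, ← gam_spec hg, ← gam_spec hg, suAct_herm, inW_inW hF]

theorem IsE.conj {e g : Cfsg.SU (2 + d) F q} {w : Wd} {z : F} (h : IsE hF e w z)
    (hg : g ∈ lev hF d) :
    IsE hF (g * e * g⁻¹) (kap hF g ^ q • gam g w) (kap hF g ^ (q + 1) * z) := by
  intro x
  have H := hermForm_isHerm hF (2 + d)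
  obtain ⟨hk, -⟩ := kap_spec hg
  set k := kap hF g
  have e1 : hn (suAct g⁻¹ x) (va hF d) = k ^ q * hn x (va hF d) := by
    rw [← suAct_herm g (suAct g⁻¹ x), suAct_suAct_inv, hk, H.smul_right]
  have e2 : hn (suAct g⁻¹ x) (inW d w) = hn x (inW d (gam g w)) := by
    rw [← suAct_herm g (suAct g⁻¹ x), suAct_suAct_inv, gam_spec hg]
  rw [suAct_mul, suAct_mul, h, suAct_add, suAct_sub, suAct_add, suAct_smul, suAct_smul, suAct_smul,
    suAct_suAct_inv, e1, e2, hk, gam_spec hg, map_smul, H.smul_right, pow_q_pow_q hF, pow_succ]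
  module

theorem exists_lev_kap (hd : 1 ≤ d) {κ : F} (hκ : κ ≠ 0) :
    ∃ g ∈ lev hF d, kap hF g = κ := by
  have H := hermForm_isHerm hF (2 + d)
  obtain ⟨g, h1, h2⟩ := su_transitive_hyperbolic hF (by omega) (va_va hF (d := d)) (vb_vb hF)
    (va_vb hF) (v' := κ • va hF d) (w' := (κ ^ q)⁻¹ • vb hF d)
    (by rw [H.smul_left, H.smul_right, va_va hF, mul_zero, mul_zero])
    (by rw [H.smul_left, H.smul_right, vb_vb hF, mul_zero, mul_zero])
    (by rw [H.smul_left, H.smul_right, va_vb hF, mul_one, inv_pow, pow_q_pow_q hF, mul_inv_cancel₀ hκ])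
  exact ⟨g, ⟨⟨κ, h1⟩, _, h2⟩, by rw [kap, h1, H.smul_left, va_vb hF, mul_one]⟩

theorem levJ (B : Cfsg.SU d F q) : blockEmb d F q B ∈ lev hF d ∧ kap hF (blockEmb d F q B) = 1 ∧
    ∀ w, gam (blockEmb d F q B) w = suAct B w := by
  have h1 : suAct (blockEmb d F q B) (va hF d) = va hF d := by
    rw [va, e₀, suAct_blockEmb, suAct_zero]
  have h2 : suAct (blockEmb d F q B) (vb hF d) = vb hF d := by
    rw [vb, suAct_blockEmb, suAct_zero]
  refine ⟨⟨⟨1, by rw [h1, one_smul]⟩, 1, by rw [h2, one_smul]⟩, by rw [kap, h1, va_vb hF], fun w => ?_⟩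
  show prW (suAct (blockEmb d F q B) (Fin.append 0 w)) = _
  rw [suAct_blockEmb]
  funext i
  simp [prW]

variable (hF)

/-- The Levi action on the first coordinate of the radical. -/
noncomputable def rhoX (d : ℕ) : lev hF d →* Equiv.Perm (Fin d → F) :=
  MonoidHom.mk' (fun g =>
    { toFun := fun w => kap hF g.1 ^ q • gam g.1 w
      invFun := fun w => kap hF (g⁻¹).1 ^ q • gam (g⁻¹).1 w
      left_inv := fun w => by
        show _ • gam _ (_ • gam _ w) = w
        rw [gam_smul, smul_smul, ← gam_mul (g⁻¹).2 g.2, ← mul_pow, ← kap_mul (g⁻¹).2 g.2,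
          ← Subgroup.coe_mul, inv_mul_cancel, Subgroup.coe_one, kap_one, one_pow, one_smul, gam_one]
      right_inv := fun w => by
        show _ • gam _ (_ • gam _ w) = w
        rw [gam_smul, smul_smul, ← gam_mul g.2 (g⁻¹).2, ← mul_pow, ← kap_mul g.2 (g⁻¹).2,
          ← Subgroup.coe_mul, mul_inv_cancel, Subgroup.coe_one, kap_one, one_pow, one_smul, gam_one] })
    fun g g' => Equiv.ext fun w => by
      show kap hF (g * g' : lev hF d).1 ^ q • gam (g * g' : lev hF d).1 w =
        kap hF g.1 ^ q • gam g.1 (kap hF g'.1 ^ q • gam g'.1 w)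
      rw [gam_smul, smul_smul, ← gam_mul g.2 g'.2, ← mul_pow, ← kap_mul g.2 g'.2, Subgroup.coe_mul]

/-- The dual action. -/
noncomputable def rhoA (d : ℕ) : lev hF d →* Equiv.Perm (Fin d → F) :=
  MonoidHom.mk' (fun g =>
    { toFun := fun w => (kap hF g.1)⁻¹ • gam g.1 w
      invFun := fun w => (kap hF (g⁻¹).1)⁻¹ • gam (g⁻¹).1 w
      left_inv := fun w => by
        show _ • gam _ (_ • gam _ w) = w
        rw [gam_smul, smul_smul, ← gam_mul (g⁻¹).2 g.2, ← mul_inv, ← kap_mul (g⁻¹).2 g.2,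
          ← Subgroup.coe_mul, inv_mul_cancel, Subgroup.coe_one, kap_one, inv_one, one_smul, gam_one]
      right_inv := fun w => by
        show _ • gam _ (_ • gam _ w) = w
        rw [gam_smul, smul_smul, ← gam_mul g.2 (g⁻¹).2, ← mul_inv, ← kap_mul g.2 (g⁻¹).2,
          ← Subgroup.coe_mul, mul_inv_cancel, Subgroup.coe_one, kap_one, inv_one, one_smul, gam_one] })
    fun g g' => Equiv.ext fun w => by
      show (kap hF (g * g' : lev hF d).1)⁻¹ • gam (g * g' : lev hF d).1 w =
        (kap hF g.1)⁻¹ • gam g.1 ((kap hF g'.1)⁻¹ • gam g'.1 w)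
      rw [gam_smul, smul_smul, ← gam_mul g.2 g'.2, ← mul_inv, ← kap_mul g.2 g'.2, Subgroup.coe_mul]

theorem rhoX_apply (g : lev hF d) (w : Wd) : rhoX hF d g w = kap hF g.1 ^ q • gam g.1 w := rfl

theorem rhoA_apply (g : lev hF d) (w : Wd) : rhoA hF d g w = (kap hF g.1)⁻¹ • gam g.1 w := rfl

/-! ### Labels -/

section Labels

variable {Ω : Type*} [MulAction (Cfsg.SU (2 + d) F q) Ω]

/-- First coordinates of the radical elements fixing a point. -/
def Xof (d : ℕ) [MulAction (Cfsg.SU (2 + d) F q) Ω] (ω : Ω) : AddSubgroup (Fin d → F) where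
  carrier := {w | ∃ (g : Cfsg.SU (2 + d) F q) (z : F), IsE hF g w z ∧ g • ω = ω}
  zero_mem' := ⟨1, 0, isE_one, one_smul _ ω⟩
  add_mem' := fun ⟨g, z, h, hg⟩ ⟨g', z', h', hg'⟩ => ⟨g * g', _, h.mul h', by rw [mul_smul, hg', hg]⟩
  neg_mem' := fun ⟨g, z, h, hg⟩ => ⟨g⁻¹, _, h.inv, inv_smul_eq_iff.2 hg.symm⟩

/-- Central coordinates of the radical elements fixing a point. -/
def Zof (d : ℕ) [MulAction (Cfsg.SU (2 + d) F q) Ω] (ω : Ω) : AddSubgroup F where
  carrier := {z | ∃ g : Cfsg.SU (2 + d) F q, IsE hF g (0 : Fin d → F) z ∧ g • ω = ω}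
  zero_mem' := ⟨1, isE_one, one_smul _ ω⟩
  add_mem' := fun {a b} ⟨g, h, hg⟩ ⟨g', h', hg'⟩ => ⟨g * g', by
    have := h.mul h'
    rwa [add_zero, (hermForm_isHerm hF d).zero_left, sub_zero] at this,
    by rw [mul_smul, hg', hg]⟩
  neg_mem' := fun {a} ⟨g, h, hg⟩ => ⟨g⁻¹, by
    have := h.inv
    rwa [neg_zero, (hermForm_isHerm hF d).zero_left, sub_zero] at this,
    inv_smul_eq_iff.2 hg.symm⟩

theorem Zof_le_skew (ω : Ω) : Zof hF d ω ≤ skewGrp hF := by
  rintro z ⟨g, h, -⟩
  have := h.param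
  rw [(hermForm_isHerm hF d).zero_left, add_zero] at this
  exact this

theorem conj_radQ {a h : Cfsg.SU (2 + d) F q} {u w : Wd} {c z : F} (ha : IsE hF a u c)
    (hh : IsE hF h w z) : IsE hF (a * h * a⁻¹) w (z - hw w u + hw u w) := by
  have := (ha.mul hh).mul ha.inv
  have H := hermForm_isHerm hF d
  rwa [show u + w + -u = w by abel, H.neg_left, H.add_right hF,
    show c + z - hw w u + (-c - hw u u) - -(hw u u + hw u w) = z - hw w u + hw u w by ring] at this

theorem lab_radQ {a : Cfsg.SU (2 + d) F q} (ha : a ∈ radQ hF d) (ω : Ω) :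
    Xof hF d (a • ω) = Xof hF d ω ∧ Zof hF d (a • ω) = Zof hF d ω := by
  have key : ∀ (a : Cfsg.SU (2 + d) F q), a ∈ radQ hF d → ∀ ω : Ω,
      Xof hF d ω ≤ Xof hF d (a • ω) ∧ Zof hF d ω ≤ Zof hF d (a • ω) := by
    rintro a ⟨u, c, ha⟩ ω
    constructor
    · rintro w ⟨g, z, h, hg⟩
      exact ⟨_, _, conj_radQ hF ha h, by rw [mul_smul, mul_smul, inv_smul_smul, hg]⟩
    · rintro z ⟨g, h, hg⟩
      refine ⟨a * g * a⁻¹, ?_, by rw [mul_smul, mul_smul, inv_smul_smul, hg]⟩
      have H := hermForm_isHerm hF d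
      have := conj_radQ hF ha h
      rwa [H.zero_left, H.zero_right hF, sub_zero, add_zero] at this
  have h1 := key a ha ω
  have h2 := key a⁻¹ (inv_mem ha) (a • ω)
  rw [inv_smul_smul] at h2
  exact ⟨le_antisymm h2.1 h1.1, le_antisymm h2.2 h1.2⟩

theorem lab_lev (g : lev hF d) (ω : Ω) :
    (Xof hF d (g.1 • ω) : Set Wd) = rhoX hF d g '' (Xof hF d ω : Set Wd) ∧
      (Zof hF d (g.1 • ω) : Set F) =
        (fun z => kap hF g.1 ^ (q + 1) * z) '' (Zof hF d ω : Set F) := by
  have key : ∀ (g : lev hF d) (ω : Ω),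
      rhoX hF d g '' (Xof hF d ω : Set Wd) ⊆ Xof hF d (g.1 • ω) ∧
      (fun z => kap hF g.1 ^ (q + 1) * z) '' (Zof hF d ω : Set F) ⊆ Zof hF d (g.1 • ω) := by
    intro g ω
    constructor
    · rintro _ ⟨w, ⟨e, z, h, he⟩, rfl⟩
      exact ⟨_, _, h.conj g.2, by rw [mul_smul, mul_smul, inv_smul_smul, he]⟩
    · rintro _ ⟨z, ⟨e, h, he⟩, rfl⟩
      refine ⟨g.1 * e * g.1⁻¹, ?_, by rw [mul_smul, mul_smul, inv_smul_smul, he]⟩
      have := h.conj g.2
      rwa [show gam g.1 (0 : Wd) = 0 by simp [gam, suAct_zero]; rfl, smul_zero] at this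
  have h1 := key g ω
  have h2 := key g⁻¹ (g.1 • ω)
  rw [Subgroup.coe_inv, inv_smul_smul] at h2
  constructor
  · refine subset_antisymm (fun w hmem => ?_) h1.1
    exact ⟨rhoX hF d g⁻¹ w, h2.1 ⟨w, hmem, rfl⟩, by
      rw [map_inv]; exact (rhoX hF d g).apply_symm_apply w⟩
  · refine subset_antisymm (fun z hz => ?_) h1.2
    refine ⟨kap hF g.1⁻¹ ^ (q + 1) * z, h2.2 ⟨z, hz, rfl⟩, ?_⟩
    show kap hF g.1 ^ (q + 1) * _ = z
    rw [← mul_assoc, ← mul_pow, ← kap_mul g.2 (inv_mem g.2), mul_inv_cancel, kap_one, one_pow, one_mul]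

theorem commutator_mem (ω : Ω) {u w : Wd} (hu : u ∈ Xof hF d ω) (hw' : w ∈ Xof hF d ω) :
    hw u w - hw w u ∈ Zof hF d ω := by
  obtain ⟨a, c, ha, haω⟩ := hu
  obtain ⟨b, z, hb, hbω⟩ := hw'
  refine ⟨a * b * a⁻¹ * b⁻¹, ?_, by
    rw [mul_smul, mul_smul, mul_smul, inv_smul_eq_iff.2 hbω.symm, inv_smul_eq_iff.2 haω.symm, hbω, haω]⟩
  have H := hermForm_isHerm hF d
  have := (conj_radQ hF ha hb).mul hb.inv
  rwa [add_neg_cancel, H.neg_left,
    show z - hw w u + hw u w + (-z - hw w w) - -hw w w = hw u w - hw w u by ring] at this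

theorem card_stab_radQ (ω : Ω) :
    Nat.card (MulAction.stabilizer (radQ hF d) ω) = Nat.card (Xof hF d ω) * Nat.card (Zof hF d ω) := by
  classical
  have H := hermForm_isHerm hF d
  choose r c hr hrω using fun w : Xof hF d ω => w.2
  choose s hs hsω using fun z : Zof hF d ω => z.2
  rw [← Nat.card_prod]
  have hprod : ∀ p : Xof hF d ω × Zof hF d ω, IsE hF (r p.1 * s p.2) p.1.1 (c p.1 + p.2.1) :=
    fun p => by
      have := (hr p.1).mul (hs p.2)
      rwa [add_zero, H.zero_left, sub_zero] at this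
  refine (Nat.card_eq_of_bijective
    (fun p => ⟨⟨r p.1 * s p.2, _, _, hprod p⟩, by
      show (r p.1 * s p.2) • ω = ω
      rw [mul_smul, hsω, hrω]⟩) ⟨?_, ?_⟩).symm
  · rintro ⟨w, z⟩ ⟨w', z'⟩ h
    have e : r w * s z = r w' * s z' :=
      congrArg (fun a : MulAction.stabilizer (radQ hF d) ω => a.1.1) h
    obtain ⟨e1, e2⟩ := (hprod (w, z)).coords (e ▸ hprod (w', z'))
    obtain rfl : w = w' := Subtype.ext e1
    obtain rfl : z = z' := Subtype.ext (add_left_cancel e2)
    rfl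
  · rintro ⟨⟨g, w, z, h⟩, hgω⟩
    have hgω' : g • ω = ω := hgω
    let wx : Xof hF d ω := ⟨w, g, z, h, hgω'⟩
    have h' := (hr wx).inv.mul h
    have hw0 : -(wx : Wd) + w = 0 := neg_add_cancel w
    rw [hw0] at h'
    let zx : Zof hF d ω := ⟨_, (r wx)⁻¹ * g, h', by
      rw [mul_smul, hgω', inv_smul_eq_iff, hrω]⟩
    refine ⟨(wx, zx), Subtype.ext (Subtype.ext ?_)⟩
    show r wx * s zx = g
    rw [(hs zx).unique h', mul_inv_cancel_left]

theorem card_orbit_mul (ω : Ω) :
    Nat.card (MulAction.orbit (radQ hF d) ω) * (Nat.card (Xof hF d ω) * Nat.card (Zof hF d ω)) =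
      (q ^ 2) ^ d * q := by
  rw [← card_radQ hF, ← card_stab_radQ,
    Nat.card_congr (MulAction.orbitEquivQuotientStabilizer (radQ hF d) ω)]
  exact (Subgroup.card_eq_card_quotient_mul_card_subgroup _).symm

/-- The label of a point. -/
def lab (d : ℕ) [MulAction (Cfsg.SU (2 + d) F q) Ω] (ω : Ω) : Set (Fin d → F) × Set F := ((Xof hF d ω : Set _), (Zof hF d ω : Set _))

theorem card_labels_mul_le [Finite Ω] (L : Set (Set (Fin d → F) × Set F)) {s : ℕ}
    (hatt : ∀ l ∈ L, ∃ ω : Ω, lab hF d ω = l) (hs : ∀ l ∈ L, l.1.ncard * l.2.ncard = s) :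
    L.ncard * ((q ^ 2) ^ d * q) ≤ s * {ω : Ω | lab hF d ω ∈ L}.ncard := by
  classical
  choose f hf using fun l : L => hatt l.1 l.2
  have hsize : ∀ l : L, Nat.card (MulAction.orbit (radQ hF d) (f l)) * s = (q ^ 2) ^ d * q := by
    intro l
    rw [← card_orbit_mul hF (f l), ← hs l.1 l.2, ← hf l]
    rfl
  have : Fintype L := Fintype.ofFinite L
  have hinj : Nat.card (Σ l : L, MulAction.orbit (radQ hF d) (f l)) ≤
      {ω : Ω | lab hF d ω ∈ L}.ncard := by
    rw [← Nat.card_coe_set_eq]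
    have hlab : ∀ p : Σ l : L, MulAction.orbit (radQ hF d) (f l), lab hF d p.2.1 = p.1.1 := by
      rintro ⟨l, x, a, rfl⟩
      obtain ⟨h1, h2⟩ := lab_radQ hF a.2 (f l)
      rw [← hf l]
      show ((Xof hF d (a.1 • f l) : Set Wd), _) = _
      rw [h1]
      exact congrArg (fun S : AddSubgroup F => ((Xof hF d (f l) : Set Wd), (S : Set F))) h2
    refine Nat.card_le_card_of_injective
      (fun p => ⟨p.2.1, show lab hF d p.2.1 ∈ L by rw [hlab p]; exact p.1.2⟩) fun p p' h => ?_
    have e : p.2.1 = p'.2.1 := congrArg Subtype.val h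
    have el : p.1 = p'.1 := Subtype.ext (by rw [← hlab p, ← hlab p', e])
    obtain ⟨l, x⟩ := p
    obtain ⟨l', x'⟩ := p'
    simp only at el
    subst el
    obtain rfl : x = x' := Subtype.ext e
    rfl
  calc L.ncard * ((q ^ 2) ^ d * q) = ∑ l : L, Nat.card (MulAction.orbit (radQ hF d) (f l)) * s := by
        rw [Finset.sum_congr rfl fun l _ => hsize l, Finset.sum_const, smul_eq_mul, Finset.card_univ,
          ← Nat.card_eq_fintype_card, Nat.card_coe_set_eq]
    _ = s * Nat.card (Σ l : L, MulAction.orbit (radQ hF d) (f l)) := by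
        rw [← Finset.sum_mul, Nat.card_sigma, mul_comm]
    _ ≤ _ := Nat.mul_le_mul_left _ hinj

end Labels

end Cfsg.Agent.MinIndexU
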