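import Cfsg.Agent.Lib.MinIndexU.TICount
/-
Translates of a subgroup X of the hermitian space with all products in a proper subgroup K.
* exists_iso_of_big: a subgroup with more than q² elements has an isotropic vector (Chevalley–Warning)
* translates_small, translates_ti, translates_pair, translates_three
* key_translates: (q + 2) |X| ≤ (q + 1) #translates
-/
set_option autoImplicit false

namespace Cfsg.Agent.MinIndexU

open Cfsg.Agent.Unitary
open scoped Matrix

variable {F : Type*} [Field F] [Fintype F] {q d : ℕ}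

local notation "hm" => Cfsg.hermForm d F q
local notation "Vd" => (Fin d → F)

/-- The number of translates under SU. -/
noncomputable def nT (d q : ℕ) (X : Set (Fin d → F)) : ℕ := (trs (suPerm d F q) X).ncard

theorem ncard_le_fibre {α β : Type*} {A : Set α} {B : Set β} (hA : A.Finite) (hB : B.Finite)
    (f : α → β) (hf : ∀ a ∈ A, f a ∈ B) (n : ℕ) (hn : ∀ b ∈ B, {a ∈ A | f a = b}.ncard ≤ n) :
    A.ncard ≤ n * B.ncard := by
  classical
  rw [Set.ncard_eq_toFinset_card A hA, Set.ncard_eq_toFinset_card B hB]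
  refine Finset.card_le_mul_card_image_of_maps_to (fun a ha => hB.mem_toFinset.2
    (hf a (hA.mem_toFinset.1 ha))) n fun b hb => ?_
  have h := hn b (hB.mem_toFinset.1 hb)
  rw [Set.ncard_eq_toFinset_card _ (hA.subset (Set.sep_subset _ _))] at h
  convert h using 2
  ext a
  simp

theorem two_mul_card_le_of_lt {A : Type*} [AddGroup A] [Finite A] {S T : AddSubgroup A} (h : S < T) :
    2 * Nat.card S ≤ Nat.card T := by
  obtain ⟨c, hc⟩ := AddSubgroup.card_dvd_of_le h.le
  have hS : 0 < Nat.card S := Nat.card_pos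
  rcases Nat.lt_or_ge c 2 with hc2 | hc2
  · exfalso
    have hle : Nat.card T ≤ Nat.card S := by
      rw [hc]; exact (Nat.mul_le_mul_left _ (show c ≤ 1 by omega)).trans_eq (mul_one _)
    exact h.ne (AddSubgroup.eq_of_le_of_card_ge h.le hle)
  · rw [hc, mul_comm]; exact Nat.mul_le_mul_left _ hc2

theorem card_le_pow (hF : Fintype.card F = q ^ 2) {K : AddSubgroup F} (hK : K ≠ ⊤)
    {X : AddSubgroup Vd} (hX : ∀ a ∈ X, ∀ b ∈ X, hm a b ∈ K) : Nat.card X ≤ q ^ d := by
  have h := pair_bound hF hK X X hX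
  rw [← pow_mul, show 2 * d = d + d by ring, pow_add] at h
  exact Nat.mul_self_le_mul_self_iff.1 h

theorem cls_inv (t : F) : ∀ g, ∀ x ∈ cls d q t, suPerm d F q g x ∈ cls d q t :=
  fun g x hx => ⟨suAct_ne_zero g hx.1, (suAct_herm g x x).trans hx.2⟩

theorem cls_trans (hF : Fintype.card F = q ^ 2) (hd : 3 ≤ d) {v : Vd} (hv : v ≠ 0) :
    ∀ x ∈ cls d q (hm v v), ∃ g, suPerm d F q g v = x := fun x hx => by
  obtain ⟨g, hg⟩ := move_one hF hd hv hx.1 hx.2.symm
  exact ⟨g, hg⟩

theorem orbit_count (hF : Fintype.card F = q ^ 2) (hd : 3 ≤ d) {X : Set Vd} {v u : Vd} (hv : v ≠ 0)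
    (hvX : v ∈ X) (huX : u ∈ X) {s t : F} (hu : u ∈ orb v q s t)
    (he : ∀ x ∈ orb v q s t, ∃ e, hm e e = 1 ∧ hm v e = 0 ∧ hm x e = 0) :
    (cls d q (hm v v)).ncard * (orb v q s t).ncard ≤
      nT d q X * ((X ∩ cls d q (hm v v)).ncard * (X ∩ orb v q s t).ncard) := by
  have h1 := card_class_mul_le (suPerm d F q) X hvX (cls_inv (hm v v)) (cls_trans hF hd hv)
  have h2 := card_orb_le (suPerm d F q) X (v := v) huX (O := orb v q s t)
    (fun g hg x hx => orb_inv hg hx) fun x hx => move_pair hF hv hu hx (he x hx)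
  calc _ ≤ (cls d q (hm v v)).ncard * ((trsAt (suPerm d F q) X v).ncard * (X ∩ orb v q s t).ncard) :=
        Nat.mul_le_mul_left _ h2
    _ = (cls d q (hm v v)).ncard * (trsAt (suPerm d F q) X v).ncard * (X ∩ orb v q s t).ncard :=
        (mul_assoc _ _ _).symm
    _ ≤ nT d q X * (X ∩ cls d q (hm v v)).ncard * (X ∩ orb v q s t).ncard := Nat.mul_le_mul_right _ h1
    _ = _ := mul_assoc _ _ _

theorem translates_small (hF : Fintype.card F = q ^ 2) (hd : 3 ≤ d) {X : AddSubgroup Vd}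
    (hX0 : X ≠ ⊥) (hs : Nat.card X ≤ q ^ 2) :
    (q + 2) * Nat.card X ≤ (q + 1) * nT d q (X : Set Vd) := by
  have hq := two_le_q hF
  obtain ⟨v, hvX, hv⟩ := X.bot_or_exists_ne_zero.resolve_left hX0
  have H := hermForm_isHerm hF d
  have h1 := card_class_le (suPerm d F q) (X : Set Vd) hvX (cls_inv (hm v v)) (cls_trans hF hd hv)
  have h2 : ((X : Set Vd) ∩ cls d q (hm v v)).ncard ≤ q ^ 2 - 1 := by
    calc _ ≤ ((X : Set Vd) \ {0}).ncard := Set.ncard_le_ncard (fun x hx => ⟨hx.1, hx.2.1⟩)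
      _ = Nat.card X - 1 := by
        rw [Set.ncard_sdiff_singleton_of_mem X.zero_mem]; rfl
      _ ≤ _ := by omega
  have h3 : (q ^ 2 - 1) * (q ^ 3 + 1) ≤ cmin q d := by
    rcases Nat.eq_or_lt_of_le hd with rfl | hd4
    · rw [cmin, mul_comm]
    · refine le_trans ?_ (cmin_ge_pow hq (by omega))
      refine le_trans ?_ (Nat.pow_le_pow_right (by omega) (show 6 ≤ 2 * d - 2 by omega))
      calc (q ^ 2 - 1) * (q ^ 3 + 1) ≤ q ^ 2 * (q ^ 3 + q ^ 3) :=
            Nat.mul_le_mul (Nat.sub_le _ _) (Nat.add_le_add_left (Nat.one_le_pow _ _ (by omega)) _)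
        _ = 2 * q ^ 5 := by ring
        _ ≤ q * q ^ 5 := Nat.mul_le_mul_right _ hq
        _ = q ^ 6 := by ring
  have hT : q ^ 3 + 1 ≤ nT d q (X : Set Vd) := by
    have h4 : 4 ≤ q ^ 2 := Nat.pow_le_pow_left hq 2
    refine Nat.le_of_mul_le_mul_left ?_ (show 0 < q ^ 2 - 1 by omega)
    calc _ ≤ (cls d q (hm v v)).ncard := h3.trans (cmin_le_cls hF (by omega) (H.self_fixed v))
      _ ≤ _ := h1
      _ ≤ _ := by rw [mul_comm (q ^ 2 - 1)]; exact Nat.mul_le_mul_left _ h2
  calc (q + 2) * Nat.card X ≤ (q + 2) * q ^ 2 := Nat.mul_le_mul_left _ hs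
    _ ≤ (q + 1) * (q ^ 3 + 1) := by
      have h2q : 2 * q ^ 2 ≤ q * q ^ 3 := by
        rw [show q * q ^ 3 = q ^ 2 * q ^ 2 by ring]
        exact Nat.mul_le_mul_right _ (hq.trans (Nat.le_self_pow two_ne_zero q))
      linarith
    _ ≤ _ := Nat.mul_le_mul_left _ hT

theorem card_le_card_span (X : AddSubgroup Vd) :
    Nat.card X ≤ Nat.card (Submodule.span F (X : Set Vd)) :=
  Nat.card_le_card_of_injective (fun x => ⟨x.1, Submodule.subset_span x.2⟩)
    fun a b h => Subtype.ext (congrArg (fun z : Submodule.span F (X : Set Vd) => (z : Vd)) h)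

theorem span_ti (hF : Fintype.card F = q ^ 2) {X : Set Vd} (h0 : ∀ a ∈ X, ∀ b ∈ X, hm a b = 0) :
    ∀ a ∈ Submodule.span F X, ∀ b ∈ Submodule.span F X, hm a b = 0 := by
  have H := hermForm_isHerm hF d
  intro a ha
  induction ha using Submodule.span_induction with
  | mem x hx =>
    intro b hb
    induction hb using Submodule.span_induction with
    | mem y hy => exact h0 x hx y hy
    | zero => exact H.zero_right hF x
    | add y z _ _ hy hz => rw [H.add_right hF, hy, hz, add_zero]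
    | smul c y _ hy => rw [H.smul_right, hy, mul_zero]
  | zero => exact fun b _ => H.zero_left b
  | add x y _ _ hx hy => exact fun b hb => by rw [H.add_left, hx b hb, hy b hb, add_zero]
  | smul c x _ hx => exact fun b hb => by rw [H.smul_left, hx b hb, mul_zero]

theorem translates_ti (hF : Fintype.card F = q ^ 2) (hd : 4 ≤ d) {K : AddSubgroup F} (hK : K ≠ ⊤)
    {X : AddSubgroup Vd} (hX : ∀ a ∈ X, ∀ b ∈ X, hm a b ∈ K) (hbig : q ^ 2 < Nat.card X)
    (h0 : ∀ a ∈ X, ∀ b ∈ X, hm a b = 0) :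
    (q + 2) * Nat.card X ≤ (q + 1) * nT d q (X : Set Vd) := by
  have hq := two_le_q hF
  let U := Submodule.span F (X : Set Vd)
  have hUti : ∀ a ∈ U, ∀ b ∈ U, hm a b = 0 := span_ti hF h0
  obtain ⟨k, hk⟩ : ∃ k, Module.finrank F U = k := ⟨_, rfl⟩
  have hcard : Nat.card U = (q ^ 2) ^ k := by
    rw [Module.natCard_eq_pow_finrank (K := F), card_F hF, hk]
  have hQ : 1 < q ^ 2 := Nat.one_lt_pow two_ne_zero hq
  have hk2 : 2 ≤ k := by
    by_contra hlt
    have := card_le_card_span X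
    rw [hcard] at this
    have : (q ^ 2) ^ k ≤ (q ^ 2) ^ 1 := Nat.pow_le_pow_right (by omega) (by omega)
    simp only [pow_one] at this
    omega
  have h2k : 2 * k ≤ d := by
    have := card_orth_le hF U U hUti
    rw [hcard, ← pow_add] at this
    have := (Nat.pow_le_pow_iff_right hQ).1 this
    omega
  have hT : tiN F q d k ≤ nT d q (X : Set Vd) := by
    rw [tiN, nT]
    rw [← Nat.card_coe_set_eq (trs (suPerm d F q) (X : Set Vd))]
    have hmem : ∀ W : {W : Submodule F Vd // IsTISubspace q k W}, ∃ Y : trs (suPerm d F q) (X : Set Vd),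
        Submodule.span F (Y : Set Vd) = W.1 := by
      intro W
      obtain ⟨g, hg⟩ := move_ti hF (by omega) h2k (W := U) ⟨hk, hUti⟩ W.2
      refine ⟨⟨suPerm d F q g '' X, g, rfl⟩, ?_⟩
      show Submodule.span F (Matrix.mulVecLin
        ((g : Matrix.SpecialLinearGroup (Fin d) F) : Matrix (Fin d) (Fin d) F) '' (X : Set Vd)) = W.1
      rw [← Submodule.map_span]
      exact SetLike.coe_injective hg
    choose f hf using hmem
    exact Nat.card_le_card_of_injective f fun W W' h => Subtype.ext (by rw [← hf W, ← hf W', h])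
  calc (q + 2) * Nat.card X ≤ (q + 2) * q ^ d := Nat.mul_le_mul_left _ (card_le_pow hF hK hX)
    _ ≤ (q + 1) * tiN F q d k := tiN_ge_pow hF hd hk2 h2k
    _ ≤ _ := Nat.mul_le_mul_left _ hT

theorem cmin_le_pow (hq : 2 ≤ q) (j : ℕ) : cmin q (j + 1) ≤ q ^ (2 * j + 1) := by
  obtain ⟨A, hA⟩ : ∃ A, q ^ j = A + 1 := ⟨q ^ j - 1, by have := Nat.one_le_pow j q (by omega); omega⟩
  rw [cmin, Nat.add_sub_cancel, hA, pow_succ', hA, Nat.add_sub_cancel,
    show q ^ (2 * j + 1) = q * (A + 1) * (A + 1) by rw [pow_succ', two_mul, pow_add, hA]; ring]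
  nlinarith

theorem pair_numeric (hq : 2 ≤ q) (hd : 4 ≤ d) :
    (q + 2) * (q ^ d) ^ 3 ≤ (q + 1) * (2 * (cmin q d * cmin q (d - 1))) := by
  obtain ⟨i, rfl⟩ : ∃ i, d = i + 4 := ⟨d - 4, by omega⟩
  set x := q ^ i with hx
  have hx1 : 1 ≤ x := Nat.one_le_pow _ _ (by omega)
  have a4 : q ^ (i + 4) = x * q ^ 4 := by rw [pow_add]
  have a3 : q ^ (i + 3) = x * q ^ 3 := by rw [pow_add]
  have a2 : q ^ (i + 2) = x * q ^ 2 := by rw [pow_add]
  have a6 : 2 ^ 6 ≤ q ^ 6 := Nat.pow_le_pow_left hq 6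
  have a22 : 2 ^ 2 ≤ q ^ 2 := Nat.pow_le_pow_left hq 2
  norm_num at a6 a22
  have hA : 64 * ((x * q ^ 3) * (x * q ^ 3) - 1) ≥ 63 * ((x * q ^ 3) * (x * q ^ 3)) := by
    have : 1 * 64 ≤ x * x * q ^ 6 := Nat.mul_le_mul (Nat.mul_pos hx1 hx1) a6
    rw [show (x * q ^ 3) * (x * q ^ 3) = x * x * q ^ 6 by ring]
    omega
  have hB : 4 * (x * q ^ 2 - 1) ≥ 3 * (x * q ^ 2) := by
    have : 1 * 4 ≤ x * q ^ 2 := Nat.mul_le_mul hx1 a22
    omega
  have hAB : (x * q ^ 3 + 1) * (x * q ^ 3 - 1) = (x * q ^ 3) * (x * q ^ 3) - 1 := by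
    have := Nat.mul_self_sub_mul_self_eq (x * q ^ 3) 1
    simpa using this.symm
  have e : (q ^ (i + 4)) ^ 3 = x * x * x * q ^ 12 := by rw [a4]; ring
  rw [e, show cmin q (i + 4) = (x * q ^ 4 + 1) * (x * q ^ 3 - 1) by
      rw [cmin, Nat.add_sub_assoc (by omega), show 4 - 1 = 3 by rfl, a4, a3],
    show cmin q (i + 4 - 1) = (x * q ^ 3 + 1) * (x * q ^ 2 - 1) by
      rw [cmin, show i + 4 - 1 = i + 3 by omega, show i + 3 - 1 = i + 2 by omega, a3, a2]]
  calc (q + 2) * (x * x * x * q ^ 12) ≤ x * ((q + 2) * (x * x * x * q ^ 12)) :=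
        Nat.le_mul_of_pos_left _ hx1
    _ ≤ _ := ?_
  refine Nat.le_of_mul_le_mul_left ?_ (show 0 < 256 by norm_num)
  have h1 := Nat.mul_le_mul (Nat.le_succ (x * q ^ 4)) (Nat.mul_le_mul hA hB)
  calc 256 * (x * ((q + 2) * (x * x * x * q ^ 12)))
      ≤ 2 * (q + 1) * (x * q ^ 4 * (63 * (x * q ^ 3 * (x * q ^ 3)) * (3 * (x * q ^ 2)))) := by
        rw [show 2 * (q + 1) * (x * q ^ 4 * (63 * (x * q ^ 3 * (x * q ^ 3)) * (3 * (x * q ^ 2)))) =
          378 * (q + 1) * (x * x * x * x * q ^ 12) by ring,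
          show 256 * (x * ((q + 2) * (x * x * x * q ^ 12))) =
          256 * (q + 2) * (x * x * x * x * q ^ 12) by ring]
        exact Nat.mul_le_mul_right _ (by omega)
    _ ≤ 2 * (q + 1) * ((x * q ^ 4 + 1) *
          (64 * (x * q ^ 3 * (x * q ^ 3) - 1) * (4 * (x * q ^ 2 - 1)))) := Nat.mul_le_mul_left _ h1
    _ = _ := by rw [← hAB]; ring

theorem translates_pair (hF : Fintype.card F = q ^ 2) (hd : 4 ≤ d) {K : AddSubgroup F} (hK : K ≠ ⊤)
    {X : AddSubgroup Vd} (hX : ∀ a ∈ X, ∀ b ∈ X, hm a b ∈ K) (hbig : q ^ 2 < Nat.card X)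
    (hne : ∃ a ∈ X, ∃ b ∈ X, hm a b ≠ 0) :
    (q + 2) * Nat.card X ≤ (q + 1) * nT d q (X : Set Vd) := by
  have H := hermForm_isHerm hF d
  have hq := two_le_q hF
  obtain ⟨u, huX, v, hvX, huv, hind⟩ :
      ∃ u ∈ X, ∃ v ∈ X, hm u v ≠ 0 ∧ ∀ c : F, c • v ≠ u := by
    by_contra hc
    simp only [not_exists, not_and, not_forall, not_not] at hc
    obtain ⟨u0, hu0, v0, hv0, h0⟩ := hne
    have hall : ∀ x ∈ X, ∃ c : F, c • v0 = x := by
      intro x hx
      by_cases hxv : hm x v0 = 0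
      · obtain ⟨c, hc'⟩ := hc (x + u0) (add_mem hx hu0) v0 hv0 (by rwa [H.add_left, hxv, zero_add])
        obtain ⟨b, hb⟩ := hc u0 hu0 v0 hv0 h0
        exact ⟨c - b, by rw [sub_smul, hc', hb, add_sub_cancel_right]⟩
      · exact hc x hx v0 hv0 hxv
    have : Nat.card X ≤ Nat.card F := by
      choose f hf using fun x : X => hall x.1 x.2
      exact Nat.card_le_card_of_injective f fun x y h => Subtype.ext (by rw [← hf x, ← hf y, h])
    rw [card_F hF] at this
    omega
  have hv : v ≠ 0 := fun h => huv (by rw [h, H.zero_right hF])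
  have hu : u ∈ orb v q (hm u v) (hm u u) := ⟨rfl, rfl, hind⟩
  have hcount := orbit_count hF (by omega) hv hvX huX hu fun x hx =>
    exists_norm_one_perp_pair hF hd (by rw [hx.1]; exact huv)
  have hO : cmin q (d - 1) ≤ (orb v q (hm u v) (hm u u)).ncard := by
    by_cases hvv : hm v v = 0
    · refine le_trans ?_ (orb_lower_iso hF (by omega) hvv huv)
      obtain ⟨j, rfl⟩ : ∃ j, d = j + 2 := ⟨d - 2, by omega⟩
      rw [show j + 2 - 1 = j + 1 by omega, show j + 2 - 2 = j by omega, ← pow_mul, ← pow_succ]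
      exact cmin_le_pow hq j
    · exact orb_lower_aniso hF (by omega) hvv (H.self_fixed u)
  let Kv : AddSubgroup Vd := X ⊓ (perp hF (fun _ : Fin 1 => v)).toAddSubgroup
  have hKv : Kv < X := lt_of_le_of_ne inf_le_left fun h => huv (by
    have : u ∈ Kv := h ▸ huX
    exact this.2 0)
  have hXO : 2 * ((X : Set Vd) ∩ orb v q (hm u v) (hm u u)).ncard ≤ Nat.card X := by
    refine le_trans (Nat.mul_le_mul_left _ ?_) (two_mul_card_le_of_lt hKv)
    rw [← Nat.card_coe_set_eq]
    refine Nat.card_le_card_of_injective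
      (fun x => ⟨x.1 - u, AddSubgroup.mem_inf.2 ⟨X.sub_mem x.2.1 huX, fun _ => ?_⟩⟩) fun x y h => Subtype.ext ?_
    · rw [H.sub_left, x.2.2.1, sub_self]
    · exact sub_left_injective (congrArg (fun z : Kv => (z : Vd)) h)
  have hXC : ((X : Set Vd) ∩ cls d q (hm v v)).ncard ≤ Nat.card X :=
    Set.ncard_le_ncard Set.inter_subset_left
  have hpos : 0 < Nat.card X := Nat.card_pos
  refine Nat.le_of_mul_le_mul_right ?_ (Nat.mul_pos hpos hpos)
  calc (q + 2) * Nat.card X * (Nat.card X * Nat.card X)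
      = (q + 2) * Nat.card X ^ 3 := by ring
    _ ≤ (q + 2) * (q ^ d) ^ 3 := Nat.mul_le_mul_left _ (Nat.pow_le_pow_left (card_le_pow hF hK hX) 3)
    _ ≤ (q + 1) * (2 * (cmin q d * cmin q (d - 1))) := pair_numeric hq hd
    _ ≤ (q + 1) * (2 * (nT d q (X : Set Vd) * (((X : Set Vd) ∩ cls d q (hm v v)).ncard *
        ((X : Set Vd) ∩ orb v q (hm u v) (hm u u)).ncard))) :=
          Nat.mul_le_mul_left _ (Nat.mul_le_mul_left _ ((Nat.mul_le_mul
            (cmin_le_cls hF (by omega) (H.self_fixed v)) hO).trans hcount))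
    _ = (q + 1) * nT d q (X : Set Vd) * (((X : Set Vd) ∩ cls d q (hm v v)).ncard *
        (2 * ((X : Set Vd) ∩ orb v q (hm u v) (hm u u)).ncard)) := by ring
    _ ≤ _ := Nat.mul_le_mul_left _ (Nat.mul_le_mul hXC hXO)

/-- Chevalley–Warning: a subgroup with more than q² elements has a non-zero isotropic vector. -/
theorem exists_iso_of_big (hF : Fintype.card F = q ^ 2) (X : AddSubgroup Vd)
    (hbig : q ^ 2 < Nat.card X) : ∃ v ∈ X, v ≠ 0 ∧ hm v v = 0 := by
  classical
  have H := hermForm_isHerm hF d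
  obtain ⟨p, e, hp, hchar, hqe, -⟩ := exists_prime_pow hF
  have := Fact.mk hp
  letI := ZMod.algebra F p
  obtain ⟨η, hη⟩ := one_half_not_skew hF
  let Xs : Submodule (ZMod p) Vd := AddSubgroup.toZModSubmodule p X
  have hXs : ∀ x, x ∈ Xs ↔ x ∈ X := fun x => Iff.rfl
  let r := Module.finrank (ZMod p) Xs
  let a := Module.finBasis (ZMod p) Xs
  let Fix : Submodule (ZMod p) F := AddSubgroup.toZModSubmodule p (fixedField hF).toAddSubgroup
  let b := Module.finBasis (ZMod p) Fix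
  have hr : p ^ r = Nat.card X := by
    rw [show Nat.card X = Nat.card Xs from rfl, Module.natCard_eq_pow_finrank (K := ZMod p) (V := Xs),
      Nat.card_zmod]
  have he : p ^ Module.finrank (ZMod p) Fix = q := by
    conv_rhs => rw [← card_fixedField hF]
    rw [show Nat.card (fixedField hF) = Nat.card Fix from rfl,
      Module.natCard_eq_pow_finrank (K := ZMod p) (V := Fix), Nat.card_zmod]
  set e' := Module.finrank (ZMod p) Fix
  have hre : 2 * e' < r := by
    rw [← hr, ← he, ← pow_mul] at hbig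
    have := (Nat.pow_lt_pow_iff_right hp.one_lt).1 hbig
    omega
  let g : F →+ Fix :=
    { toFun := fun x => ⟨η * x + (η * x) ^ q, trace_fixed hF _⟩
      map_zero' := Subtype.ext (by simp [zero_pow_q hF])
      map_add' := fun x y => Subtype.ext (by simp [mul_add, add_pow_q hF]; ring) }
  let gl : F →ₗ[ZMod p] Fix := g.toZModLinearMap p
  let f : Fin e' → MvPolynomial (Fin r) (ZMod p) := fun i =>
    ∑ k, ∑ l, MvPolynomial.C (b.repr (gl (hm (a k : Vd) (a l))) i) *
      (MvPolynomial.X k * MvPolynomial.X l)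
  have hdeg : ∀ i, (f i).totalDegree ≤ 2 := by
    intro i
    refine (MvPolynomial.totalDegree_finsetSum _ _).trans (Finset.sup_le fun k _ => ?_)
    refine (MvPolynomial.totalDegree_finsetSum _ _).trans (Finset.sup_le fun l _ => ?_)
    refine (MvPolynomial.totalDegree_mul _ _).trans ?_
    rw [MvPolynomial.totalDegree_C, zero_add]
    refine (MvPolynomial.totalDegree_mul _ _).trans ?_
    rw [MvPolynomial.totalDegree_X, MvPolynomial.totalDegree_X]
  have hlt : ∑ i, (f i).totalDegree < Fintype.card (Fin r) := by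
    refine lt_of_le_of_lt (Finset.sum_le_sum fun i _ => hdeg i) ?_
    simpa [mul_comm] using hre
  have hev : ∀ c : Fin r → ZMod p, (∀ i, MvPolynomial.eval c (f i) = 0) →
      hm (∑ k, c k • a k : Xs).1 (∑ k, c k • a k : Xs).1 = 0 := by
    intro c hc
    have hsm : ∀ (γ : ZMod p) (z : Vd), γ • z = algebraMap (ZMod p) F γ • z :=
      fun γ z => (algebraMap_smul F γ z).symm
    have hq' : ∀ γ : ZMod p, (algebraMap (ZMod p) F γ) ^ q = algebraMap (ZMod p) F γ := by
      intro γ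
      rw [← map_pow, hqe, ZMod.pow_card_pow]
    have hexp : hm (∑ k, c k • a k : Xs).1 (∑ k, c k • a k : Xs).1 =
        ∑ k, ∑ l, (c k * c l) • hm (a k : Vd) (a l) := by
      simp only [Submodule.coe_sum, Submodule.coe_smul, hsm, H.sum_left, H.smul_left]
      refine Finset.sum_congr rfl fun k _ => ?_
      rw [H.sum_right hF, Finset.mul_sum]
      refine Finset.sum_congr rfl fun l _ => ?_
      rw [H.smul_right, hq', Algebra.smul_def, map_mul]
      ring
    set N := hm (∑ k, c k • a k : Xs).1 (∑ k, c k • a k : Xs).1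
    have h0 : gl N = 0 := by
      rw [b.ext_elem_iff]
      intro i
      rw [hexp]
      simp only [map_sum, map_smul, Finsupp.coe_finsetSum, Finset.sum_apply, Finsupp.coe_smul,
        Pi.smul_apply, smul_eq_mul, map_zero, Finsupp.coe_zero, Pi.zero_apply]
      refine Eq.trans ?_ (hc i)
      simp only [f, map_sum, map_mul, MvPolynomial.eval_C, MvPolynomial.eval_X]
      exact Finset.sum_congr rfl fun k _ => Finset.sum_congr rfl fun l _ => by ring
    have h1 : η * N + (η * N) ^ q = 0 := congrArg (fun z : Fix => (z : F)) h0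
    rw [mul_pow, show N ^ q = N from H.self_fixed _] at h1
    linear_combination h1 - N * hη
  have hdvd := char_dvd_card_solutions_of_fintype_sum_lt p hlt
  obtain ⟨⟨c, hc⟩, hcne⟩ := Fintype.exists_ne_of_one_lt_card (by
      have hpos : 0 < Fintype.card {x : Fin r → ZMod p // ∀ i, MvPolynomial.eval x (f i) = 0} :=
        Fintype.card_pos_iff.2 ⟨⟨0, fun i => by simp [f]⟩⟩
      have := Nat.le_of_dvd hpos (by convert hdvd)
      have := hp.two_le
      omega)
    (⟨0, fun i => by simp [f]⟩ : {x : Fin r → ZMod p // ∀ i, MvPolynomial.eval x (f i) = 0})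
  refine ⟨(∑ k, c k • a k : Xs).1, (hXs _).1 (∑ k, c k • a k : Xs).2, fun h => hcne ?_, hev c hc⟩
  exact Subtype.ext (funext fun k =>
    Fintype.linearIndependent_iff.1 a.linearIndependent c (Subtype.ext h) k)

end Cfsg.Agent.MinIndexU
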