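import Cfsg.Agent.Lib.MinIndexU.Basic
/-
Numbers of totally isotropic subspaces.
* isoC, tiN, tiN_mul_den (product formula), isoC_le_tiN (at least the isotropic points, dimension ≥ 5)
* cmin_ge_pow, tiN_ge_pow; move_ti: SU is transitive on totally isotropic subspaces
-/
set_option autoImplicit false

namespace Cfsg.Agent.MinIndexU

open Cfsg.Agent.Unitary
open scoped Matrix

variable {F : Type*} [Field F] [Fintype F] {q m k : ℕ}

/-- The number of non-zero isotropic vectors. -/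
def isoC (q m : ℕ) : ℕ := if Even m then (q ^ m - 1) * (q ^ (m - 1) + 1) else cmin q m

/-- The number of totally isotropic subspaces of dimension `k`. -/
noncomputable def tiN (F : Type*) [Field F] (q m k : ℕ) : ℕ :=
  Nat.card {W : Submodule F (Fin m → F) // IsTISubspace q k W}

/-- The product of the isotropic counts. -/
def tiP (q m k : ℕ) : ℕ := ∏ i ∈ Finset.range k, isoC q (m - 2 * i)

/-- The denominator. -/
def tiD (q k : ℕ) : ℕ := ∏ i ∈ Finset.range k, ((q ^ 2) ^ (i + 1) - 1)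

theorem ncard_cls_iso (hF : Fintype.card F = q ^ 2) (m : ℕ) :
    (cls m q (0 : F)).ncard = isoC q m := cls_zero_eq hF m

theorem cmin_le_isoC (hq : 2 ≤ q) (hm2 : 1 ≤ m) : cmin q m ≤ isoC q m := by
  unfold isoC
  split
  · obtain ⟨j, rfl⟩ : ∃ j, m = j + 1 := ⟨m - 1, by omega⟩
    simp only [cmin, Nat.add_sub_cancel]
    obtain ⟨A, hA⟩ : ∃ A, q ^ j = A + 1 := ⟨q ^ j - 1, by have := Nat.one_le_pow j q (by omega); omega⟩
    rw [pow_succ', hA]
    obtain ⟨B, hB⟩ : ∃ B, q * (A + 1) = B + 1 := ⟨q * (A + 1) - 1, by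
      have : 1 ≤ q * (A + 1) := Nat.mul_pos (by omega) (by omega)
      omega⟩
    rw [hB, Nat.add_sub_cancel, Nat.add_sub_cancel]
    nlinarith
  · exact le_rfl

theorem cmin_ge_pow (hq : 2 ≤ q) (hm2 : 2 ≤ m) : q ^ (2 * m - 2) ≤ cmin q m := by
  obtain ⟨j, rfl⟩ : ∃ j, m = j + 2 := ⟨m - 2, by omega⟩
  have h : q ^ j ≤ q ^ (j + 1) - 1 := by
    have h1 : 1 ≤ q ^ j := Nat.one_le_pow _ _ (by omega)
    have h2 : 2 * q ^ j ≤ q ^ (j + 1) := by rw [pow_succ']; exact Nat.mul_le_mul_right _ hq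
    omega
  calc q ^ (2 * (j + 2) - 2) = q ^ (j + 2) * q ^ j := by
        rw [← pow_add]; congr 1; omega
    _ ≤ (q ^ (j + 2) + 1) * (q ^ (j + 1) - 1) := Nat.mul_le_mul (Nat.le_succ _) h

theorem tiD_pos (hq : 2 ≤ q) (k : ℕ) : 0 < tiD q k :=
  Finset.prod_pos fun i _ => Nat.sub_pos_of_lt (Nat.one_lt_pow (Nat.succ_ne_zero i)
    (Nat.one_lt_pow two_ne_zero hq))

theorem tiD_succ (q k : ℕ) : tiD q (k + 1) = tiD q k * ((q ^ 2) ^ (k + 1) - 1) :=
  Finset.prod_range_succ _ _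

theorem tiP_succ' (q m k : ℕ) : tiP q m (k + 1) = tiP q (m - 2) k * isoC q m := by
  rw [tiP, Finset.prod_range_succ', tiP]
  congr 1
  refine Finset.prod_congr rfl fun i _ => ?_
  congr 1
  omega

theorem tiN_mul_den (hF : Fintype.card F = q ^ 2) (hk : 2 * k ≤ m) :
    tiN F q m k * tiD q k = tiP q m k := by
  have hQ : 1 < q ^ 2 := Nat.one_lt_pow two_ne_zero (two_le_q hF)
  induction k with
  | zero =>
    have e := card_tiTuple_eq (F := F) (q := q) (n := m) (k := 0) hF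
    have : Nat.card {w : Fin 0 → (Fin m → F) // IsTI q w} = 1 := by
      rw [Nat.card_eq_one_iff_exists]
      exact ⟨⟨Fin.elim0, linearIndependent_empty_type, fun i => i.elim0⟩,
        fun b => Subtype.ext (Subsingleton.elim _ _)⟩
    rw [this] at e
    simp [tiD, tiP, tiN] at e ⊢
    omega
  | succ j ih =>
    have hs := card_tiTuple_succ (F := F) (n := m) (k := j) hF (by omega)
    rw [card_tiTuple_eq hF, card_tiTuple_eq hF,
      show normCount (m - 2 * j) q (0 : F) - 1 = isoC q (m - 2 * j) by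
        rw [← ncard_cls_zero hF, ncard_cls_iso hF]] at hs
    have hprod : ∏ i : Fin (j + 1), ((q ^ 2) ^ (j + 1) - (q ^ 2) ^ (i : ℕ)) =
        ((q ^ 2) ^ (j + 1) - 1) * ((q ^ 2) ^ j * ∏ i : Fin j, ((q ^ 2) ^ j - (q ^ 2) ^ (i : ℕ))) := by
      rw [Fin.prod_univ_succ]
      congr 1
      simp only [Fin.val_succ]
      simp only [pow_succ' (q ^ 2), ← Nat.mul_sub_left_distrib]
      rw [Finset.prod_mul_distrib, Finset.prod_const, Finset.card_univ, Fintype.card_fin]
    have hpos : 0 < (q ^ 2) ^ j * ∏ i : Fin j, ((q ^ 2) ^ j - (q ^ 2) ^ (i : ℕ)) :=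
      Nat.mul_pos (Nat.pow_pos (by omega))
        (Finset.prod_pos fun i _ => Nat.sub_pos_of_lt (Nat.pow_lt_pow_right hQ i.2))
    rw [hprod] at hs
    have h2 : tiN F q m (j + 1) * ((q ^ 2) ^ (j + 1) - 1) = tiN F q m j * isoC q (m - 2 * j) := by
      apply Nat.eq_of_mul_eq_mul_right hpos
      unfold tiN
      linear_combination hs
    calc tiN F q m (j + 1) * tiD q (j + 1)
        = tiN F q m (j + 1) * ((q ^ 2) ^ (j + 1) - 1) * tiD q j := by rw [tiD_succ]; ring
      _ = tiN F q m j * tiD q j * isoC q (m - 2 * j) := by rw [h2]; ring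
      _ = tiP q m (j + 1) := by rw [ih (by omega)]; exact (Finset.prod_range_succ _ _).symm

theorem tiN_one (hF : Fintype.card F = q ^ 2) (hm2 : 2 ≤ m) :
    tiN F q m 1 * (q ^ 2 - 1) = isoC q m := by
  simpa [tiD, tiP] using tiN_mul_den (F := F) (k := 1) hF (show 2 * 1 ≤ m by omega)

theorem tiD_le_tiP (hq : 2 ≤ q) {j m : ℕ} (h : (1 ≤ j ∧ 2 * j + 1 ≤ m) ∨ (2 ≤ j ∧ m = 2 * j)) :
    tiD q (j + 1) ≤ tiP q m j * (q ^ 2 - 1) := by
  induction j generalizing m with
  | zero => omega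
  | succ j ih =>
    by_cases hbase : j = 0 ∨ (j = 1 ∧ m = 4)
    · rcases hbase with rfl | ⟨rfl, rfl⟩
      · have h3 : 3 ≤ m := by omega
        have h4 : (q ^ 2) ^ 2 - 1 ≤ isoC q m := by
          refine le_trans (le_trans ?_ (cmin_ge_pow hq (show 2 ≤ m by omega)))
            (cmin_le_isoC hq (by omega))
          refine (Nat.sub_le _ _).trans ?_
          rw [← pow_mul]
          exact Nat.pow_le_pow_right (by omega) (by omega)
        simp only [tiD, tiP, zero_add, Finset.prod_range_succ, Finset.prod_range_zero, one_mul,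
          pow_one, Nat.mul_zero, Nat.sub_zero]
        rw [mul_comm]
        exact Nat.mul_le_mul_right _ h4
      · simp [tiD, tiP, Finset.prod_range_succ, isoC, show Even 4 by decide]
        have h2 : 4 ≤ q ^ 2 := Nat.pow_le_pow_left hq 2
        have e1 : (q ^ 2) ^ 2 = q ^ 4 := by ring
        have e2 : (q ^ 2) ^ 3 - 1 = (q ^ 3 + 1) * (q ^ 3 - 1) := by
          rw [← pow_mul, show 2 * 3 = 3 * 2 by rfl, pow_mul]
          simpa using Nat.sq_sub_sq (q ^ 3) 1
        have h3 : (q ^ 3 - 1) ≤ (q ^ 2 - 1) * (q + 1) := by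
          obtain ⟨r, rfl⟩ : ∃ r, q = r + 1 := ⟨q - 1, by omega⟩
          have a1 : 1 ≤ (r + 1) ^ 2 := Nat.one_le_pow _ _ (by omega)
          have a2 : 1 ≤ (r + 1) ^ 3 := Nat.one_le_pow _ _ (by omega)
          zify [a1, a2]
          nlinarith
        rw [e1, e2]
        calc (q ^ 2 - 1) * (q ^ 4 - 1) * ((q ^ 3 + 1) * (q ^ 3 - 1))
            ≤ (q ^ 2 - 1) * (q ^ 4 - 1) * ((q ^ 3 + 1) * ((q ^ 2 - 1) * (q + 1))) := by gcongr
          _ = _ := by ring
    · have hj : 1 ≤ j := by omega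
      rw [tiD_succ, tiP_succ']
      have h1 := ih (m := m - 2) (by omega)
      have h2 : (q ^ 2) ^ (j + 1 + 1) - 1 ≤ isoC q m := by
        refine le_trans (le_trans ?_ (cmin_ge_pow hq (show 2 ≤ m by omega)))
          (cmin_le_isoC hq (by omega))
        refine (Nat.sub_le _ _).trans ?_
        rw [← pow_mul]
        exact Nat.pow_le_pow_right (by omega) (by omega)
      calc tiD q (j + 1) * ((q ^ 2) ^ (j + 1 + 1) - 1)
          ≤ tiP q (m - 2) j * (q ^ 2 - 1) * isoC q m := Nat.mul_le_mul h1 h2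
        _ = _ := by ring

theorem isoC_le_tiN (hF : Fintype.card F = q ^ 2) (hm5 : 5 ≤ m) (hk1 : 1 ≤ k) (hk : 2 * k ≤ m) :
    isoC q m ≤ tiN F q m k * (q ^ 2 - 1) := by
  rcases Nat.eq_or_lt_of_le hk1 with rfl | hk2
  · exact (tiN_one hF (by omega)).ge
  obtain ⟨j, rfl⟩ : ∃ j, k = j + 1 := ⟨k - 1, by omega⟩
  have hq := two_le_q hF
  refine Nat.le_of_mul_le_mul_right ?_ (tiD_pos hq (j + 1))
  calc isoC q m * tiD q (j + 1) ≤ isoC q m * (tiP q (m - 2) j * (q ^ 2 - 1)) :=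
        Nat.mul_le_mul_left _ (tiD_le_tiP hq (by omega))
    _ = tiP q m (j + 1) * (q ^ 2 - 1) := by rw [tiP_succ']; ring
    _ = _ := by rw [← tiN_mul_den (F := F) hF hk]; ring

/-- The bound needed for totally isotropic translates. -/
theorem tiN_ge_pow (hF : Fintype.card F = q ^ 2) (hm4 : 4 ≤ m) (hk2 : 2 ≤ k) (hk : 2 * k ≤ m) :
    (q + 2) * q ^ m ≤ (q + 1) * tiN F q m k := by
  have hq := two_le_q hF
  have h4 : 4 ≤ q ^ 2 := Nat.pow_le_pow_left hq 2
  rcases Nat.eq_or_lt_of_le hm4 with rfl | hm5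
  · obtain rfl : k = 2 := by omega
    have h := tiN_mul_den (F := F) (k := 2) hF hk
    simp [tiD, tiP, Finset.prod_range_succ, isoC, show Even 4 by decide] at h
    have e1 : (q ^ 2) ^ 2 = q ^ 4 := by ring
    rw [e1] at h
    have h2 : tiN F q 4 2 = (q ^ 3 + 1) * (q + 1) := by
      have hpos : 0 < (q ^ 2 - 1) * (q ^ 4 - 1) :=
        Nat.mul_pos (by omega) (Nat.sub_pos_of_lt (Nat.one_lt_pow (by omega) hq))
      apply Nat.eq_of_mul_eq_mul_right hpos
      rw [h]; ring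
    rw [h2]
    calc (q + 2) * q ^ 4 ≤ (q ^ 2 + 2 * q + 1) * q ^ 3 := by
          rw [show (q + 2) * q ^ 4 = (q ^ 2 + 2 * q) * q ^ 3 by ring]
          exact Nat.mul_le_mul_right _ (by omega)
      _ ≤ _ := by
          rw [show (q + 1) * ((q ^ 3 + 1) * (q + 1)) = (q ^ 2 + 2 * q + 1) * (q ^ 3 + 1) by ring]
          exact Nat.mul_le_mul_left _ (Nat.le_succ _)
  · refine Nat.le_of_mul_le_mul_right ?_ (show 0 < q ^ 2 - 1 by omega)
    calc (q + 2) * q ^ m * (q ^ 2 - 1) ≤ (q + 2) * q ^ m * q ^ 2 :=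
          Nat.mul_le_mul_left _ (Nat.sub_le _ _)
      _ = q ^ (m + 2) * (q + 2) := by ring
      _ ≤ (q + 1) * q ^ (2 * m - 2) := by
          obtain ⟨j, rfl⟩ : ∃ j, m = j + 5 := ⟨m - 5, by omega⟩
          rw [show 2 * (j + 5) - 2 = (j + 5 + 2) + (j + 1) by omega, pow_add q (j + 5 + 2) (j + 1),
            show (q + 1) * (q ^ (j + 5 + 2) * q ^ (j + 1)) = q ^ (j + 5 + 2) * ((q + 1) * q ^ (j + 1)) by
              ring]
          refine Nat.mul_le_mul_left _ ?_
          calc q + 2 ≤ (q + 1) * q ^ 1 := by rw [pow_one]; nlinarith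
            _ ≤ _ := Nat.mul_le_mul_left _ (Nat.pow_le_pow_right (by omega) (by omega))
      _ ≤ (q + 1) * (tiN F q m k * (q ^ 2 - 1)) :=
          Nat.mul_le_mul_left _ (((cmin_ge_pow hq (by omega)).trans
            (cmin_le_isoC hq (by omega))).trans (isoC_le_tiN hF hm5 (by omega) hk))
      _ = _ := by ring

/-- SU is transitive on totally isotropic subspaces. -/
theorem move_ti (hF : Fintype.card F = q ^ 2) (hm1 : 1 ≤ m) (hk : 2 * k ≤ m)
    {W U : Submodule F (Fin m → F)} (hW : IsTISubspace q k W) (hU : IsTISubspace q k U) :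
    ∃ g : Cfsg.SU m F q, suAct g '' (W : Set (Fin m → F)) = U := by
  let b := Module.finBasisOfFinrankEq F W hW.1
  let b' := Module.finBasisOfFinrankEq F U hU.1
  obtain ⟨g, hg⟩ := exists_gu_witt hF (u := fun i => (b i : Fin m → F))
    (w := fun i => (b' i : Fin m → F))
    (b.linearIndependent.map' _ (Submodule.ker_subtype _))
    (b'.linearIndependent.map' _ (Submodule.ker_subtype _))
    (fun i j => by rw [hW.2 _ (b i).2 _ (b j).2, hU.2 _ (b' i).2 _ (b' j).2])
  have hu : (detHom m F q g)⁻¹ ∈ (powMonoidHom (q + 1) : Fˣ →* Fˣ).ker := by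
    rw [← detHom_range hF hm1]; exact inv_mem ⟨g, rfl⟩
  obtain ⟨s, hs, hsd⟩ := tiStab_det_surj hF hm1 hk hW hu
  obtain ⟨a, ha⟩ : g * s ∈ (suToGU m F q).range := by
    rw [range_suToGU, MonoidHom.mem_ker, map_mul, hsd, mul_inv_cancel]
  refine ⟨a, ?_⟩
  let M : Cfsg.GU m F q → Matrix (Fin m) (Fin m) F := fun h =>
    ((h : Matrix.GeneralLinearGroup (Fin m) F) : Matrix (Fin m) (Fin m) F)
  have e : ∀ x, suAct a x = M g *ᵥ (M s *ᵥ x) := fun x => by
    have : M (suToGU m F q a) = M g * M s := by rw [ha]; rfl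
    rw [Matrix.mulVec_mulVec, ← this]; rfl
  have hmap : W.map (Matrix.mulVecLin (M g)) = U := by
    conv_lhs => rw [← Submodule.map_subtype_top W, ← b.span_eq]
    conv_rhs => rw [← Submodule.map_subtype_top U, ← b'.span_eq]
    rw [Submodule.map_span, Submodule.map_span, Submodule.map_span, ← Set.range_comp,
      ← Set.range_comp, ← Set.range_comp]
    congr 2
    funext i
    exact hg i
  ext y
  rw [SetLike.mem_coe, ← hmap, Submodule.mem_map]
  constructor
  · rintro ⟨x, hx, rfl⟩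
    exact ⟨M s *ᵥ x, (hs x).1 hx, (e x).symm⟩
  · rintro ⟨x, hx, rfl⟩
    obtain ⟨z, rfl⟩ := Matrix.mulVec_surjective_iff_isUnit.2
      (Units.isUnit (s : Matrix.GeneralLinearGroup (Fin m) F)) x
    exact ⟨z, (hs z).2 hx, e z⟩

end Cfsg.Agent.MinIndexU
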