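import Cfsg.Agent.Lib.MinIndexU.ThreePlane
import Cfsg.Agent.Lib.SUThreeInv.Basic
/-
A point with a full torus and no radical elements is impossible.
* caseA_three, caseA
-/
set_option autoImplicit false

namespace Cfsg.Agent.MinIndexU

open Cfsg.Agent.Unitary
open Cfsg.Agent.SUMinDegree
open scoped Matrix

variable {F : Type*} [Field F] [Fintype F]

section Three

variable {Ω : Type*} [MulAction (Cfsg.SU (2 + 1) F 3) Ω] [Finite Ω]

/-- Nine-element field: an element of order seven fixing a point fixes a line. -/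
theorem caseA_three (hF : Fintype.card F = 3 ^ 2)
    (htr : ∀ x y : Ω, ∃ g : Cfsg.SU (2 + 1) F 3, g • x = y) (hN : Nat.card Ω ≤ 3 ^ 3) {ω : Ω}
    (hT : Nat.card (pointLine hF ω) = 8) : False := by
  classical
  have H := hermForm_isHerm hF (2 + 1)
  have hH := card_stabilizer_eq hF htr hN ω
  rw [hT] at hH
  set S := MulAction.stabilizer (Cfsg.SU (2 + 1) F 3) ω
  replace hH : Nat.card S = 224 := hH.trans (by norm_num)
  have : Fact (Nat.Prime 7) := ⟨by norm_num⟩
  obtain ⟨P⟩ : Nonempty (Sylow 7 S) := inferInstance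
  have hP : Nat.card P = 7 := by
    rw [P.card_eq_multiplicity, hH]
    have : (224 : ℕ).factorization 7 = 1 := by
      rw [show (224 : ℕ) = 7 * 32 by norm_num, Nat.factorization_mul (by norm_num) (by norm_num)]
      simp [Nat.Prime.factorization_self (by norm_num : Nat.Prime 7),
        Nat.factorization_eq_zero_of_not_dvd (by norm_num : ¬ 7 ∣ 32)]
    norm_num [this]
  set P' : Subgroup S := (P : Subgroup S)
  have hn : Nat.card (Sylow 7 S) ∣ 32 := by
    have h := P.card_dvd_index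
    have h' := P'.card_mul_index
    rw [show Nat.card P' = 7 from hP, hH] at h'
    rwa [show P'.index = 32 by omega] at h
  have hn' : Nat.card (Sylow 7 S) = 1 ∨ Nat.card (Sylow 7 S) = 8 := by
    have h7 := card_sylow_modEq_one 7 S
    have hd : Nat.card (Sylow 7 S) ∈ (Nat.divisors 32).filter (fun n => n % 7 = 1) :=
      Finset.mem_filter.2 ⟨Nat.mem_divisors.2 ⟨hn, by norm_num⟩, h7⟩
    rw [show (Nat.divisors 32).filter (fun n => n % 7 = 1) = {1, 8} by decide +kernel] at hd
    simpa using hd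
  set N := Subgroup.normalizer (P' : Set S)
  have hfour : 4 ∣ Nat.card N := by
    have h : Nat.card (Sylow 7 S) = N.index := P.card_eq_index_normalizer
    have h' := N.card_mul_index
    rw [← h, hH] at h'
    rcases hn' with e | e <;> rw [e] at h' <;> omega
  have hcyc : IsCyclic P' := isCyclic_of_prime_card hP
  -- an involution centralising the group of order seven
  let f := Subgroup.normalizerMonoidHom P'
  have heven : 2 ∣ Nat.card f.ker := by
    have h := f.ker.card_mul_index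
    rw [Subgroup.index_ker] at h
    have hd : Nat.card f.range ∣ 6 := by
      refine (Subgroup.card_subgroup_dvd_card _).trans (dvd_of_eq ?_)
      rw [Nat.card_congr (IsCyclic.mulAutMulEquiv P').toEquiv, Nat.card_eq_fintype_card, ZMod.card_units_eq_totient,
        hP, Nat.totient_prime (by norm_num)]
    rw [← h] at hfour
    by_contra h2
    have hc : Nat.Coprime 4 (Nat.card f.ker) :=
      Nat.Coprime.pow_left 2 (Nat.prime_two.coprime_iff_not_dvd.2 h2)
    have := (hc.dvd_of_dvd_mul_left hfour).trans hd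
    norm_num at this
  obtain ⟨y, hy⟩ := exists_prime_orderOf_dvd_card' (G := f.ker) 2 heven
  obtain ⟨x, hx⟩ := exists_prime_orderOf_dvd_card' (G := P') 7 (by rw [hP])
  set x' := ((x : S) : Cfsg.SU (2 + 1) F 3)
  set y' := (((y : N) : S) : Cfsg.SU (2 + 1) F 3)
  have hx' : orderOf x' = 7 := by rw [Subgroup.orderOf_coe, Subgroup.orderOf_coe, hx]
  have hy' : orderOf y' = 2 := by rw [Subgroup.orderOf_coe, Subgroup.orderOf_coe, Subgroup.orderOf_coe, hy]
  have hxy : x' * y' = y' * x' := by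
    have h := (Subgroup.normalizerMonoidHom_ker P').le y.2
    rw [Subgroup.mem_subgroupOf, Subgroup.mem_centralizer_iff] at h
    exact congrArg Subtype.val (h x x.2)
  have hy1 : y' ≠ 1 := fun e => by rw [e, orderOf_one] at hy'; omega
  have hy2 : y' * y' = 1 := by
    have := pow_orderOf_eq_one y'
    rwa [hy', sq] at this
  obtain ⟨v, hv, hyv⟩ := SUThreeInv.exists_eq_refl (by decide) hF y' hy1 hy2
  have hact : ∀ w, suAct y' w = (2 * Cfsg.hermForm (2 + 1) F 3 w v) • v - w := by
    intro w; rw [hyv]; exact SUThreeInv.refl_mulVec v w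
  have h2 : (2 : F) ≠ 0 := SUThreeInv.two_ne_zero_of_odd (by decide) hF
  have hyvv : suAct y' v = v := by
    rw [hact, hv, mul_one, two_smul, add_sub_cancel_right]
  set c := Cfsg.hermForm (2 + 1) F 3 (suAct x' v) v
  have hxv : suAct x' v = c • v := by
    have h := hact (suAct x' v)
    rw [← suAct_mul, ← hxy, suAct_mul, hyvv] at h
    have h' : (2 : F) • suAct x' v = (2 : F) • (c • v) := by
      rw [two_smul, smul_smul]
      nth_rewrite 1 [h]
      abel
    exact smul_right_injective _ h2 h'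
  have hv0 : v ≠ 0 := SUThreeInv.ne_zero_of_norm_one hF hv
  have hc7 : c ^ 7 = 1 := by
    have key : ∀ n : ℕ, suAct (x' ^ n) v = c ^ n • v := by
      intro n
      induction n with
      | zero => rw [pow_zero, pow_zero, suAct_one, one_smul]
      | succ n ih => rw [pow_succ, suAct_mul, hxv, suAct_smul, ih, smul_smul, pow_succ']
    have h := key 7
    rw [show x' ^ 7 = 1 by rw [← hx', pow_orderOf_eq_one], suAct_one] at h
    exact smul_left_injective F hv0 (h.symm.trans (one_smul F v).symm)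
  have hc1 : c = 1 := by
    have hc0 : c ≠ 0 := fun e => by rw [e, zero_pow (by norm_num)] at hc7; exact zero_ne_one hc7
    have h8 := FiniteField.pow_card_sub_one_eq_one c hc0
    rw [hF] at h8
    norm_num at h8
    rw [pow_succ, hc7, one_mul] at h8
    exact h8
  obtain ⟨L, hL⟩ := exists_fixed_line_of_fixed_vec hF (r := 7)
    (by rw [← hx', pow_orderOf_eq_one]) (by norm_num) hv0 (by rw [hxv, hc1, one_smul])
  exact no_fixed_line hF htr hN (x : S).2 (by rw [hT, hx']; norm_num) L hL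

end Three

variable {q : ℕ} (hF : Fintype.card F = q ^ 2)

local notation "h3" => Cfsg.hermForm (2 + 1) F q
local notation "G3" => Cfsg.SU (2 + 1) F q

variable {Ω : Type*} [MulAction (Cfsg.SU (2 + 1) F q) Ω] [Finite Ω]

include hF in
/-- No point has a full torus and nothing else. -/
theorem caseA (hq3 : 3 ≤ q) (h5 : q ≠ 5) (htr : ∀ x y : Ω, ∃ g : G3, g • x = y)
    (hN : Nat.card Ω ≤ q ^ 3) {ω : Ω} (hZ : Zof hF 1 ω = ⊥) (hX : Nat.card (Xof hF 1 ω) = 1)
    (hT : Nat.card (pointLine hF ω) = q ^ 2 - 1)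
    (hlift : ∀ κ : F, κ ^ (q ^ 2 - 1) = 1 → ∃ l ∈ lev hF 1, l • ω = ω ∧ kap hF l = κ) : False := by
  classical
  have H := hermForm_isHerm hF (2 + 1)
  have hX0 : Xof hF 1 ω = ⊥ := AddSubgroup.eq_bot_of_card_eq _ hX
  have hall : ∀ κ : F, κ ≠ 0 → κ ^ (q ^ 2 - 1) = 1 := fun κ hκ => by
    have := FiniteField.pow_card_sub_one_eq_one κ hκ
    rwa [hF] at this
  have hlev : ∀ l ∈ lev hF 1, l • ω = ω := by
    intro l hl
    obtain ⟨l', hl', hω', hk⟩ := hlift _ (hall _ (kap_spec hl).2)
    rwa [← lev_ext hF hl' hl hk]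
  have hTlev : ∀ g : G3, g • ω = ω → g • vaLine hF = vaLine hF → g ∈ lev hF 1 := by
    intro g hg hgL
    have hgT : g ∈ pointLine hF ω := ⟨hgL, hg⟩
    obtain ⟨l, hl, hlω, hk⟩ := hlift _ (hall _ (kap_ne_zero hF hgT.1))
    obtain ⟨⟨w, z, he⟩, hω'⟩ := ratio_radQ hF hgT (l := l) ⟨lev_le_lineStab hF hl, hlω⟩ hk.symm
    have hw : w ∈ Xof hF 1 ω := ⟨_, z, he, hω'⟩
    rw [hX0, AddSubgroup.mem_bot] at hw
    subst hw
    have hz : z ∈ Zof hF 1 ω := ⟨_, he, hω'⟩
    rw [hZ, AddSubgroup.mem_bot] at hz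
    subst hz
    rwa [mul_inv_eq_one.1 (he.unique isE_one)]
  obtain ⟨κ0, hκ0, hκn⟩ : ∃ κ : F, κ ≠ 0 ∧ κ ^ (q + 1) ≠ 1 := by
    by_contra! h
    have hle : ({k : F | k ≠ 0}).ncard ≤ ({k : F | k ^ (q + 1) = 1}).ncard :=
      Set.ncard_le_ncard fun k hk => h k hk
    rw [card_nonzero hF, ← Nat.card_coe_set_eq] at hle
    change _ ≤ Nat.card {x : F // x ^ (q + 1) = 1} at hle
    rw [card_norm_one hF] at hle
    have : 3 * q ≤ q ^ 2 := by rw [sq]; exact Nat.mul_le_mul_right _ hq3
    omega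
  obtain ⟨l0, hl0, hl0ω, hl0k⟩ := hlift κ0 (hall κ0 hκ0)
  have hfp : ∀ L : IsoLine (2 + 1) F q, (∀ v ∈ L.1, h3 v (eW F) = 0) → l0 • L = L →
      L = vaLine hF ∨ L = ptLine hF 0 := fun L hL h => lev_fix_plane hF hl0 (by rwa [hl0k]) hL h
  -- transitivity on the plane
  obtain ⟨ρ, hρ, hρω, hρn, hρc⟩ : ∃ ρ ∈ lev hF 1, ρ • ω = ω ∧ kap hF ρ ^ (q + 1) = 1 ∧
      kap hF ρ ^ 3 ≠ 1 := by
    obtain ⟨k, hkn, hk3⟩ : ∃ k : F, k ^ (q + 1) = 1 ∧ k ^ 3 ≠ 1 := by
      by_contra! h
      have h4 : Nat.card {x : F // x ^ (q + 1) = 1} ≤ Nat.card (Polynomial.nthRootsFinset 3 (1 : F)) :=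
        Nat.card_le_card_of_injective (fun x => ⟨x.1, (Polynomial.mem_nthRootsFinset (by norm_num) _).2 (h _ x.2)⟩)
          fun a b e => Subtype.ext (congrArg Subtype.val e :)
      rw [card_norm_one hF, Nat.card_eq_finsetCard] at h4
      have h5' : (Polynomial.nthRootsFinset 3 (1 : F)).card ≤ 3 := by
        rw [Polynomial.nthRootsFinset_def]
        exact (Multiset.toFinset_card_le _).trans (Polynomial.card_nthRoots 3 1)
      omega
    have hk0 : k ≠ 0 := fun e => by rw [e, zero_pow (by omega)] at hkn; exact zero_ne_one hkn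
    obtain ⟨l, hl, hlω, hlk⟩ := hlift k (hall k hk0)
    exact ⟨l, hl, hlω, by rwa [hlk], by rwa [hlk]⟩
  have hmove : ∀ L : IsoLine (2 + 1) F q, (∀ v ∈ L.1, h3 v (eW F) = 0) →
      ∃ a : G3, a • ω = ω ∧ a ∈ poleStab F q ∧ a • vaLine hF = L := fun L hL =>
    exists_mover hF htr hN hZ hρ hρω hρn hρc (fun x hx => by
      rw [hX0, AddSubgroup.mem_bot] at hx
      exact ⟨0, zero_mem _, by rw [hx, smul_zero, add_zero, sub_zero]⟩) hL
  -- partners
  let Par : IsoLine (2 + 1) F q → IsoLine (2 + 1) F q → Prop :=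
    fun L M => ∀ y : G3, y • ω = ω → y • L = L → y • M = M
  have htrans : ∀ g : G3, g • ω = ω → ∀ L M, Par L M → Par (g • L) (g • M) := by
    intro g hg L M h y hy hyL
    have := h (g⁻¹ * y * g) (by rw [mul_smul, mul_smul, hg, hy, inv_smul_eq_iff, hg])
      (by rw [mul_smul, mul_smul, hyL, inv_smul_smul])
    rwa [mul_smul, mul_smul, inv_smul_eq_iff] at this
  have huniq : ∀ L M M' : IsoLine (2 + 1) F q, (∀ v ∈ L.1, h3 v (eW F) = 0) →
      (∀ v ∈ M.1, h3 v (eW F) = 0) → (∀ v ∈ M'.1, h3 v (eW F) = 0) → M ≠ L → M' ≠ L →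
      Par L M → Par L M' → M = M' := by
    intro L M M' hL hM hM' hne hne' hP hP'
    obtain ⟨a, haω, hap, haL⟩ := hmove L hL
    have key : ∀ M : IsoLine (2 + 1) F q, (∀ v ∈ M.1, h3 v (eW F) = 0) → M ≠ L → Par L M →
        M = a • ptLine hF 0 := by
      intro M hM hne hP
      have h := hP (a * l0 * a⁻¹) (by rw [mul_smul, mul_smul, inv_smul_eq_iff.2 haω.symm, hl0ω, haω])
        (by rw [← haL, mul_smul, mul_smul, inv_smul_smul, lev_le_lineStab hF hl0])
      rw [mul_smul, mul_smul, ← eq_inv_smul_iff] at h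
      rcases hfp _ (inPlane_smul hF (inv_mem hap) hM) h with e | e
      · exact absurd (by rw [← haL, ← inv_smul_eq_iff.1 e]) hne
      · exact inv_smul_eq_iff.1 e
    rw [key M hM hne hP, key M' hM' hne' hP']
  have hvp : Par (vaLine hF) (ptLine hF 0) := fun y hy hyL => lev_fix_zero hF (hTlev y hy hyL)
  have hpv : Par (ptLine hF 0) (vaLine hF) := by
    obtain ⟨b, hbω, hbp, hbL⟩ := hmove _ (ptLine_inPlane hF 0)
    have h := htrans b hbω _ _ hvp
    rw [hbL] at h
    have h' : l0 • (b • ptLine hF 0) = b • ptLine hF 0 := h l0 hl0ω (lev_fix_zero hF hl0)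
    rcases hfp _ (inPlane_smul hF hbp (ptLine_inPlane hF 0)) h' with e | e
    · rwa [e] at h
    · exact absurd (MulAction.injective b (e.trans hbL.symm)) (ptLine_ne hF 0)
  -- the partner of a point
  obtain ⟨a, haω, hap, haL⟩ := hmove _ (ptLine_inPlane hF 1)
  have hPa : Par (ptLine hF 1) (a • ptLine hF 0) := haL ▸ htrans a haω _ _ hvp
  have hPa' : Par (a • ptLine hF 0) (ptLine hF 1) := haL ▸ htrans a haω _ _ hpv
  have hne1 : a • ptLine hF 0 ≠ ptLine hF 1 := fun e =>
    ptLine_ne hF 0 (MulAction.injective a (e.trans haL.symm))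
  have hbad : a • ptLine hF 0 ≠ vaLine hF ∧ a • ptLine hF 0 ≠ ptLine hF 0 := by
    have key : ∀ M : IsoLine (2 + 1) F q, (M = vaLine hF ∨ M = ptLine hF 0) →
        a • ptLine hF 0 = M → False := by
      intro M hM e
      set y := a * l0 * a⁻¹
      have hy : y • ω = ω := by rw [mul_smul, mul_smul, inv_smul_eq_iff.2 haω.symm, hl0ω, haω]
      have hyM : y • M = M := by
        rw [← e, mul_smul, mul_smul, inv_smul_smul, lev_fix_zero hF hl0]
      have hboth : y • vaLine hF = vaLine hF ∧ y • ptLine hF 0 = ptLine hF 0 := by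
        rcases hM with rfl | rfl
        exacts [⟨hyM, hvp y hy hyM⟩, ⟨hpv y hy hyM, hyM⟩]
      have hother : ∀ M' : IsoLine (2 + 1) F q, (∀ v ∈ M'.1, h3 v (eW F) = 0) → y • M' = M' →
          M' = ptLine hF 1 ∨ M' = M := by
        intro M' hM' h
        rw [mul_smul, mul_smul, ← eq_inv_smul_iff] at h
        rcases hfp _ (inPlane_smul hF (inv_mem hap) hM') h with e' | e'
        · exact Or.inl ((inv_smul_eq_iff.1 e').trans haL)
        · exact Or.inr ((inv_smul_eq_iff.1 e').trans e)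
      rcases hother _ (vaLine_inPlane hF) hboth.1 with e1 | e1
      · exact ptLine_ne hF 1 e1.symm
      rcases hother _ (ptLine_inPlane hF 0) hboth.2 with e2 | e2
      · exact zero_ne_one (ptLine_injective hF e2)
      exact ptLine_ne hF 0 (e2.trans e1.symm)
    exact ⟨key _ (Or.inl rfl), key _ (Or.inr rfl)⟩
  obtain ⟨σ, hσ⟩ : ∃ σ, a • ptLine hF 0 = ptLine hF σ :=
    (plane_cases hF (inPlane_smul hF hap (ptLine_inPlane hF 0))).resolve_left hbad.1
  rw [hσ] at hne1 hPa hPa'
  have hσ0 : σ ≠ 0 := fun e => hbad.2 (by rw [hσ, e])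
  have hσ1 : σ ≠ 1 := fun e => hne1 (by rw [e])
  have hscale : ∀ c : fixF hF, c ≠ 0 → Par (ptLine hF c) (ptLine hF (c * σ)) := by
    intro c hc
    obtain ⟨s, hs⟩ := exists_norm_eq hF ((mem_fixF hF).1 c.2)
    have hs0 : s ≠ 0 := fun e => hc (Subtype.ext (by rw [← hs, e, zero_pow (Nat.succ_ne_zero q)]; rfl))
    obtain ⟨l, hl, hlk⟩ := exists_lev_kap (hF := hF) (d := 1) le_rfl hs0
    have h := htrans l (hlev l hl) _ _ hPa
    rwa [lev_ptLine hF hl (r := 1) (r' := c) (by rw [hlk, hs]; simp),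
      lev_ptLine hF hl (r := σ) (r' := c * σ) (by rw [hlk, hs]; simp)] at h
  have hσm : σ = -1 := by
    have h := huniq _ _ _ (ptLine_inPlane hF σ) (ptLine_inPlane hF 1) (ptLine_inPlane hF (σ * σ))
      hne1.symm (fun e => hσ1 (mul_left_cancel₀ hσ0 ((ptLine_injective hF e).trans (mul_one σ).symm)))
      hPa' (hscale σ hσ0)
    exact ((mul_self_eq_one_iff.1 (ptLine_injective hF h).symm).resolve_left hσ1)
  subst hσm
  have h2 : (2 : F) ≠ 0 := fun h => hσ1 (Subtype.ext (by
    show -(1 : F) = 1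
    linear_combination -h))
  -- the images of the other points
  have hs0 := skw_ne hF
  obtain ⟨μ, hμ⟩ : ∃ μ : F, μ • (((1 : fixF hF) : F) * skw hF) • va hF 1 + μ • vb hF 1 = suAct a (va hF 1) := by
    have h := haL
    rw [vaLine, ptLine, IsoLine.smul_mk] at h
    obtain ⟨c, hc⟩ := IsoLine.mk_eq_iff.1 h
    exact ⟨c, by rw [← hc, smul_add]⟩
  obtain ⟨ν, hν⟩ : ∃ ν : F, ν • (((-1 : fixF hF) : F) * skw hF) • va hF 1 + ν • vb hF 1 = suAct a (vb hF 1) := by
    have h := hσ
    rw [ptLine, ptLine, IsoLine.smul_mk] at h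
    obtain ⟨c, hc⟩ := IsoLine.mk_eq_iff.1 h
    refine ⟨c, ?_⟩
    rw [← smul_add, hc]
    simp
  have hν0 : ν ≠ 0 := fun e => by
    rw [e, zero_smul, zero_smul, add_zero] at hν
    exact suAct_ne_zero a (fun h => by simpa [h, H.zero_left] using vb_va hF (d := 1)) hν.symm
  have hμ0 : μ ≠ 0 := fun e => by
    rw [e, zero_smul, zero_smul, add_zero] at hμ
    exact suAct_ne_zero a (va_ne_zero hF) hμ.symm
  set τ := skw hF * μ / ν with hτdef
  have himage : ∀ x : fixF hF, a • ptLine hF x = vaLine hF ∧ τ * x = -1 ∨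
      ∃ y : fixF hF, a • ptLine hF x = ptLine hF y ∧ (y : F) * (τ * x + 1) = τ * x - 1 := by
    intro x
    have hvec : suAct a (((x : F) * skw hF) • va hF 1 + vb hF 1) =
        (ν * (τ * x - 1) * skw hF) • va hF 1 + (ν * (τ * x + 1)) • vb hF 1 := by
      rw [suAct_add, suAct_smul, ← hμ, ← hν, hτdef]
      simp only [OneMemClass.coe_one, NegMemClass.coe_neg, smul_add, smul_smul]
      match_scalars <;> field_simp <;> ring
    rcases plane_cases hF (inPlane_smul hF hap (ptLine_inPlane hF x)) with e | ⟨y, e⟩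
    · refine Or.inl ⟨e, ?_⟩
      rw [ptLine, vaLine, IsoLine.smul_mk] at e
      obtain ⟨c, hc⟩ := IsoLine.mk_eq_iff.1 e
      rw [hvec] at hc
      have := (coords_inj hF (a := c) (b := 0) (a' := ν * (τ * x - 1) * skw hF)
        (b' := ν * (τ * x + 1)) (by rw [zero_smul, add_zero, hc])).2
      exact eq_neg_of_add_eq_zero_left ((mul_eq_zero.1 this.symm).resolve_left hν0)
    · refine Or.inr ⟨y, e, ?_⟩
      rw [ptLine, ptLine, IsoLine.smul_mk] at e
      obtain ⟨c, hc⟩ := IsoLine.mk_eq_iff.1 e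
      rw [hvec, smul_add, smul_smul] at hc
      obtain ⟨h1, h2'⟩ := coords_inj hF hc
      rw [h2'] at h1
      refine mul_left_cancel₀ hν0 (mul_right_cancel₀ hs0 ?_)
      linear_combination h1
  have hsquare : ∀ x : fixF hF, x ≠ 0 → τ * x ≠ 1 → τ * x ≠ -1 → (τ * (x : F)) ^ 2 = -1 := by
    intro x hx hu1 hu2
    obtain ⟨y, hy, hye⟩ := (himage x).resolve_left fun h => hu2 h.2
    obtain ⟨y', hy', hye'⟩ := (himage (-x)).resolve_left fun h => hu1 (by
      have h' := h.2
      simp only [NegMemClass.coe_neg] at h'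
      linear_combination -h')
    simp only [NegMemClass.coe_neg] at hye'
    have hy0 : y ≠ 0 := fun e => hu1 (by
      rw [e, ZeroMemClass.coe_zero, zero_mul] at hye
      linear_combination -hye)
    have hnn : ∀ z : fixF hF, z ≠ 0 → -z ≠ z := fun z hz e => by
      have e' : -(z : F) = z := congrArg Subtype.val e
      have : (2 : F) * z = 0 := by linear_combination -e'
      exact hz (Subtype.ext ((mul_eq_zero.1 this).resolve_left h2))
    have h1 : Par (ptLine hF x) (ptLine hF (-x)) := by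
      have := hscale x hx
      rwa [mul_neg_one] at this
    have h1' := htrans a haω _ _ h1
    rw [hy, hy'] at h1'
    have h2' : Par (ptLine hF y) (ptLine hF (-y)) := by
      have := hscale y hy0
      rwa [mul_neg_one] at this
    have hne : ptLine hF y' ≠ ptLine hF y := fun e => hnn x hx
      (ptLine_injective hF (MulAction.injective a
        (show a • ptLine hF (-x) = a • ptLine hF x by rw [hy', hy, e])))
    have := ptLine_injective hF (huniq _ _ _ (ptLine_inPlane hF y) (ptLine_inPlane hF y')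
      (ptLine_inPlane hF (-y)) hne (fun e => hnn y hy0 (ptLine_injective hF e)) h1' h2')
    rw [this, NegMemClass.coe_neg] at hye'
    refine mul_left_cancel₀ h2 ?_
    linear_combination (τ * (x : F) - 1) * -hye + (τ * (x : F) + 1) * hye'
  -- so there are at most five points
  let u0 : F := Classical.epsilon fun u => u ^ 2 = -1
  have hle : q ≤ 5 := by
    rw [← card_fixF hF]
    refine le_trans (Nat.card_le_card_of_injective (β := ({0, 1, -1, u0, -u0} : Finset F))
      (fun x => ⟨τ * (x : F), ?_⟩) fun x y e => ?_) ?_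
    · simp only [Finset.mem_insert, Finset.mem_singleton]
      by_cases hx : x = 0
      · exact Or.inl (by rw [hx, ZeroMemClass.coe_zero, mul_zero])
      by_cases hu1 : τ * (x : F) = 1
      · exact Or.inr (Or.inl hu1)
      by_cases hu2 : τ * (x : F) = -1
      · exact Or.inr (Or.inr (Or.inl hu2))
      have h := hsquare x hx hu1 hu2
      have h0 : u0 ^ 2 = -1 := Classical.epsilon_spec (p := fun u => u ^ 2 = (-1 : F)) ⟨_, h⟩
      rcases sq_eq_sq_iff_eq_or_eq_neg.1 (h.trans h0.symm) with e | e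
      · exact Or.inr (Or.inr (Or.inr (Or.inl e)))
      · exact Or.inr (Or.inr (Or.inr (Or.inr e)))
    · exact Subtype.ext (mul_left_cancel₀ (div_ne_zero (mul_ne_zero hs0 hμ0) hν0) (congrArg Subtype.val e :))
    · rw [Nat.card_eq_finsetCard]; exact Finset.card_le_five
  rcases (show q = 3 ∨ q = 4 ∨ q = 5 by omega) with rfl | rfl | rfl
  · exact caseA_three hF htr hN hT
  · refine h2 ((pow_eq_zero_iff (n := 4) (by norm_num)).1 ?_)
    have h := FiniteField.cast_card_eq_zero F
    rw [hF] at h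
    rw [← h]; norm_num
  · exact h5 rfl

end Cfsg.Agent.MinIndexU
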