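import Cfsg.Agent.Lib.MinIndexU.ThreeEleven
import Cfsg.Agent.Lib.SUThreeInv.Basic
/-
A point with a line of regular elements and a large torus is impossible.
* even_scal, conj_l_fixed, plane_count, caseB
-/
set_option autoImplicit false

namespace Cfsg.Agent.MinIndexU

open Cfsg.Agent.Unitary
open Cfsg.Agent.SUMinDegree
open scoped Matrix

variable {F : Type*} [Field F] [Fintype F] {q : ℕ} (hF : Fintype.card F = q ^ 2)

local notation "h3" => Cfsg.hermForm (2 + 1) F q
local notation "G3" => Cfsg.SU (2 + 1) F q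

variable {Ω : Type*} [MulAction (Cfsg.SU (2 + 1) F q) Ω] [Finite Ω]

include hF in
/-- The group of scalars has even order. -/
theorem even_scal (hodd : Odd q) (htr : ∀ x y : Ω, ∃ g : G3, g • x = y) (hN : Nat.card Ω ≤ q ^ 3)
    {ω : Ω} {r : ℕ} (hT : Nat.card (pointLine hF ω) = q * r) : Even r := by
  classical
  have H := hermForm_isHerm hF (2 + 1)
  have hS := card_stabilizer_eq hF htr hN ω
  rw [hT] at hS
  have : Fact (Nat.Prime 2) := ⟨Nat.prime_two⟩
  have h2d : 2 ∣ Nat.card (MulAction.stabilizer G3 ω) := by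
    rw [hS]
    exact Dvd.dvd.mul_right (even_iff_two_dvd.1 (hodd.pow.add_one)) _
  obtain ⟨y, hy⟩ := exists_prime_orderOf_dvd_card' (G := MulAction.stabilizer G3 ω) 2 h2d
  have hy' : orderOf (y : G3) = 2 := by rw [Subgroup.orderOf_coe, hy]
  have hy1 : (y : G3) ≠ 1 := fun e => by rw [e, orderOf_one] at hy'; omega
  have hy2 : (y : G3) * y = 1 := by
    have := pow_orderOf_eq_one (y : G3)
    rwa [hy', sq] at this
  obtain ⟨v, hv, hyv⟩ := SUThreeInv.exists_eq_refl hodd hF y hy1 hy2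
  have hne1 : eW F ≠ 0 := fun h => by
    have := eW_eW hF
    rw [h, H.zero_left] at this
    exact zero_ne_one this
  obtain ⟨g, hg⟩ := move_one hF (le_refl 3) hne1 (SUThreeInv.ne_zero_of_norm_one hF hv)
    ((eW_eW hF).trans hv.symm)
  have hperp : h3 (suAct g (va hF 1)) v = 0 := by
    rw [← hg, show suAct g (eW F) = suAct g (eW F) from rfl]
    exact (suAct_herm g _ _).trans (va_eW hF)
  have hfix : (y : G3) • (g • vaLine hF) = g • vaLine hF := by
    rw [vaLine, IsoLine.smul_mk, IsoLine.smul_mk]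
    refine IsoLine.mk_eq_iff.2 ⟨-1, ?_⟩
    rw [neg_one_smul, hyv]
    exact (SUThreeInv.refl_perp v _ hperp).symm
  obtain ⟨h, -, -, hm⟩ := conj_pointLine hF htr hN y.2 hfix
  have hd := orderOf_dvd_natCard (⟨_, hm⟩ : pointLine hF ω)
  rw [← Subgroup.orderOf_coe] at hd
  change orderOf (h⁻¹ * (y : G3) * h) ∣ _ at hd
  have e : MulAut.conj h⁻¹ (y : G3) = h⁻¹ * (y : G3) * h := by simp
  rw [← e, MulEquiv.orderOf_eq (MulAut.conj h⁻¹) (y : G3), hy', hT] at hd
  exact even_iff_two_dvd.2 ((Nat.prime_two.dvd_mul.1 hd).resolve_left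
    fun h => Nat.not_even_iff_odd.2 hodd (even_iff_two_dvd.2 h))

include hF in
/-- Elements of the plane group fixing exactly two lines. -/
theorem plane_count {ω : Ω}
    (hmove : ∀ L : IsoLine (2 + 1) F q, (∀ v ∈ L.1, h3 v (eW F) = 0) →
      ∃ a : G3, a • ω = ω ∧ a ∈ poleStab F q ∧ a • vaLine hF = L)
    (h2 : (2 : F) ≠ 0) (hneg : (-1 : PSL2.SL2 (fixF hF)) ∈ plA hF ω)
    {d : ℕ} (hd0 : d ≠ 0) (hdq : d ∣ q - 1)
    (hlift : ∀ κ : F, κ ^ d = 1 → ∃ l ∈ lev hF 1, l • ω = ω ∧ kap hF l = κ) :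
    (q + 1) * (d - 2) + 4 ≤ 2 * Nat.card (plA hF ω) := by
  classical
  have : Finite (IsoLine (2 + 1) F q) := Subtype.finite
  have : Finite (PlaneLine (F := F) (q := q)) := Subtype.finite
  choose a haω hap haL using fun L : PlaneLine (F := F) (q := q) => hmove L.1 L.2
  let other : PlaneLine (F := F) (q := q) → IsoLine (2 + 1) F q := fun L => a L • ptLine hF 0
  let E : Set F := {κ | κ ^ d = 1} \ {1, -1}
  have hEn : ∀ κ ∈ E, κ ≠ 0 ∧ κ ^ (q - 1) = 1 ∧ κ ^ (q + 1) ≠ 1 := by
    rintro κ ⟨hκ : κ ^ d = 1, hκ'⟩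
    obtain ⟨j, hj⟩ := hdq
    have h1 : κ ^ (q - 1) = 1 := by rw [hj, pow_mul, hκ, one_pow]
    refine ⟨fun e => by rw [e, zero_pow hd0] at hκ; exact zero_ne_one hκ, h1, fun h => hκ' ?_⟩
    have hq := two_le_q hF
    rw [show q + 1 = q - 1 + 2 by omega, pow_add, h1, one_mul, sq, mul_self_eq_one_iff] at h
    exact h
  have hdata : ∀ (L : PlaneLine (F := F) (q := q)) (κ : F), ∃ M : PSL2.SL2 (fixF hF),
      κ ∈ E → M ∈ plA hF ω ∧ M ≠ 1 ∧ M ≠ -1 ∧ iota hF M • L.1 = L.1 ∧
        (∀ L' : PlaneLine (F := F) (q := q), iota hF M • L'.1 = L'.1 → L'.1 = L.1 ∨ L'.1 = other L) ∧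
        kap hF ((a L)⁻¹ * iota hF M * a L) = κ := by
    intro L κ
    by_cases hκ : κ ∈ E
    swap
    · exact ⟨1, fun h => absurd h hκ⟩
    obtain ⟨l, hl, hlω, hlk⟩ := hlift κ hκ.1
    obtain ⟨-, hκ1, hκn⟩ := hEn κ hκ
    have hfix : suAct (a L * l * (a L)⁻¹) (eW F) = eW F := by
      have h := pole_spec hF (hap L)
      have h' := suAct_inv_suAct (a L) (eW F)
      rw [h, suAct_smul] at h'
      have hinv : suAct (a L)⁻¹ (eW F) = (pole (a L))⁻¹ • eW F :=
        (eq_inv_smul_iff₀ (pole_ne_zero hF (hap L))).2 h'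
      rw [suAct_mul, suAct_mul, hinv, suAct_smul, suAct_smul, lev_eW hF hl, hlk, hκ1, one_smul, h,
        inv_smul_smul₀ (pole_ne_zero hF (hap L))]
    obtain ⟨M, hM⟩ := exists_iota_of_fix hF hfix
    have hfixed : ∀ L' : PlaneLine (F := F) (q := q), iota hF M • L'.1 = L'.1 →
        L'.1 = L.1 ∨ L'.1 = other L := by
      intro L' h
      rw [hM, mul_smul, mul_smul, ← eq_inv_smul_iff] at h
      rcases lev_fix_plane hF hl (by rwa [hlk]) (inPlane_smul hF (inv_mem (hap L)) L'.2) h with e | e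
      · exact Or.inl ((inv_smul_eq_iff.1 e).trans (haL L))
      · exact Or.inr (inv_smul_eq_iff.1 e)
    have hnall : ¬ ∀ L' : PlaneLine (F := F) (q := q), iota hF M • L'.1 = L'.1 := by
      intro hall
      have hle : Nat.card (PlaneLine (F := F) (q := q)) ≤ Nat.card ({L.1, other L} : Finset _) :=
        Nat.card_le_card_of_injective (fun L' => ⟨L'.1, by simpa using hfixed L' (hall L')⟩)
          fun x y e => Subtype.ext (congrArg Subtype.val e :)
      rw [card_planeLine hF, Nat.card_eq_finsetCard] at hle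
      have := Finset.card_le_two (a := L.1) (b := other L)
      have := two_le_q hF
      omega
    refine ⟨M, fun _ => ⟨?_, ?_, ?_, ?_, hfixed, ?_⟩⟩
    · show iota hF M • ω = ω
      rw [hM, mul_smul, mul_smul, inv_smul_eq_iff.2 (haω L).symm, hlω, haω L]
    · rintro rfl; exact hnall fun L' => by rw [map_one, one_smul]
    · rintro rfl; exact hnall fun L' => iota_neg_one_smul hF L'
    · rw [hM, ← haL L, mul_smul, mul_smul, inv_smul_smul, lev_le_lineStab hF hl]
    · rw [hM, show (a L)⁻¹ * (a L * l * (a L)⁻¹) * a L = l by group, hlk]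
  choose f hf using hdata
  have hcount : ((Set.univ : Set (PlaneLine (F := F) (q := q))) ×ˢ E).ncard ≤
      2 * ((plA hF ω : Set (PSL2.SL2 (fixF hF))) \ {1, -1}).ncard := by
    refine ncard_le_fibre (Set.toFinite _) (Set.toFinite _) (fun x => f x.1 x.2) ?_ 2 ?_
    · rintro ⟨L, κ⟩ ⟨-, hκ⟩
      obtain ⟨h1, h2, h3', -⟩ := hf L κ hκ
      exact ⟨h1, by simp [h2, h3']⟩
    intro M _
    rcases Set.eq_empty_or_nonempty {x ∈ (Set.univ : Set (PlaneLine (F := F) (q := q))) ×ˢ E |
        f x.1 x.2 = M} with he | ⟨⟨L1, κ1⟩, ⟨-, hκ1⟩, hM1⟩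
    · rw [he]; simp
    refine le_trans ?_ (Finset.card_le_two (a := L1.1) (b := other L1))
    rw [← Set.ncard_coe_finset]
    refine Set.ncard_le_ncard_of_injOn (fun x => x.1.1) ?_ ?_
    · rintro ⟨L, κ⟩ ⟨⟨-, hκ⟩, hM⟩
      simp only [Finset.coe_insert, Finset.coe_singleton, Set.mem_insert_iff, Set.mem_singleton_iff]
      refine (hf L1 κ1 hκ1).2.2.2.2.1 L ?_
      rw [show f L1 κ1 = f L κ from hM1.trans hM.symm]
      exact (hf L κ hκ).2.2.2.1
    · rintro ⟨L, κ⟩ ⟨⟨-, hκ⟩, hM⟩ ⟨L', κ'⟩ ⟨⟨-, hκ'⟩, hM'⟩ e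
      obtain rfl : L = L' := Subtype.ext e
      refine Prod.ext rfl ?_
      have e' : f L κ = f L κ' := hM.trans hM'.symm
      show κ = κ'
      rw [← (hf L κ hκ).2.2.2.2.2, ← (hf L κ' hκ').2.2.2.2.2, e']
  rw [Set.ncard_prod, Set.ncard_univ, card_planeLine hF] at hcount
  have hE : d ≤ E.ncard + 2 := by
    have h := Set.ncard_le_ncard_sdiff_add_ncard {κ : F | κ ^ d = 1} {1, -1}
    have hd2 : d ∣ q ^ 2 - 1 := hdq.trans (q_pred_dvd q)
    rw [show ({κ : F | κ ^ d = 1}).ncard = d from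
      (Nat.card_coe_set_eq _).symm.trans (card_pow_eq_one hF hd0 hd2)] at h
    have h' : ({1, -1} : Set F).ncard ≤ 2 := (Set.ncard_insert_le _ _).trans (by rw [Set.ncard_singleton])
    exact h.trans (Nat.add_le_add_left h' _)
  have hA : ((plA hF ω : Set (PSL2.SL2 (fixF hF))) \ {1, -1}).ncard + 2 = Nat.card (plA hF ω) := by
    have hne : (1 : PSL2.SL2 (fixF hF)) ≠ -1 := fun e => h2 (by
      have h : (1 : fixF hF) = -1 := congrFun (congrFun (congrArg Subtype.val e) 0) 0
      have h' : (1 : F) = -1 := congrArg Subtype.val h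
      linear_combination h')
    have hsub : ({1, -1} : Set (PSL2.SL2 (fixF hF))) ⊆ (plA hF ω : Set (PSL2.SL2 (fixF hF))) :=
      Set.insert_subset (one_mem _) (Set.singleton_subset_iff.2 hneg)
    have h := Set.ncard_sdiff_add_ncard_of_subset hsub
    rw [Set.ncard_pair hne] at h
    exact h.trans (Nat.card_coe_set_eq _).symm
  have hmul : (q + 1) * (d - 2) ≤ (q + 1) * E.ncard := Nat.mul_le_mul_left _ (by omega)
  omega

include hF in
/-- No point has a line of regular elements and a large torus. -/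
theorem caseB (h5 : q ≠ 5) (htr : ∀ x y : Ω, ∃ g : G3, g • x = y) (hN : Nat.card Ω ≤ q ^ 3) {ω : Ω}
    (hq32 : q % 3 = 2) (hodd : Odd q) (hZ : Zof hF 1 ω = ⊥) {r : ℕ}
    (hT : Nat.card (pointLine hF ω) = q * r) (hr : r = 3 * (q - 1) ∨ 2 * r = 3 * (q - 1))
    (hlift : ∀ κ : F, κ ^ r = 1 → ∃ l ∈ lev hF 1, l • ω = ω ∧ kap hF l = κ)
    (hkap : ∀ g ∈ pointLine hF ω, kap hF g ^ r = 1) : False := by
  classical
  have H := hermForm_isHerm hF (2 + 1)
  have hq2 := two_le_q hF
  have h11 : 11 ≤ q := by have := Nat.odd_iff.1 hodd; omega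
  have hre := even_scal hF hodd htr hN hT
  have hre' := Nat.even_iff.1 hre
  have hq1e : Even (q - 1) := Nat.even_iff.2 (by have := Nat.odd_iff.1 hodd; omega)
  have h2 : (2 : F) ≠ 0 := SUThreeInv.two_ne_zero_of_odd hodd hF
  have hq0 : ((q : ℕ) : F) = 0 := by
    have h := FiniteField.cast_card_eq_zero F
    rw [hF, Nat.cast_pow] at h
    exact (pow_eq_zero_iff two_ne_zero).1 h
  obtain ⟨t, ht, htω, htk⟩ := hlift (-1) hre.neg_one_pow
  have hmove : ∀ L : IsoLine (2 + 1) F q, (∀ v ∈ L.1, h3 v (eW F) = 0) →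
      ∃ a : G3, a • ω = ω ∧ a ∈ poleStab F q ∧ a • vaLine hF = L := fun L hL =>
    exists_mover hF htr hN hZ ht htω (by rw [htk]; exact (hodd.add_one).neg_one_pow)
      (by rw [htk]; intro h; exact h2 (by linear_combination -h))
      (fun x hx => ⟨((q - 1) / 2) • x, nsmul_mem hx _, by
        have hc : cfac q (kap hF t) = -1 := by
          rw [htk, cfac, hodd.neg_one_pow, hq1e.neg_one_pow, mul_one]
        have he : (((q - 1) / 2 : ℕ) : F) * 2 + 1 = 0 := by
          obtain ⟨j, hj⟩ := hodd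
          have hjj : (((q - 1) / 2) * 2 + 1 : ℕ) = q := by omega
          rw [← hq0]
          exact_mod_cast congrArg (Nat.cast : ℕ → F) hjj
        rw [hc]
        funext i
        simp only [Pi.add_apply, Pi.sub_apply, Pi.smul_apply, Pi.zero_apply, nsmul_eq_mul, smul_eq_mul,
          Pi.mul_apply, Pi.natCast_apply]
        linear_combination (x i) * he⟩) hL
  have htneg : iota hF (-1) = t := ext_three hF
    (by rw [iota_va, (kap_spec ht).1, htk]; simp)
    (by rw [iota_vb, lev_vb hF ht, htk, hodd.neg_one_pow]; simp [inv_neg])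
    (by rw [iota_eW, lev_eW hF ht, htk, hq1e.neg_one_pow, one_smul])
  have hneg : (-1 : PSL2.SL2 (fixF hF)) ∈ plA hF ω := by
    show iota hF (-1) • ω = ω
    rw [htneg, htω]
  -- the scalars in the fixed field
  obtain ⟨d, hde, hdq, hdr, hd2, hd11⟩ : ∃ d, Even d ∧ d ∣ q - 1 ∧ d ∣ r ∧ q - 1 ≤ 2 * d ∧
      (q = 11 → d = 10) := by
    rcases hr with e | e
    · exact ⟨q - 1, hq1e, dvd_rfl, ⟨3, by omega⟩, by omega, fun h => by omega⟩
    · obtain ⟨j, hj⟩ := hq1e
      exact ⟨j, Nat.even_iff.2 (by omega), ⟨2, by omega⟩, ⟨3, by omega⟩, by omega,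
        fun h => by omega⟩
  have hd0 : d ≠ 0 := by omega
  have hlow := plane_count hF hmove h2 hneg hd0 hdq fun κ hκ => hlift κ (by
    obtain ⟨j, rfl⟩ := hdr
    rw [pow_mul, hκ, one_pow])
  -- the characteristic does not divide the plane group
  obtain ⟨p, m, hp, hchar, hpm, hm⟩ := exists_prime_pow hF
  have : Fact p.Prime := ⟨hp⟩
  have hpne2 : p ≠ 2 := fun e => by
    subst e
    exact h2 (by exact_mod_cast CharP.cast_eq_zero F 2)
  have hpne3 : p ≠ 3 := fun e => by
    subst e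
    have : (3 ^ m) % 3 = 0 := Nat.mod_eq_zero_of_dvd (dvd_pow_self 3 (by omega))
    omega
  set K := fixF hF
  have hKp : CharP K p := ⟨fun n => by rw [← CharP.cast_eq_zero_iff F p n, Subtype.ext_iff]; simp⟩
  have hKc : Nat.card K = q := card_fixF hF
  have hpA : ¬ p ∣ Nat.card (plA hF ω) := by
    intro hd
    obtain ⟨M, hM⟩ := exists_prime_orderOf_dvd_card' (G := plA hF ω) p hd
    letI := planeAct hF
    have : Finite (IsoLine (2 + 1) F q) := Subtype.finite
    have : Finite (PlaneLine (F := F) (q := q)) := Subtype.finite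
    have hP : IsPGroup p (Subgroup.zpowers M.1) := by
      refine IsPGroup.of_card (n := 1) ?_
      rw [Nat.card_zpowers, Subgroup.orderOf_coe, hM, pow_one]
    obtain ⟨L, hL⟩ := hP.nonempty_fixed_point_of_prime_not_dvd_card (PlaneLine (F := F) (q := q)) (by
      rw [card_planeLine hF]
      intro h
      have hpq : p ∣ q := hpm ▸ dvd_pow_self p (by omega)
      exact hp.not_dvd_one ((Nat.dvd_add_right hpq).1 h))
    have hgL : iota hF M.1 • L.1 = L.1 :=
      congrArg Subtype.val (hL ⟨M.1, Subgroup.mem_zpowers _⟩)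
    obtain ⟨a, haω, hap, haL⟩ := hmove L.1 L.2
    set g := a⁻¹ * iota hF M.1 * a with hg
    have hgT : g ∈ pointLine hF ω := by
      refine ⟨?_, ?_⟩
      · show g • vaLine hF = vaLine hF
        rw [hg, mul_smul, mul_smul, haL, hgL, inv_smul_eq_iff, haL]
      · show g • ω = ω
        rw [hg, mul_smul, mul_smul, haω, show iota hF M.1 • ω = ω from M.2, inv_smul_eq_iff, haω]
    have hgp : g ^ p = 1 := by
      have h := conj_pow (i := p) (a := a⁻¹) (b := iota hF M.1)
      rw [inv_inv] at h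
      have hMp : M.1 ^ p = 1 := by
        rw [← hM, ← Subgroup.coe_pow, pow_orderOf_eq_one, Subgroup.coe_one]
      rw [hg, h, ← map_pow, hMp, map_one, mul_one, inv_mul_cancel]
    have hgk : kap hF g = 1 := by
      have key : ∀ n : ℕ, kap hF (g ^ n) = kap hF g ^ n := by
        intro n
        induction n with
        | zero => rw [pow_zero, pow_zero, kap_one]
        | succ n ih => rw [pow_succ, kap_mul_lineStab hF (pow_mem hgT.1 n) hgT.1, ih, pow_succ]
      have h := key p
      rw [hgp, kap_one] at h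
      exact frobenius_inj F p (by rw [frobenius_def, frobenius_def, ← h, one_pow])
    have hg1 := radQ_pole hF (radQ_of_kap hF hgT.1 hgk)
      (mul_mem (mul_mem (inv_mem hap) ⟨1, by rw [iota_eW, one_smul]⟩) hap) hgT.2 hZ
    have hM1 : M.1 = 1 := iota_injective hF (by
      rw [map_one, show iota hF M.1 = a * g * a⁻¹ by rw [hg]; group, hg1, mul_one, mul_inv_cancel])
    rw [← Subgroup.orderOf_coe, hM1, orderOf_one] at hM
    exact hp.one_lt.ne hM
  -- the image in PSL_2
  set π := QuotientGroup.mk' (Subgroup.center (PSL2.SL2 K))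
  set A := plA hF ω
  set B := A.map π
  have hAB : Nat.card A = 2 * Nat.card B := by
    have h1 := (π.comp A.subtype).ker.card_mul_index
    rw [Subgroup.index_ker, MonoidHom.range_comp, Subgroup.range_subtype] at h1
    have h2' : Nat.card (π.comp A.subtype).ker = 2 := by
      refine le_antisymm ?_ ?_
      · refine le_trans (Nat.card_le_card_of_injective
          (β := ({1, -1} : Finset (PSL2.SL2 K))) (fun x => ⟨x.1.1, ?_⟩) ?_) ?_
        · have hx : (QuotientGroup.mk x.1.1 : PSL2.PSL2 K) = 1 := x.2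
          rcases PSL2.mk_one_iff.1 hx with e | e <;> simp [e]
        · intro x y h
          exact Subtype.ext (Subtype.ext (congrArg Subtype.val h :))
        · rw [Nat.card_eq_finsetCard]; exact Finset.card_le_two
      · have hne : (⟨⟨-1, hneg⟩, PSL2.mk_one_iff.2 (Or.inr rfl)⟩ : (π.comp A.subtype).ker) ≠ 1 := fun e => by
          have e1 : (-1 : PSL2.SL2 K) = 1 := congrArg (fun x => x.1.1) e
          have h' : (-1 : K) = 1 := congrFun (congrFun (congrArg Subtype.val e1) 0) 0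
          have h'' : (-1 : F) = 1 := congrArg Subtype.val h'
          exact h2 (by linear_combination -h'')
        exact Finite.one_lt_card_iff_nontrivial.2 ⟨⟨_, _, hne⟩⟩
    rw [h2'] at h1
    exact h1.symm
  have hpB : ¬ p ∣ Nat.card B := fun h => hpA (hAB ▸ h.mul_left 2)
  have hgcd : Nat.gcd 2 (q - 1) = 2 := Nat.gcd_eq_left (even_iff_two_dvd.1 hq1e)
  have hbound : ∀ k : ℕ, k ∣ (q - 1) / 2 ∨ k ∣ (q + 1) / 2 → 2 * k ≤ q + 1 := by
    rintro k (h | h) <;> have := Nat.le_of_dvd (by omega) h <;> omega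
  have hsmall : 2 * Nat.card B ≤ 2 * (q + 1) → False := fun h => by
    have hd10 : d ≤ 5 := by
      by_contra hd6
      have : (q + 1) * 4 ≤ (q + 1) * (d - 2) := Nat.mul_le_mul_left _ (by omega)
      omega
    have : q = 11 := by omega
    have := hd11 this
    omega
  have hmid : Nat.card B ≤ 24 → False := fun h => by
    rcases (show q = 11 ∨ 17 ≤ q by have := Nat.odd_iff.1 hodd; omega) with e | e
    · have := hd11 e
      subst e
      subst this
      omega
    · have : 18 * 6 ≤ (q + 1) * (d - 2) := Nat.mul_le_mul (by omega) (by omega)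
      omega
  rcases PSL2.psl_dickson p B with ⟨h, -⟩ | ⟨-, -, hc⟩ | ⟨n, -, -, hn, hc, -, -⟩ | ⟨-, hiso⟩ |
    ⟨h, -⟩ | ⟨R, j, hj, hR, hiso⟩
  · exact hpB h
  · rw [hKc, hgcd] at hc
    have := hbound _ hc
    exact hsmall (le_trans this (by omega))
  · rw [hKc, hgcd] at hn
    have := hbound _ hn
    exact hsmall (le_trans (Nat.mul_le_mul_left 2 hc.le) (by omega))
  · rcases hiso with ⟨⟨e⟩⟩ | ⟨⟨e⟩⟩ | ⟨⟨e⟩⟩
    · refine hmid ?_
      rw [Nat.card_congr e.toEquiv, nat_card_alternatingGroup, Nat.card_fin]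
      norm_num [Nat.factorial]
    · refine hmid ?_
      rw [Nat.card_congr e.toEquiv, Nat.card_perm, Nat.card_fin]
      norm_num [Nat.factorial]
    have h60 : Nat.card B = 60 := by
      rw [Nat.card_congr e.toEquiv, nat_card_alternatingGroup, Nat.card_fin]
      norm_num [Nat.factorial]
    have hd60 : 2 * 60 ∣ q * ((q + 1) * (q - 1)) := by
      have h := PSL2.card_psl_mul (F := K)
      rw [hKc, hgcd] at h
      rw [← h, ← h60]
      exact Nat.mul_dvd_mul_left 2 (Subgroup.card_subgroup_dvd_card B)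
    rcases (show q = 11 ∨ q = 17 ∨ q = 23 ∨ 29 ≤ q by have := Nat.odd_iff.1 hodd; omega) with e | e | e | e
    · subst e
      have hr30 : r = 30 := by omega
      subst hr30
      exact eleven_case hF htr hN hZ hT hlift hkap hmove (by rw [hAB, h60])
    · subst e; norm_num at hd60
    · subst e; norm_num at hd60
    · have : 30 * 12 ≤ (q + 1) * (d - 2) := Nat.mul_le_mul (by omega) (by omega)
      omega
  · exact hpne3 h
  · refine hpB ?_
    rw [hKc, hpm] at hR
    obtain ⟨i, -, hi⟩ := (Nat.dvd_prime_pow hp).1 (hR ▸ dvd_pow_self (Nat.card R) (by omega))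
    have hi0 : i ≠ 0 := fun e => by
      have : 1 < Nat.card R := Finite.one_lt_card
      rw [hi, e, pow_zero] at this
      omega
    have hpR : p ∣ Nat.card R := hi ▸ dvd_pow_self p hi0
    have hRp : CharP R p := ⟨fun n => by rw [← CharP.cast_eq_zero_iff K p n, Subtype.ext_iff]; simp⟩
    rcases hiso with ⟨⟨e⟩⟩ | ⟨-, -, ⟨e⟩⟩
    · obtain ⟨x, -, -, hx, -⟩ := PSL2.card_psl_split (F := R) p
      rw [Nat.card_congr e.toEquiv, hx]
      exact hpR.mul_right x
    · rw [Nat.card_congr e.toEquiv, GLOrder.card_PGL_two]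
      exact hpR.mul_right _

end Cfsg.Agent.MinIndexU
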