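import Cfsg.Agent.Lib.MinIndexU.ThreePlane
/-
The icosahedral configuration for q = 11 is impossible.
* sl2_cube_fixed, eleven_case
-/
set_option autoImplicit false

namespace Cfsg.Agent.MinIndexU

open Cfsg.Agent.Unitary
open Cfsg.Agent.SUMinDegree
open scoped Matrix

/-- A matrix of determinant one and order three has no non-zero fixed vector. -/
theorem sl2_cube_fixed {K : Type*} [Field K] (h30 : (3 : K) ≠ 0) {M : Matrix (Fin 2) (Fin 2) K}
    (hdet : M 0 0 * M 1 1 - M 0 1 * M 1 0 = 1) (hM : M * M * M = 1) (hne : M ≠ 1) {α β : K}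
    (h1 : M 0 0 * α + M 0 1 * β = α) (h2 : M 1 0 * α + M 1 1 * β = β) : α = 0 ∧ β = 0 := by
  by_contra hcon
  have e0 : (M 0 0 - 1) * (M 1 1 - 1) - M 0 1 * M 1 0 = 0 := by
    by_contra hD
    refine hcon ⟨mul_left_cancel₀ hD ?_, mul_left_cancel₀ hD ?_⟩
    · linear_combination (M 1 1 - 1) * h1 - M 0 1 * h2
    · linear_combination (M 0 0 - 1) * h2 - M 1 0 * h1
  have etr : M 1 1 = 2 - M 0 0 := by linear_combination hdet - e0
  have hsq : M * M = (2 : K) • M - 1 := by
    ext i j
    fin_cases i <;> fin_cases j <;>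
      simp [Matrix.mul_apply, Fin.sum_univ_two, Matrix.smul_apply, etr]
    · linear_combination -(hdet.trans rfl) + M 0 0 * etr
    · ring
    · ring
    · linear_combination -(hdet.trans rfl) + M 0 0 * etr
  refine hne ?_
  have h : (2 : K) • (M * M) - M = 1 := by
    rw [← hM, hsq, sub_mul, Matrix.smul_mul, one_mul, hsq]
  rw [hsq, smul_sub, smul_smul] at h
  have h3 : (3 : K) • M = (3 : K) • (1 : Matrix (Fin 2) (Fin 2) K) := by
    linear_combination (norm := module) h
  exact smul_right_injective _ h30 h3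

variable {F : Type*} [Field F] [Fintype F] (hF : Fintype.card F = 11 ^ 2)
variable {Ω : Type*} [MulAction (Cfsg.SU (2 + 1) F 11) Ω] [Finite Ω]

include hF in
theorem eleven_case (htr : ∀ x y : Ω, ∃ g : Cfsg.SU (2 + 1) F 11, g • x = y)
    (hN : Nat.card Ω ≤ 11 ^ 3) {ω : Ω} (hZ : Zof hF 1 ω = ⊥)
    (hT : Nat.card (pointLine hF ω) = 11 * 30)
    (hlift : ∀ κ : F, κ ^ 30 = 1 → ∃ l ∈ lev hF 1, l • ω = ω ∧ kap hF l = κ)
    (hkap : ∀ g ∈ pointLine hF ω, kap hF g ^ 30 = 1)
    (hmove : ∀ L : IsoLine (2 + 1) F 11, (∀ v ∈ L.1, Cfsg.hermForm (2 + 1) F 11 v (eW F) = 0) →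
      ∃ a : Cfsg.SU (2 + 1) F 11, a • ω = ω ∧ a ∈ poleStab F 11 ∧ a • vaLine hF = L)
    (hA1 : Nat.card (plA hF ω) = 120) : False := by
  classical
  have H := hermForm_isHerm hF (2 + 1)
  have : Finite (IsoLine (2 + 1) F 11) := Subtype.finite
  have : Finite (PlaneLine (F := F) (q := 11)) := Subtype.finite
  have hcast : ((11 : ℕ) : F) = 0 := by
    have h := FiniteField.cast_card_eq_zero F
    rw [hF, Nat.cast_pow] at h
    exact (pow_eq_zero_iff two_ne_zero).1 h
  have : CharP F 11 := (CharP.charP_iff_prime_eq_zero (by norm_num)).2 hcast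
  have hsmall : ∀ n : ℕ, 0 < n → n < 11 → ((n : ℕ) : F) ≠ 0 := fun n h0 hn h =>
    Nat.not_dvd_of_pos_of_lt h0 hn ((CharP.cast_eq_zero_iff F 11 n).1 h)
  have h2 : (2 : F) ≠ 0 := by exact_mod_cast hsmall 2 (by norm_num) (by norm_num)
  have h30 : (3 : F) ≠ 0 := by exact_mod_cast hsmall 3 (by norm_num) (by norm_num)
  set S := MulAction.stabilizer (Cfsg.SU (2 + 1) F 11) ω
  let A : Subgroup S := (poleStab F 11).subgroupOf S
  let ψ : A →* Fˣ := MonoidHom.mk' (fun g => Units.mk0 (pole g.1.1) (pole_ne_zero hF g.2))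
    fun a b => Units.ext (pole_mul hF a.2 b.2)
  have hψ : ∀ g : A, ((ψ g : Fˣ) : F) = pole g.1.1 := fun _ => rfl
  have hker : Nat.card ψ.ker = 120 := by
    rw [← hA1]
    refine (Nat.card_eq_of_bijective (fun M : plA hF ω => (⟨⟨⟨iota hF M.1, M.2⟩,
      ⟨1, (iota_eW hF _).trans (one_smul F _).symm⟩⟩, ?_⟩ : ψ.ker)) ⟨?_, ?_⟩).symm
    · refine MonoidHom.mem_ker.2 (Units.ext ?_)
      rw [hψ, Units.val_one]
      exact pole_of_smul hF (by rw [iota_eW, one_smul])
    · intro M M' h
      exact Subtype.ext (iota_injective hF (congrArg (fun x => x.1.1.1) h))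
    · rintro ⟨⟨⟨g, hg⟩, hgp⟩, hgk⟩
      have h1 : pole g = 1 := congrArg Units.val (MonoidHom.mem_ker.1 hgk)
      obtain ⟨M, rfl⟩ := exists_iota_of_fix hF (g := g)
        (((pole_spec hF (g := g) hgp).trans (by rw [h1, one_smul])))
      exact ⟨⟨M, hg⟩, rfl⟩
  -- at most 360 elements fix the pole up to scalars
  have hA : Nat.card A ≤ 360 := by
    choose a haω hap haL using fun L : PlaneLine (F := F) (q := 11) => hmove L.1 L.2
    have hT30 : Nat.card {κ : F // κ ^ 30 = 1} = 30 := card_pow_eq_one hF (by norm_num) (by norm_num)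
    let img : A → PlaneLine (F := F) (q := 11) := fun g =>
      ⟨(g.1.1 : Cfsg.SU (2 + 1) F 11) • vaLine hF, inPlane_smul hF g.2 (vaLine_inPlane hF)⟩
    have hmem : ∀ g : A, (a (img g))⁻¹ * g.1.1 ∈ pointLine hF ω := fun g => by
      refine ⟨?_, ?_⟩
      · show ((a (img g))⁻¹ * g.1.1) • vaLine hF = vaLine hF
        rw [mul_smul, inv_smul_eq_iff]
        exact (haL (img g)).symm
      · show ((a (img g))⁻¹ * g.1.1) • ω = ω
        rw [mul_smul, show g.1.1 • ω = ω from g.1.2, inv_smul_eq_iff, haω]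
    refine le_trans (Nat.card_le_card_of_injective
      (fun g : A => (img g, (⟨_, hkap _ (hmem g)⟩ : {κ : F // κ ^ 30 = 1}))) ?_) ?_
    · intro g g' h
      have h1 : img g = img g' := congrArg Prod.fst h
      have hk : kap hF ((a (img g))⁻¹ * g.1.1) = kap hF ((a (img g'))⁻¹ * g'.1.1) :=
        congrArg (fun x => x.2.1) h
      have hm' := hmem g'
      rw [← h1] at hk hm'
      obtain ⟨hr, hω⟩ := ratio_radQ hF (hmem g) hm' hk
      have h' := radQ_pole hF hr (mul_mem (mul_mem (inv_mem (hap _)) g.2)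
        (inv_mem (mul_mem (inv_mem (hap _)) g'.2))) hω hZ
      exact Subtype.ext (Subtype.ext (mul_left_cancel (mul_inv_eq_one.1 h')))
    · rw [Nat.card_prod, card_planeLine hF, hT30]
  -- the scalars at the pole have order three
  have hidx := ψ.ker.card_mul_index
  rw [hker, Subgroup.index_ker] at hidx
  have hrange3 : Nat.card ψ.range ≤ 3 := by omega
  obtain ⟨w, hw, hw1⟩ : ∃ w : F, w ^ 3 = 1 ∧ w ≠ 1 := by
    by_contra! h
    have h3 := card_pow_eq_one hF (d := 3) (by norm_num) (by norm_num)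
    have : Nat.card {x : F // x ^ 3 = 1} ≤ Nat.card Unit :=
      Nat.card_le_card_of_injective (fun _ => ()) fun a b _ => Subtype.ext ((h _ a.2).trans (h _ b.2).symm)
    rw [h3, Nat.card_unique] at this
    omega
  have hrange : Nat.card ψ.range = 3 := by
    obtain ⟨z, hz, hzω, hzk⟩ := hlift w (by rw [show 30 = 3 * 10 from rfl, pow_mul, hw, one_pow])
    let zA : A := ⟨⟨z, hzω⟩, lev_le_poleStab hF hz⟩
    have hzv : ((ψ zA : Fˣ) : F) = w := by
      rw [hψ]
      refine (pole_of_smul hF (lev_eW hF hz)).trans ?_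
      rw [hzk, show 11 - 1 = 3 * 3 + 1 from rfl, pow_succ, pow_mul, hw, one_pow, one_mul]
    have hord : orderOf (ψ zA) = 3 :=
      orderOf_eq_prime (Units.ext (by rw [Units.val_pow_eq_pow_val, hzv, hw, Units.val_one]))
        fun e => hw1 (by rw [← hzv, e, Units.val_one])
    have hd : 3 ∣ Nat.card ψ.range := by
      have h := orderOf_dvd_natCard (⟨ψ zA, zA, rfl⟩ : ψ.range)
      rw [← Subgroup.orderOf_coe] at h
      rwa [hord] at h
    have := Nat.le_of_dvd Nat.card_pos hd
    omega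
  have hA360 : Nat.card A = 360 := by rw [hrange] at hidx; omega
  have hpole : ∀ g : A, pole g.1.1 ^ 3 = 1 := fun g => by
    have h := pow_card_eq_one' (x := (⟨ψ g, g, rfl⟩ : ψ.range))
    rw [hrange] at h
    have h' := congrArg (fun x : ψ.range => ((x : Fˣ) : F)) h
    simpa [hψ] using h'
  -- a Sylow three-subgroup
  have hS := card_stabilizer_eq hF htr hN ω
  rw [hT] at hS
  replace hS : Nat.card S = 439560 := hS.trans (by norm_num)
  have : Fact (Nat.Prime 3) := ⟨Nat.prime_three⟩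
  obtain ⟨Q⟩ : Nonempty (Sylow 3 A) := inferInstance
  have hQ : Nat.card Q = 9 := by
    rw [Q.card_eq_multiplicity, hA360]
    have : (360 : ℕ).factorization 3 = 2 := by
      rw [show (360 : ℕ) = 3 ^ 2 * 40 by norm_num, Nat.factorization_mul (by norm_num) (by norm_num)]
      rw [Finsupp.add_apply, Nat.prime_three.factorization_pow, Finsupp.single_eq_same,
        Nat.factorization_eq_zero_of_not_dvd (by norm_num : ¬ 3 ∣ 40)]
    norm_num [this]
  obtain ⟨P, hP⟩ := (Q.2.map A.subtype).exists_le_sylow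
  have hP27 : Nat.card P = 27 := by
    rw [P.card_eq_multiplicity, hS]
    have : (439560 : ℕ).factorization 3 = 3 := by
      rw [show (439560 : ℕ) = 3 ^ 3 * 16280 by norm_num, Nat.factorization_mul (by norm_num) (by norm_num)]
      rw [Finsupp.add_apply, Nat.prime_three.factorization_pow, Finsupp.single_eq_same,
        Nat.factorization_eq_zero_of_not_dvd (by norm_num : ¬ 3 ∣ 16280)]
    norm_num [this]
  set W : Subgroup S := (P : Subgroup S) ⊓ A
  have hW : Nat.card W = 9 := by
    have h1 : Nat.card W ∣ 27 := hP27 ▸ Subgroup.card_dvd_of_le inf_le_left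
    have h2' : Nat.card W ∣ 360 := hA360 ▸ Subgroup.card_dvd_of_le inf_le_right
    have h3 : Nat.card W ∣ 9 := by simpa using Nat.dvd_gcd h1 h2'
    have h4 : 9 ∣ Nat.card W := by
      have := Subgroup.card_dvd_of_le (H := (Q : Subgroup A).map A.subtype) (K := W)
        (le_inf hP (Subgroup.map_subtype_le _))
      rwa [Nat.card_congr (Subgroup.equivMapOfInjective _ _ A.subtype_injective).toEquiv.symm,
        show Nat.card (Q : Subgroup A) = 9 from hQ] at this
    exact Nat.dvd_antisymm h3 h4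
  obtain ⟨π, hπP, hπA⟩ : ∃ π ∈ (P : Subgroup S), π ∉ A := by
    by_contra! h
    have := Subgroup.card_dvd_of_le (show (P : Subgroup S) ≤ A from h)
    rw [hP27, hA360] at this
    norm_num at this
  have hnorm : (W.subgroupOf (P : Subgroup S)).Normal := by
    refine Subgroup.normal_of_index_eq_minFac_card ?_
    have h := (W.subgroupOf (P : Subgroup S)).card_mul_index
    rw [Nat.card_congr (Subgroup.subgroupOfEquivOfLe (inf_le_left : W ≤ _)).toEquiv, hW] at h
    rw [show Nat.card (P : Subgroup S) = 27 from hP27] at h ⊢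
    rw [show Nat.minFac 27 = 3 by norm_num]
    omega
  let φ : W →* Fˣ := ψ.comp (Subgroup.inclusion inf_le_right)
  have hkW : 3 ∣ Nat.card φ.ker := by
    have h := φ.ker.card_mul_index
    rw [Subgroup.index_ker, hW] at h
    have h3 : Nat.card φ.range ≤ 3 := by
      rw [← hrange]
      exact Nat.le_of_dvd Nat.card_pos (Subgroup.card_dvd_of_le (by rintro _ ⟨u, rfl⟩; exact ⟨_, rfl⟩))
    have hd : Nat.card φ.ker ∈ Nat.divisors 9 := Nat.mem_divisors.2 ⟨⟨_, h.symm⟩, by norm_num⟩
    rw [show Nat.divisors 9 = {1, 3, 9} by decide +kernel] at hd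
    simp only [Finset.mem_insert, Finset.mem_singleton] at hd
    rcases hd with e | e | e <;> rw [e] at h ⊢ <;> omega
  obtain ⟨γ, hγ⟩ := exists_prime_orderOf_dvd_card' (G := φ.ker) 3 hkW
  set g := (((γ : W) : S) : Cfsg.SU (2 + 1) F 11)
  have hg3 : orderOf g = 3 := by
    rw [Subgroup.orderOf_coe, Subgroup.orderOf_coe, Subgroup.orderOf_coe, hγ]
  have hgp : g ∈ poleStab F 11 := (γ : W).2.2
  have hgfix : suAct g (eW F) = eW F := by
    have h1 : pole g = 1 := congrArg Units.val (MonoidHom.mem_ker.1 γ.2)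
    rw [pole_spec hF hgp, h1, one_smul]
  -- the conjugate commutes with it
  obtain ⟨c, hc⟩ : ∃ c, suAct (π.1⁻¹ * g * π.1) (eW F) = c • eW F := by
    have hmem := hnorm.conj_mem ⟨(γ : W).1, (γ : W).2.1⟩ (γ : W).2 ⟨π⁻¹, inv_mem hπP⟩
    have h := (Subgroup.mem_subgroupOf.1 hmem).2
    simp only [Subgroup.coe_mul, Subgroup.coe_inv, inv_inv] at h
    exact ⟨_, pole_spec hF h⟩
  set ξ := suAct π.1 (eW F) with hξ
  have hgξ : suAct g ξ = c • ξ := by
    have := congrArg (suAct π.1) hc
    rw [← suAct_mul, suAct_smul, show π.1 * (π.1⁻¹ * g * π.1) = g * π.1 by group, suAct_mul] at this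
    exact this
  obtain ⟨M, hM⟩ := exists_iota_of_fix hF hgfix
  have hM1 : M ≠ 1 := fun e => by rw [← hM, e, map_one, orderOf_one] at hg3; omega
  have hM3 : M * M * M = 1 := iota_injective hF (by
    rw [map_mul, map_mul, hM, map_one, ← pow_three', ← hg3, pow_orderOf_eq_one])
  have hperp : Cfsg.hermForm (2 + 1) F 11 ξ (eW F) = 0 := by
    by_contra hne
    have hc1 : c = 1 := by
      have h := suAct_herm g ξ (eW F)
      rw [hgξ, hgfix, H.smul_left] at h
      exact mul_right_cancel₀ hne (h.trans (one_mul _).symm)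
    rw [hc1, one_smul] at hgξ
    refine hπA ⟨Cfsg.hermForm (2 + 1) F 11 ξ (eW F), ?_⟩
    have hd := decomp_eW hF ξ
    set α := Cfsg.hermForm (2 + 1) F 11 ξ (vb hF 1) with hαdef
    set β := Cfsg.hermForm (2 + 1) F 11 ξ (va hF 1) with hβdef
    have h := hgξ
    rw [hd, ← hM, suAct_add, suAct_add, suAct_smul, suAct_smul, suAct_smul, iota_eW, iota_va, iota_vb] at h
    have h' : ((M.1 0 0 : F) * α + (M.1 0 1 : F) * skw hF * β) • va hF 1 +
        ((M.1 1 0 : F) / skw hF * α + (M.1 1 1 : F) * β) • vb hF 1 = α • va hF 1 + β • vb hF 1 := by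
      linear_combination (norm := module) h
    obtain ⟨k1, k2⟩ := coords_inj hF h'
    have hs := skw_ne hF
    let Mm : Matrix (Fin 2) (Fin 2) F := M.1.map Subtype.val
    have hMm : Mm * Mm * Mm = 1 := by
      have := congrArg (fun X : PSL2.SL2 (fixF hF) => (fixF hF).subtype.mapMatrix X.1) hM3
      simpa [Mm, Matrix.SpecialLinearGroup.coe_mul, map_mul] using this
    obtain ⟨hα, hβ⟩ := sl2_cube_fixed (M := Mm) (α := α) (β := skw hF * β) h30
      (congrArg Subtype.val (PSL2.det_eq M)) hMm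
      (fun e => hM1 (Subtype.ext (Matrix.map_injective Subtype.val_injective
        (e.trans (Matrix.map_one Subtype.val rfl rfl).symm))))
      (by simp only [Mm, Matrix.map_apply]; linear_combination k1)
      (by simp only [Mm, Matrix.map_apply]; field_simp at k2; linear_combination k2)
    show ξ = _
    conv_lhs => rw [hd, hα, (mul_eq_zero.1 hβ).resolve_left hs]
    simp
  -- so an element negates the pole
  obtain ⟨t, ht, htω, htk⟩ := hlift (-1) (by norm_num)
  have htξ : suAct t ξ = -ξ := by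
    have hd := decomp_eW hF ξ
    rw [hperp, zero_smul, zero_add] at hd
    rw [hd, suAct_add, suAct_smul, suAct_smul, (kap_spec ht).1, lev_vb hF ht, htk]
    norm_num
    module
  have h : suAct (π.1⁻¹ * t * π.1) (eW F) = (-1 : F) • eW F := by
    rw [suAct_mul, suAct_mul, ← hξ, htξ, hξ, ← neg_one_smul F (suAct π.1 (eW F)), suAct_smul, suAct_inv_suAct]
  have htS : π.1⁻¹ * t * π.1 ∈ S := mul_mem (mul_mem (inv_mem π.2) htω) π.2
  have h3' : pole (π.1⁻¹ * t * π.1) ^ 3 = 1 := hpole ⟨⟨_, htS⟩, -1, h⟩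
  rw [pole_of_smul hF h] at h3'
  exact h2 (by linear_combination -h3')

end Cfsg.Agent.MinIndexU
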