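import Cfsg.Agent.Lib.MinIndexU.OneDim
/-
Every transitive non-trivial action of SU_3(5) moves at least fifty points.
* fixG, fixG_ne_top, card_Xof_le; fifty_le, index_psu_five_lower
-/
set_option autoImplicit false

namespace Cfsg.Agent.MinIndexU

open Cfsg.Agent.Unitary
open Cfsg.Agent.SUMinDegree
open scoped Matrix

variable {F : Type*} [Field F] [Fintype F] {q : ℕ} (hF : Fintype.card F = q ^ 2)

/-- The fixed field as an additive group. -/
def fixG : AddSubgroup F where
  carrier := {x | x ^ q = x}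
  zero_mem' := zero_pow_q hF
  add_mem' := fun {a b} (ha : a ^ q = a) (hb : b ^ q = b) => by
    show (a + b) ^ q = a + b
    rw [add_pow_q hF, ha, hb]
  neg_mem' := fun {a} (ha : a ^ q = a) => by
    show (-a) ^ q = -a
    rw [neg_pow_q hF, ha]

theorem fixG_ne_top : fixG hF ≠ ⊤ := fun h => by
  classical
  have h2 := card_norm_one hF
  have hq := two_le_q hF
  have hall : ∀ x : F, x ^ q = x := fun x => (h ▸ AddSubgroup.mem_top x : x ∈ fixG hF)
  have hle : ({x : F | x ^ (q + 1) = 1}).ncard ≤ (↑({1, -1} : Finset F) : Set F).ncard :=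
    Set.ncard_le_ncard fun x (hx : x ^ (q + 1) = 1) => by
      rw [pow_succ, hall] at hx
      rcases mul_self_eq_one_iff.1 hx with rfl | rfl <;> simp
  rw [Set.ncard_coe_finset] at hle
  change Nat.card {x : F // x ^ (q + 1) = 1} ≤ _ at hle
  have := Finset.card_le_two (a := (1 : F)) (b := -1)
  omega

variable {Ω : Type*} [MulAction (Cfsg.SU (2 + 1) F q) Ω]

/-- With trivial centre the first coordinates pair into the fixed field. -/
theorem herm_fixed_of_Zof_bot {ω : Ω} (hZ : Zof hF 1 ω = ⊥) :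
    ∀ a ∈ Xof hF 1 ω, ∀ b ∈ Xof hF 1 ω, Cfsg.hermForm 1 F q a b ∈ fixG hF := by
  intro a ha b hb
  have h := commutator_mem hF ω ha hb
  rw [hZ, AddSubgroup.mem_bot, sub_eq_zero] at h
  show _ ^ q = _
  rw [← (hermForm_isHerm hF 1).conj_symm a b]
  exact h.symm

end Cfsg.Agent.MinIndexU

namespace Cfsg.Agent.MinIndexU

open Cfsg.Agent.Unitary
open Cfsg.Agent.SUMinDegree

variable {F : Type*} [Field F] [Fintype F] (hF : Fintype.card F = 5 ^ 2)
variable {Ω : Type*} [MulAction (Cfsg.SU (2 + 1) F 5) Ω] [Finite Ω]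

include hF in
theorem fifty_le (htr : ∀ x y : Ω, ∃ g : Cfsg.SU (2 + 1) F 5, g • x = y)
    (hnt : ∃ (g : Cfsg.SU (2 + 1) F 5) (ω : Ω), g • ω ≠ ω) : 50 ≤ Nat.card Ω := by
  classical
  by_contra hlt
  obtain ⟨g, ω0, hg⟩ := hnt
  refine hg (full_fixed hF (by norm_num) (fun ω => ?_) g ω0)
  by_contra hnot
  change ¬ skewGrp hF ≤ Zof hF 1 ω at hnot
  have hle := Zof_le_skew hF (d := 1) ω
  have hZ : Zof hF 1 ω = ⊥ := by
    rcases (Nat.dvd_prime Nat.prime_five).1
      (card_skewGrp hF ▸ AddSubgroup.card_dvd_of_le hle) with h | h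
    · exact AddSubgroup.eq_bot_of_card_eq _ h
    · exact absurd (AddSubgroup.eq_of_le_of_card_ge hle (by rw [h, card_skewGrp hF])).ge hnot
  have hP := pst_le_points_mul hF htr ω
  have hT := card_stab_le hF ω
  rw [hZ, AddSubgroup.card_bot, mul_one] at hT
  have hX5 : Nat.card (Xof hF 1 ω) ≤ 5 := by
    simpa using card_le_pow hF (fixG_ne_top hF) (herm_fixed_of_Zof_bot hF hZ)
  have hS24 : (Sof hF ω).ncard ≤ 24 := by
    calc (Sof hF ω).ncard ≤ ({k : F | k ≠ 0}).ncard := Set.ncard_le_ncard fun k hk => hk.1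
      _ = 24 := by
        rw [← Nat.card_coe_set_eq]
        show Nat.card {k : F // k ≠ 0} = 24
        rw [Nat.card_eq_fintype_card, Fintype.card_subtype_compl, Fintype.card_subtype_eq, hF]
        norm_num
  by_cases hX1 : Nat.card (Xof hF 1 ω) = 1
  · rw [hX1, one_mul] at hT
    have := hP.trans (Nat.mul_le_mul (show Nat.card Ω ≤ 49 by omega) (hT.trans hS24))
    norm_num at this
  have hX : Nat.card (Xof hF 1 ω) = 5 := by
    have hd : Nat.card (Xof hF 1 ω) ∣ 5 ^ 2 := by
      have := AddSubgroup.card_addSubgroup_dvd_card (Xof hF 1 ω)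
      rwa [card_V hF, pow_one] at this
    obtain ⟨i, hi, he⟩ := (Nat.dvd_prime_pow Nat.prime_five).1 hd
    interval_cases i <;> simp_all
  obtain ⟨x0, hx0, hne⟩ : ∃ x ∈ Xof hF 1 ω, x ≠ 0 := by
    rcases (Xof hF 1 ω).bot_or_exists_ne_zero with h | h
    · rw [h, AddSubgroup.card_bot] at hX; omega
    · exact h
  have h5 : (5 : F) = 0 := by
    have h := FiniteField.cast_card_eq_zero F
    rw [hF, Nat.cast_pow] at h
    simpa using h
  have hmult : AddSubgroup.zmultiples x0 = Xof hF 1 ω := by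
    have hle' : AddSubgroup.zmultiples x0 ≤ Xof hF 1 ω := AddSubgroup.zmultiples_le_of_mem hx0
    refine AddSubgroup.eq_of_le_of_card_ge hle' ?_
    rw [hX]
    rcases (Nat.dvd_prime Nat.prime_five).1 (hX ▸ AddSubgroup.card_dvd_of_le hle') with h | h
    · rw [AddSubgroup.card_eq_one, AddSubgroup.zmultiples_eq_bot] at h; exact absurd h hne
    · omega
  have hS : (Sof hF ω).ncard ≤ 12 := by
    rw [← card_pow_eq_one hF (d := 12) (by norm_num) (by norm_num), ← Nat.card_coe_set_eq]
    refine Nat.card_le_card_of_injective (fun k => ⟨k.1, ?_⟩) fun a b h => Subtype.ext (congrArg (·.1) h :)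
    obtain ⟨hk0, hkX, -⟩ := k.2
    have h := hkX x0 hx0
    rw [← hmult, AddSubgroup.mem_zmultiples_iff] at h
    obtain ⟨n, hn⟩ := h
    obtain ⟨i, hi⟩ := Function.ne_iff.1 hne
    have hc : cfac 5 k.1 = (n : F) := by
      have := congrFun hn i
      simp only [Pi.smul_apply, smul_eq_mul, zsmul_eq_mul] at this
      exact (mul_right_cancel₀ hi this).symm
    haveI : CharP F 5 := (CharP.charP_iff_prime_eq_zero Nat.prime_five).2 (by exact_mod_cast h5)
    haveI := Fact.mk Nat.prime_five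
    have hcc : cfac 5 k.1 ^ 5 = cfac 5 k.1 := by
      rw [hc]; exact map_intCast (frobenius F 5) n
    have h24 : k.1 ^ 24 = 1 := by
      have := FiniteField.pow_card_sub_one_eq_one k.1 hk0
      rwa [hF] at this
    rw [cfac, ← pow_add, ← pow_mul] at hcc
    norm_num at hcc
    have h9 : k.1 ^ 9 * k.1 ^ 36 = k.1 ^ 9 * 1 := by rw [← pow_add, mul_one]; exact hcc
    have h36 := mul_left_cancel₀ (pow_ne_zero 9 hk0) h9
    rwa [show (36 : ℕ) = 24 + 12 from rfl, pow_add, h24, one_mul] at h36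
  rw [hX] at hT
  have := hP.trans (Nat.mul_le_mul (show Nat.card Ω ≤ 49 by omega) (hT.trans (Nat.mul_le_mul_left 5 hS)))
  norm_num at this

include hF in
theorem index_psu_five_lower (H : Subgroup (Cfsg.PSU (2 + 1) F 5)) (hH : H ≠ ⊤) : 50 ≤ H.index := by
  let K := H.comap (QuotientGroup.mk' (Subgroup.center (Cfsg.SU (2 + 1) F 5)))
  have hi : K.index = H.index := H.index_comap_of_surjective (QuotientGroup.mk'_surjective _)
  have hK : K ≠ ⊤ := fun e => hH (Subgroup.index_eq_one.1 (hi ▸ Subgroup.index_eq_one.2 e))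
  obtain ⟨htr, hnt⟩ := index_action K hK
  rw [← hi]
  exact fifty_le hF htr hnt

end Cfsg.Agent.MinIndexU
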