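import Cfsg.Agent.Lib.MinIndexU.ThreeLines
import Cfsg.Agent.Lib.RegUnip.SU3Base
import Cfsg.Agent.Lib.PSL2.Transvections
/-
SL_2 of the fixed field inside SU_3, acting on the isotropic lines of a hyperbolic plane.
* fixF, skw, eW, frame; iota, iota_va, iota_vb, iota_eW, iota_injective, exists_iota_of_fix
* lev_ext, levK_eW, iota_diag, iota_upT; PlaneLine, planeAct, card_planeLine
-/
set_option autoImplicit false

namespace Cfsg.Agent.MinIndexU

open Cfsg.Agent.Unitary
open Cfsg.Agent.SUMinDegree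
open Cfsg.Agent.RegUnip.SU3
open scoped Matrix

variable {F : Type*} [Field F] [Fintype F] {q : ℕ} (hF : Fintype.card F = q ^ 2)

local notation "h3" => Cfsg.hermForm (2 + 1) F q
local notation "G3" => Cfsg.SU (2 + 1) F q
local notation "σ" => Cfsg.Agent.Unitary.conjHom hF

/-- The fixed field. -/
def fixF : Subfield F := (Cfsg.Agent.Unitary.conjHom hF).eqLocusField (RingHom.id F)

theorem mem_fixF {x : F} : x ∈ fixF hF ↔ x ^ q = x := Iff.rfl

/-- A chosen non-zero skew element. -/
noncomputable def skw : F := Classical.choose (exists_skew hF)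

theorem skw_ne : skw hF ≠ 0 := (Classical.choose_spec (exists_skew hF)).1

theorem skw_skew : skw hF ^ q = -skw hF := (Classical.choose_spec (exists_skew hF)).2

theorem mul_skw_skew {r : F} (hr : r ∈ fixF hF) : r * skw hF ∈ skewGrp hF := by
  show _ + _ ^ q = 0
  rw [mul_pow, (mem_fixF hF).1 hr, skw_skew hF]; ring

theorem card_fixF : Nat.card (fixF hF) = q := by
  refine Eq.trans ?_ (card_skewGrp hF)
  refine Nat.card_eq_of_bijective (fun r => (⟨r.1 * skw hF, mul_skw_skew hF r.2⟩ : skewGrp hF)) ⟨?_, ?_⟩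
  · intro a b h
    exact Subtype.ext (mul_right_cancel₀ (skw_ne hF) (congrArg Subtype.val h :))
  · rintro ⟨c, hc⟩
    have hc' : c + c ^ q = 0 := hc
    refine ⟨⟨c / skw hF, ?_⟩, Subtype.ext (div_mul_cancel₀ _ (skw_ne hF))⟩
    rw [mem_fixF, div_pow, skw_skew hF, show c ^ q = -c by linear_combination hc', neg_div_neg_eq]

/-- The pole of the plane of `va` and `vb`. -/
noncomputable def eW (F : Type*) [Field F] : Fin (2 + 1) → F := inW 1 fun _ => 1

include hF in
theorem eW_eW : h3 (eW F) (eW F) = 1 := by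
  rw [eW, inW_inW hF]; simp [Cfsg.hermForm]

theorem inW_eq (w : Fin 1 → F) : inW 1 w = w 0 • eW F := by
  rw [eW, ← map_smul]
  congr 1
  funext i
  simp [Subsingleton.elim i 0]

theorem va_eW : h3 (va hF 1) (eW F) = 0 := va_inW hF _

theorem vb_eW : h3 (vb hF 1) (eW F) = 0 := vb_inW hF _

theorem decomp_eW (x : Fin (2 + 1) → F) :
    x = h3 x (eW F) • eW F + h3 x (va hF 1) • vb hF 1 + h3 x (vb hF 1) • va hF 1 := by
  have H := hermForm_isHerm hF (2 + 1)
  have hd := decomp hF x
  rw [inW_eq] at hd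
  have e : prW (d := 1) x 0 = h3 x (eW F) := by
    conv_rhs => rw [hd]
    simp only [H.add_left, H.smul_left, eW_eW hF, va_eW hF, vb_eW hF, mul_zero, add_zero, mul_one]
  rwa [e] at hd

/-- The frame of `va`, `eW`, `vb`. -/
noncomputable def frame3 : RegUnip.SU.Fr (F := F) q (2 + 1) 0 where
  P i := if i = 0 then va hF 1 else 0
  R i := if i = 0 then vb hF 1 else 0
  E := eW F
  hPP i j := by split_ifs <;> simp only [va_va hF, (hermForm_isHerm hF _).zero_left, (hermForm_isHerm hF _).zero_right hF]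
  hRR i j := by split_ifs <;> simp only [vb_vb hF, (hermForm_isHerm hF _).zero_left, (hermForm_isHerm hF _).zero_right hF]
  hPR i j := by
    split_ifs <;>
      first
      | (exfalso; omega)
      | simp only [va_vb hF, (hermForm_isHerm hF _).zero_left, (hermForm_isHerm hF _).zero_right hF]
  hPE i := by split_ifs <;> simp only [va_eW hF, (hermForm_isHerm hF _).zero_left]
  hRE i := by split_ifs <;> simp only [vb_eW hF, (hermForm_isHerm hF _).zero_left]
  hEE := eW_eW hF
  decomp v := by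
    simp [Finset.sum_range_succ]
    conv_lhs => rw [decomp_eW hF v]
    abel

theorem vecOf_frame (x : Fin 3 → F) :
    vecOf (frame3 hF) x = x 0 • va hF 1 + x 1 • eW F + x 2 • vb hF 1 := rfl

/-- The coordinate matrix of an element of `SL_2`. -/
noncomputable def iotaM (g : PSL2.SL2 (fixF hF)) : Matrix (Fin 3) (Fin 3) F :=
  !![(g.1 0 0 : F), 0, (g.1 0 1 : F) * skw hF; 0, 1, 0; (g.1 1 0 : F) / skw hF, 0, (g.1 1 1 : F)]

theorem iotaM_good (g : PSL2.SL2 (fixF hF)) : Good σ (iotaM hF g) := by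
  have hd : (g.1 0 0 : F) * g.1 1 1 - g.1 0 1 * g.1 1 0 = 1 := congrArg Subtype.val (PSL2.det_eq g)
  have hs : ∀ x : fixF hF, (x : F) ^ q = x := fun x => x.2
  have h1 := skw_skew hF
  have h0 := skw_ne hF
  have hσ : ∀ x : F, σ x = x ^ q := fun _ => rfl
  refine good_of_cols (by simp [iotaM, Matrix.det_fin_three]; field_simp; linear_combination hd)
    ?_ ?_ ?_ ?_ ?_ ?_ ?_ ?_ ?_ <;>
    simp [iotaM, hσ, hs, h1, mul_pow, div_pow, zero_pow_q hF, -conjHom_apply] <;>
    field_simp <;>
    first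
    | ring1
    | linear_combination hd

theorem iotaM_mul (g g' : PSL2.SL2 (fixF hF)) : iotaM hF (g * g') = iotaM hF g * iotaM hF g' := by
  have h0 := skw_ne hF
  ext i j
  fin_cases i <;> fin_cases j <;>
    simp [iotaM, Matrix.mul_apply, Fin.sum_univ_three, Fin.sum_univ_two] <;> (try field_simp)

theorem iotaM_one : iotaM hF 1 = 1 := by
  ext i j
  fin_cases i <;> fin_cases j <;> simp [iotaM]

/-- The embedding. -/
noncomputable def iota : PSL2.SL2 (fixF hF) →* G3 where
  toFun g := elt hF (frame3 hF) (iotaM hF g)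
  map_one' := by rw [iotaM_one]; exact elt_one (hF := hF) (frame3 hF)
  map_mul' g g' := by rw [iotaM_mul, elt_mul _ (iotaM_good hF g) (iotaM_good hF g')]

theorem iota_vec (g : PSL2.SL2 (fixF hF)) (x : Fin 3 → F) :
    suAct (iota hF g) (x 0 • va hF 1 + x 1 • eW F + x 2 • vb hF 1) =
      ((g.1 0 0 : F) * x 0 + (g.1 0 1 : F) * skw hF * x 2) • va hF 1 + x 1 • eW F +
        ((g.1 1 0 : F) / skw hF * x 0 + (g.1 1 1 : F) * x 2) • vb hF 1 := by
  have h := elt_apply (frame3 hF) (iotaM_good hF g) x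
  rw [vecOf_frame, vecOf_frame] at h
  refine h.trans ?_
  simp [iotaM, Matrix.mulVec, dotProduct, Fin.sum_univ_three]

theorem iota_va (g : PSL2.SL2 (fixF hF)) :
    suAct (iota hF g) (va hF 1) = (g.1 0 0 : F) • va hF 1 + ((g.1 1 0 : F) / skw hF) • vb hF 1 := by
  simpa using iota_vec hF g ![1, 0, 0]

theorem iota_vb (g : PSL2.SL2 (fixF hF)) :
    suAct (iota hF g) (vb hF 1) = ((g.1 0 1 : F) * skw hF) • va hF 1 + (g.1 1 1 : F) • vb hF 1 := by
  simpa using iota_vec hF g ![0, 0, 1]

theorem iota_eW (g : PSL2.SL2 (fixF hF)) : suAct (iota hF g) (eW F) = eW F := by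
  simpa using iota_vec hF g ![0, 1, 0]

theorem coords_inj {a b a' b' : F} (h : a • va hF 1 + b • vb hF 1 = a' • va hF 1 + b' • vb hF 1) :
    a = a' ∧ b = b' := by
  have H := hermForm_isHerm hF (2 + 1)
  have h1 := congrArg (fun x => h3 x (vb hF 1)) h
  have h2 := congrArg (fun x => h3 x (va hF 1)) h
  simp only [H.add_left, H.smul_left, va_va hF, vb_vb hF, va_vb hF, vb_va hF, mul_one, mul_zero,
    add_zero, zero_add] at h1 h2
  exact ⟨h1, h2⟩

theorem iota_injective : Function.Injective (iota hF) := by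
  intro g g' h
  have ha := (iota_va hF g).symm.trans ((congrArg (fun x => suAct x (va hF 1)) h).trans (iota_va hF g'))
  have hb := (iota_vb hF g).symm.trans ((congrArg (fun x => suAct x (vb hF 1)) h).trans (iota_vb hF g'))
  obtain ⟨a1, a2⟩ := coords_inj hF ha
  obtain ⟨b1, b2⟩ := coords_inj hF hb
  rw [div_left_inj' (skw_ne hF)] at a2
  have b1' := mul_right_cancel₀ (skw_ne hF) b1
  ext i j
  fin_cases i <;> fin_cases j
  exacts [a1, b1', a2, b2]

include hF in
theorem ext_three {g g' : G3} (ha : suAct g (va hF 1) = suAct g' (va hF 1))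
    (hb : suAct g (vb hF 1) = suAct g' (vb hF 1)) (he : suAct g (eW F) = suAct g' (eW F)) : g = g' := by
  refine suAct_ext fun x => ?_
  rw [decomp_eW hF x]
  simp only [suAct_add, suAct_smul, ha, hb, he]

/-- An element fixing the pole is in the image. -/
theorem exists_iota_of_fix {g : G3} (hg : suAct g (eW F) = eW F) : ∃ M, iota hF M = g := by
  have H := hermForm_isHerm hF (2 + 1)
  have hE : ∀ x, h3 (suAct g x) (eW F) = h3 x (eW F) := fun x => by
    conv_lhs => rw [← hg]
    exact suAct_herm g _ _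
  set a := h3 (suAct g (va hF 1)) (vb hF 1)
  set c := h3 (suAct g (va hF 1)) (va hF 1)
  set b := h3 (suAct g (vb hF 1)) (vb hF 1)
  set e := h3 (suAct g (vb hF 1)) (va hF 1)
  have hga : suAct g (va hF 1) = a • va hF 1 + c • vb hF 1 := by
    conv_lhs => rw [decomp_eW hF (suAct g (va hF 1)), hE, va_eW hF, zero_smul, zero_add, add_comm]
  have hgb : suAct g (vb hF 1) = b • va hF 1 + e • vb hF 1 := by
    conv_lhs => rw [decomp_eW hF (suAct g (vb hF 1)), hE, vb_eW hF, zero_smul, zero_add, add_comm]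
  have hdet : a * e - b * c = 1 := by
    let B : Matrix (Fin (2 + 1)) (Fin (2 + 1)) F := Matrix.of fun i j => ![va hF 1, eW F, vb hF 1] j i
    let C : Matrix (Fin (2 + 1)) (Fin (2 + 1)) F := !![a, 0, b; 0, 1, 0; c, 0, e]
    have hBC : ((g : Matrix.SpecialLinearGroup (Fin (2 + 1)) F) : Matrix _ _ F) * B = B * C := by
      ext i j
      rw [Matrix.mul_apply, Matrix.mul_apply]
      fin_cases j
      · have := congrFun hga i
        simpa [B, C, suAct, Matrix.mulVec, dotProduct, Fin.sum_univ_three, mul_comm] using this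
      · have := congrFun hg i
        simpa [B, C, suAct, Matrix.mulVec, dotProduct, Fin.sum_univ_three, mul_comm] using this
      · have := congrFun hgb i
        simpa [B, C, suAct, Matrix.mulVec, dotProduct, Fin.sum_univ_three, mul_comm] using this
    have hB : B.det ≠ 0 := by
      refine ((Matrix.isUnit_iff_isUnit_det B).1 (Matrix.mulVec_surjective_iff_isUnit.1 fun x => ?_)).ne_zero
      refine ⟨![h3 x (vb hF 1), h3 x (eW F), h3 x (va hF 1)], ?_⟩
      conv_rhs => rw [decomp_eW hF x]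
      funext i
      simp [B, Matrix.mulVec, dotProduct, Fin.sum_univ_three]
      ring
    have h := congrArg Matrix.det hBC
    rw [Matrix.det_mul, Matrix.det_mul, Matrix.SpecialLinearGroup.det_coe, one_mul, eq_comm,
      mul_eq_left₀ hB] at h
    simp [C, Matrix.det_fin_three] at h
    linear_combination h
  have r1 : a * c ^ q + c * a ^ q = 0 := by
    have h := (suAct_herm g (va hF 1) (va hF 1)).trans (va_va hF)
    rw [hga] at h
    simp only [H.add_left, H.add_right hF, H.smul_left, H.smul_right, va_va hF, vb_vb hF, va_vb hF,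
      vb_va hF] at h
    linear_combination h
  have r2 : b * e ^ q + e * b ^ q = 0 := by
    have h := (suAct_herm g (vb hF 1) (vb hF 1)).trans (vb_vb hF)
    rw [hgb] at h
    simp only [H.add_left, H.add_right hF, H.smul_left, H.smul_right, va_va hF, vb_vb hF, va_vb hF,
      vb_va hF] at h
    linear_combination h
  have r3 : a * e ^ q + c * b ^ q = 1 := by
    have h := (suAct_herm g (va hF 1) (vb hF 1)).trans (va_vb hF)
    rw [hga, hgb] at h
    simp only [H.add_left, H.add_right hF, H.smul_left, H.smul_right, va_va hF, vb_vb hF, va_vb hF,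
      vb_va hF] at h
    linear_combination h
  have r4 : b * c ^ q + e * a ^ q = 1 := by
    have h := (suAct_herm g (vb hF 1) (va hF 1)).trans (vb_va hF)
    rw [hga, hgb] at h
    simp only [H.add_left, H.add_right hF, H.smul_left, H.smul_right, va_va hF, vb_vb hF, va_vb hF,
      vb_va hF] at h
    linear_combination h
  have he : e ^ q = e := by linear_combination e * r3 - c * r2 - e ^ q * hdet
  have hb : b ^ q = -b := by linear_combination -b * r3 + a * r2 - b ^ q * hdet
  have ha : a ^ q = a := by linear_combination a * r4 - b * r1 - a ^ q * hdet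
  have hc : c ^ q = -c := by linear_combination -c * r4 + e * r1 - c ^ q * hdet
  have h0 := skw_ne hF
  have hbs : (b / skw hF) ^ q = b / skw hF := by rw [div_pow, hb, skw_skew hF, neg_div_neg_eq]
  have hcs : (c * skw hF) ^ q = c * skw hF := by rw [mul_pow, hc, skw_skew hF, neg_mul_neg]
  obtain ⟨M, h00, h01, h10, h11⟩ : ∃ M : PSL2.SL2 (fixF hF),
      (M.1 0 0 : F) = a ∧ (M.1 0 1 : F) = b / skw hF ∧ (M.1 1 0 : F) = c * skw hF ∧ (M.1 1 1 : F) = e := by
    refine ⟨⟨!![⟨a, (mem_fixF hF).2 ha⟩, ⟨b / skw hF, (mem_fixF hF).2 hbs⟩;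
      ⟨c * skw hF, (mem_fixF hF).2 hcs⟩, ⟨e, (mem_fixF hF).2 he⟩], ?_⟩, rfl, rfl, rfl, rfl⟩
    rw [Matrix.det_fin_two_of]
    refine Subtype.ext ?_
    show a * e - b / skw hF * (c * skw hF) = 1
    field_simp
    linear_combination hdet
  refine ⟨M, ext_three hF ?_ ?_ ?_⟩
  · rw [iota_va, hga, h00, h10, mul_div_cancel_right₀ _ h0]
  · rw [iota_vb, hgb, h01, h11, div_mul_cancel₀ _ h0]
  · rw [iota_eW, hg]

theorem lev_eW {l : G3} (hl : l ∈ lev hF 1) : suAct l (eW F) = kap hF l ^ (q - 1) • eW F := by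
  rw [eW, gam_spec hl, gam_one_dim hF hl, map_smul]

theorem lev_vb {l : G3} (hl : l ∈ lev hF 1) :
    suAct l (vb hF 1) = (kap hF l ^ q)⁻¹ • vb hF 1 := by
  obtain ⟨hk, hk0⟩ := kap_spec hl
  obtain ⟨-, b, hb⟩ := id hl
  have := suAct_herm l (vb hF 1) (va hF 1)
  rw [hb, hk, (hermForm_isHerm hF (2 + 1)).smul_left, (hermForm_isHerm hF (2 + 1)).smul_right,
    vb_va hF, mul_one] at this
  rw [hb, eq_inv_of_mul_eq_one_left this]

/-- A Levi element is determined by its scalar. -/
theorem lev_ext {l l' : G3} (hl : l ∈ lev hF 1) (hl' : l' ∈ lev hF 1) (h : kap hF l = kap hF l') :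
    l = l' :=
  ext_three hF (by rw [(kap_spec hl).1, (kap_spec hl').1, h]) (by rw [lev_vb hF hl, lev_vb hF hl', h])
    (by rw [lev_eW hF hl, lev_eW hF hl', h])

/-- The diagonal matrices. -/
def diagT (u : fixF hF) (hu : u ≠ 0) : PSL2.SL2 (fixF hF) :=
  ⟨!![u, 0; 0, u⁻¹], by rw [Matrix.det_fin_two_of]; field_simp; ring⟩

theorem iota_diag {l : G3} (hl : l ∈ lev hF 1) {u : fixF hF} (hu : u ≠ 0) (hk : kap hF l = u.1) :
    iota hF (diagT hF u hu) = l := by
  refine ext_three hF ?_ ?_ ?_
  · rw [iota_va, (kap_spec hl).1, hk]; simp [diagT]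
  · rw [iota_vb, lev_vb hF hl, hk, (mem_fixF hF).1 u.2]; simp [diagT]
  · rw [iota_eW, lev_eW hF hl, hk,
      (fixed_iff hF (fun h => hu (Subtype.ext h))).1 u.2, one_smul]

theorem iota_upT (r : fixF hF) :
    iota hF (PSL2.upT r) = tv hF (va hF 1) (va_va hF) ⟨r.1 * skw hF, mul_skw_skew hF r.2⟩ := by
  refine ext_three hF ?_ ?_ ?_
  · rw [iota_va, suAct_tv, va_va hF]; simp [PSL2.upT]
  · rw [iota_vb, suAct_tv, vb_va hF]; simp [PSL2.upT, add_comm]
  · rw [iota_eW, suAct_tv, eW, inW_va hF]; simp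

/-! ### The lines of the plane -/

/-- The isotropic lines in the plane. -/
def PlaneLine : Type _ :=
  {L : IsoLine (2 + 1) F q // ∀ v ∈ L.1, Cfsg.hermForm (2 + 1) F q v (eW F) = 0}

include hF in
theorem mk_inPlane {v : Fin (2 + 1) → F} (hv : v ≠ 0) (hv0 : h3 v v = 0) (h : h3 v (eW F) = 0) :
    ∀ x ∈ (IsoLine.mk v hv hv0).1, h3 x (eW F) = 0 := by
  intro x hx
  obtain ⟨c, rfl⟩ := Submodule.mem_span_singleton.1 hx
  rw [(hermForm_isHerm hF _).smul_left, h, mul_zero]

include hF in
theorem smul_inPlane {g : G3} {c : F} (hg : suAct g (eW F) = c • eW F) {L : IsoLine (2 + 1) F q}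
    (hL : ∀ v ∈ L.1, h3 v (eW F) = 0) : ∀ v ∈ (g • L).1, h3 v (eW F) = 0 := by
  obtain ⟨w, hw, hw0, rfl⟩ := L.exists_mk
  rw [IsoLine.smul_mk]
  refine mk_inPlane hF _ _ ?_
  have h := hL w (Submodule.mem_span_singleton_self w)
  have h2 := suAct_herm g w (eW F)
  rw [hg, (hermForm_isHerm hF _).smul_right, h, mul_eq_zero] at h2
  refine h2.resolve_left (pow_ne_zero _ fun hc => ?_)
  have := suAct_inv_suAct g (eW F)
  rw [hg, hc, zero_smul, suAct_zero] at this
  exact one_ne_zero (α := F) (by rw [← eW_eW hF, ← this, (hermForm_isHerm hF _).zero_left])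

/-- The action of `SL_2` on the lines of the plane. -/
@[implicit_reducible]
noncomputable def planeAct : MulAction (PSL2.SL2 (fixF hF)) (PlaneLine (F := F) (q := q)) where
  smul M L := ⟨iota hF M • L.1, smul_inPlane hF (c := 1) (by rw [iota_eW, one_smul]) L.2⟩
  one_smul L := Subtype.ext (by
    show iota hF 1 • L.1 = L.1
    rw [map_one, one_smul])
  mul_smul M M' L := Subtype.ext (by
    show iota hF (M * M') • L.1 = iota hF M • (iota hF M' • L.1)
    rw [map_mul, mul_smul])

theorem pt_iso (r : fixF hF) :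
    h3 ((r.1 * skw hF) • va hF 1 + vb hF 1) ((r.1 * skw hF) • va hF 1 + vb hF 1) = 0 ∧
    (r.1 * skw hF) • va hF 1 + vb hF 1 ≠ 0 ∧
    h3 ((r.1 * skw hF) • va hF 1 + vb hF 1) (eW F) = 0 := by
  have H := hermForm_isHerm hF (2 + 1)
  refine ⟨?_, fun h => ?_, ?_⟩
  · simp only [H.add_left, H.add_right hF, H.smul_left, H.smul_right, va_va hF, vb_vb hF, va_vb hF,
      vb_va hF]
    have h' := mul_skw_skew hF r.2
    change _ + _ = 0 at h'
    linear_combination h'
  · have := congrArg (fun x => h3 x (va hF 1)) h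
    simp only [H.add_left, H.smul_left, va_va hF, vb_va hF, H.zero_left, mul_zero, zero_add] at this
    exact one_ne_zero this
  · simp only [H.add_left, H.smul_left, va_eW hF, vb_eW hF, mul_zero, add_zero]

/-- The line of a finite point of the plane. -/
noncomputable def ptLine (r : fixF hF) : IsoLine (2 + 1) F q :=
  IsoLine.mk _ (pt_iso hF r).2.1 (pt_iso hF r).1

theorem ptLine_inPlane (r : fixF hF) : ∀ v ∈ (ptLine hF r).1, h3 v (eW F) = 0 :=
  mk_inPlane hF _ _ (pt_iso hF r).2.2

theorem vaLine_inPlane : ∀ v ∈ (vaLine hF).1, h3 v (eW F) = 0 :=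
  mk_inPlane hF (va_ne_zero hF) (va_va hF) (va_eW hF)

theorem ptLine_ne (r : fixF hF) : ptLine hF r ≠ vaLine hF := by
  intro h
  obtain ⟨c, hc⟩ := IsoLine.mk_eq_iff.1 h
  have := coords_inj hF (a := c) (b := 0) (a' := r.1 * skw hF) (b' := 1)
    (by rw [zero_smul, one_smul, add_zero, hc])
  exact zero_ne_one this.2

theorem ptLine_injective : Function.Injective (ptLine hF) := by
  intro r r' h
  obtain ⟨c, hc⟩ := IsoLine.mk_eq_iff.1 h
  have := coords_inj hF (a := c * (r'.1 * skw hF)) (b := c) (a' := r.1 * skw hF) (b' := 1)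
    (by rw [one_smul, ← smul_smul, ← smul_add, hc])
  rw [this.2, one_mul] at this
  exact Subtype.ext (mul_right_cancel₀ (skw_ne hF) this.1).symm

/-- The lines of the plane. -/
theorem plane_cases {L : IsoLine (2 + 1) F q} (hL : ∀ v ∈ L.1, h3 v (eW F) = 0) :
    L = vaLine hF ∨ ∃ r, L = ptLine hF r := by
  have H := hermForm_isHerm hF (2 + 1)
  obtain ⟨v, hv, hv0, rfl⟩ := L.exists_mk
  have hve := hL v (Submodule.mem_span_singleton_self v)
  have hd := decomp_eW hF v
  rw [hve, zero_smul, zero_add] at hd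
  set y := h3 v (va hF 1)
  set x := h3 v (vb hF 1)
  by_cases hy : y = 0
  · refine Or.inl (IsoLine.mk_eq_iff.2 ⟨x, ?_⟩)
    rw [hd, hy, zero_smul, zero_add]
  · have hyq : y ^ q ≠ 0 := pow_ne_zero _ hy
    have hiso : x * y ^ q + y * x ^ q = 0 := by
      rw [hd] at hv0
      simp only [H.add_left, H.add_right hF, H.smul_left, H.smul_right, va_va hF, vb_vb hF,
        va_vb hF, vb_va hF] at hv0
      linear_combination hv0
    have hr : x / y / skw hF ∈ fixF hF := by
      have h1 : x ^ q / y ^ q = -(x / y) := by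
        field_simp
        linear_combination hiso
      rw [mem_fixF, div_pow, div_pow, h1, skw_skew hF, neg_div_neg_eq]
    refine Or.inr ⟨⟨_, hr⟩, IsoLine.mk_eq_iff.2 ⟨y, ?_⟩⟩
    rw [smul_add, smul_smul, div_mul_cancel₀ _ (skw_ne hF), mul_div_cancel₀ _ hy]
    exact (add_comm _ _).trans hd.symm

include hF in
theorem card_planeLine : Nat.card (PlaneLine (F := F) (q := q)) = q + 1 := by
  classical
  refine Eq.trans ?_ (show Nat.card (Option (fixF hF)) = q + 1 by rw [Finite.card_option, card_fixF hF])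
  refine (Nat.card_eq_of_bijective (fun o : Option (fixF hF) => match o with
    | none => (⟨vaLine hF, vaLine_inPlane hF⟩ : PlaneLine)
    | some r => ⟨ptLine hF r, ptLine_inPlane hF r⟩) ⟨?_, ?_⟩).symm
  · intro o o' h
    have h' := congrArg Subtype.val h
    rcases o with _ | r <;> rcases o' with _ | r' <;> simp only at h'
    · rfl
    · exact absurd h'.symm (ptLine_ne hF r')
    · exact absurd h' (ptLine_ne hF r)
    · exact congrArg some (ptLine_injective hF h')
  · rintro ⟨L, hL⟩
    rcases plane_cases hF hL with rfl | ⟨r, rfl⟩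
    exacts [⟨none, rfl⟩, ⟨some r, rfl⟩]

end Cfsg.Agent.MinIndexU
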