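import Cfsg.Agent.Lib.MinIndexU.OneDim
/-
Point stabilisers of SU_3 permute the isotropic lines transitively when there are at most q³ points.
* pretransitive_of_fix; radQ_fix_line, radQ_pgroup; card_lineStab
* lines_transitive, points_mul_pointLine
-/
set_option autoImplicit false

namespace Cfsg.Agent.MinIndexU

open Cfsg.Agent.Unitary
open Cfsg.Agent.SUMinDegree
open scoped Matrix

/-- A finite action is transitive if every point is the only fixed point of some `p`-element. -/
theorem mem_orbit_of_fix {G X : Type*} [Group G] [MulAction G X] [Finite X] {p : ℕ} (hp : p.Prime)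
    (h : ∀ x : X, ∃ g : G, (∃ n : ℕ, g ^ p ^ n = 1) ∧ ∀ y : X, g • y = y ↔ y = x) (x y : X) :
    y ∈ MulAction.orbit G x := by
  classical
  by_contra hy
  have key : ∀ z : X, ∀ g : G, (∃ n : ℕ, g ^ p ^ n = 1) → (∀ w : X, g • w = w ↔ w = z) →
      Nat.card (MulAction.orbit G x) ≡ (if z ∈ MulAction.orbit G x then 1 else 0) [MOD p] := by
    intro z g ⟨n, hn⟩ hfix
    have : Fact p.Prime := ⟨hp⟩
    have hP : IsPGroup p (Subgroup.zpowers g) := by
      intro w
      refine ⟨n, ?_⟩
      obtain ⟨i, hi⟩ := Subgroup.mem_zpowers_iff.1 w.2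
      refine Subtype.ext ?_
      rw [Subgroup.coe_pow, ← hi, ← zpow_natCast (g ^ i), ← zpow_mul, mul_comm, zpow_mul, zpow_natCast, hn,
        one_zpow, Subgroup.coe_one]
    refine (hP.card_modEq_card_fixedPoints (MulAction.orbit G x)).trans ?_
    have hiff : ∀ w : MulAction.orbit G x,
        w ∈ MulAction.fixedPoints (Subgroup.zpowers g) (MulAction.orbit G x) ↔ (w : X) = z := by
      intro w
      constructor
      · intro hw
        exact (hfix _).1 (congrArg Subtype.val (hw ⟨g, Subgroup.mem_zpowers g⟩))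
      · intro hw a
        obtain ⟨i, hi⟩ := Subgroup.mem_zpowers_iff.1 a.2
        refine Subtype.ext ?_
        show (a : G) • (w : X) = w
        rw [← hi]
        exact (MulAction.mem_stabilizer_iff).1
          (zpow_mem (MulAction.mem_stabilizer_iff.2 ((hfix _).2 hw)) i)
    split
    · next hz =>
      rw [show Nat.card (MulAction.fixedPoints (Subgroup.zpowers g) (MulAction.orbit G x)) = 1 from
        Nat.card_eq_one_iff_exists.2 ⟨⟨⟨z, hz⟩, (hiff _).2 rfl⟩, fun a =>
          Subtype.ext (Subtype.ext ((hiff a.1).1 a.2))⟩]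
    · next hz =>
      have : IsEmpty (MulAction.fixedPoints (Subgroup.zpowers g) (MulAction.orbit G x)) :=
        ⟨fun a => hz ((hiff a.1).1 a.2 ▸ a.1.2)⟩
      rw [Nat.card_of_isEmpty]
  obtain ⟨g, hg, hgf⟩ := h x
  obtain ⟨g', hg', hgf'⟩ := h y
  have h1 := key x g hg hgf
  have h2 := key y g' hg' hgf'
  rw [if_pos (MulAction.mem_orbit_self x)] at h1
  rw [if_neg hy] at h2
  have := hp.two_le
  have h3 := h1.symm.trans h2
  rw [Nat.ModEq, Nat.one_mod_eq_one.2 (by omega), Nat.zero_mod] at h3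
  exact one_ne_zero h3

variable {F : Type*} [Field F] [Fintype F] {q : ℕ} (hF : Fintype.card F = q ^ 2)

local notation "h3" => Cfsg.hermForm (2 + 1) F q
local notation "G3" => Cfsg.SU (2 + 1) F q

include hF in
theorem herm_one_eq_zero {w : Fin 1 → F} (h : Cfsg.hermForm 1 F q w w = 0) : w = 0 := by
  funext i
  rw [Subsingleton.elim i 0]
  simp [Cfsg.hermForm, pow_q_eq_zero hF] at h
  exact h

include hF in
theorem radQ_fix_vec {g : G3} (hg : g ∈ radQ hF 1) (hne : g ≠ 1) {v : Fin (2 + 1) → F}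
    (hv : h3 v v = 0) {c : F} (hfix : suAct g v = c • v) :
    ∃ a : F, v = a • va hF 1 := by
  obtain ⟨w, z, he⟩ := hg
  have H := hermForm_isHerm hF (2 + 1)
  have hgr : h3 (suAct g v) (va hF 1) = h3 v (va hF 1) := by
    conv_lhs => rw [← va_of_isE hF he]
    exact suAct_herm g _ _
  set r := h3 v (va hF 1) with hr
  by_cases hr0 : r = 0
  · have hd := decomp hF v
    rw [← hr, hr0, zero_smul, add_zero] at hd
    have hw : Cfsg.hermForm 1 F q (prW v) (prW v) = 0 := by
      rw [hd] at hv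
      simp only [H.add_left, H.add_right hF, H.smul_left, H.smul_right, va_va hF, va_inW hF, inW_va hF,
        inW_inW hF, mul_zero, add_zero, zero_add] at hv
      exact hv
    rw [herm_one_eq_zero hF hw, map_zero, zero_add] at hd
    exact ⟨_, hd⟩
  exfalso
  rw [hfix, H.smul_left, ← hr] at hgr
  have hc : c = 1 := mul_right_cancel₀ hr0 (hgr.trans (one_mul r).symm)
  have e := he v
  rw [hfix, hc, one_smul, ← hr] at e
  have e' : r • inW 1 w + (z * r - h3 v (inW 1 w)) • va hF 1 = 0 := by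
    rw [sub_smul]
    linear_combination (norm := module) -e
  have h0 := congrArg (fun x => prW (d := 1) x) e'
  have hprva : prW (d := 1) (va hF 1) = 0 := by funext i; simp [prW, va, e₀]
  have hw : w = 0 := by
    funext i
    have := congrFun h0 i
    have h' := congrFun hprva i
    have h'' := congrFun (prW_inW (F := F) w) i
    simp only [prW, Pi.add_apply, Pi.smul_apply, smul_eq_mul, Pi.zero_apply] at this h' h''
    rw [h', h'', mul_zero, add_zero] at this
    exact (mul_eq_zero.1 this).resolve_left hr0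
  subst hw
  rw [map_zero, smul_zero, zero_add, H.zero_right hF, sub_zero] at e'
  have hz : z = 0 := (mul_eq_zero.1 ((smul_eq_zero.1 e').resolve_right (va_ne_zero hF))).resolve_right hr0
  subst hz
  exact hne (he.unique isE_one)

include hF in
theorem radQ_fix_line {g : G3} (hg : g ∈ radQ hF 1) (hne : g ≠ 1) (L : IsoLine (2 + 1) F q) :
    g • L = L ↔ L = vaLine hF := by
  constructor
  · intro h
    obtain ⟨v, hv, hv0, rfl⟩ := L.exists_mk
    rw [IsoLine.smul_mk, IsoLine.mk_eq_iff] at h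
    obtain ⟨c, hc⟩ := h
    obtain ⟨a, ha⟩ := radQ_fix_vec hF hg hne hv0 hc.symm
    exact IsoLine.mk_eq_iff.2 ⟨a, ha.symm⟩
  · rintro rfl
    exact radQ_le_lineStab hF hg

include hF in
theorem radQ_pgroup : ∃ p : ℕ, p.Prime ∧ CharP F p ∧ ∀ g ∈ radQ hF 1, ∃ n : ℕ, g ^ p ^ n = 1 := by
  obtain ⟨p, m, hp, hchar, hpm, -⟩ := exists_prime_pow hF
  refine ⟨p, hp, hchar, fun g hg => ⟨3 * m, ?_⟩⟩
  have hc : Nat.card (radQ hF 1) = p ^ (3 * m) := by rw [card_radQ, hpm]; ring
  have := pow_card_eq_one' (x := (⟨g, hg⟩ : radQ hF 1))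
  rw [hc] at this
  exact congrArg Subtype.val this

include hF in
theorem card_isoLine_three : Nat.card (IsoLine (2 + 1) F q) = q ^ 3 + 1 := by
  have hq := two_le_q hF
  have h4 : 4 ≤ q ^ 2 := Nat.pow_le_pow_left hq 2
  refine Nat.eq_of_mul_eq_mul_right (show 0 < q ^ 2 - 1 by omega) ?_
  rw [card_isoLine hF (by omega), isoC, if_neg (by decide), cmin]

theorem card_nonzero (hF : Fintype.card F = q ^ 2) : ({k : F | k ≠ 0}).ncard = q ^ 2 - 1 := by
  classical
  rw [← Nat.card_coe_set_eq]
  show Nat.card {k : F // k ≠ 0} = _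
  rw [Nat.card_eq_fintype_card, Fintype.card_subtype_compl, Fintype.card_subtype_eq, hF]

theorem card_lineStab : Nat.card (lineStab hF) = q ^ 3 * (q ^ 2 - 1) := by
  classical
  refine le_antisymm ?_ (card_lineStab_ge hF)
  letI : MulAction G3 Unit :=
    { smul := fun _ _ => (), one_smul := fun _ => rfl, mul_smul := fun _ _ _ => rfl }
  have h := card_stab_le hF (Ω := Unit) ()
  have h' : pointLine hF (Ω := Unit) () = lineStab hF :=
    inf_eq_left.2 fun g _ => MulAction.mem_stabilizer_iff.2 rfl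
  rw [h'] at h
  refine h.trans (Nat.mul_le_mul ?_ ?_)
  · rw [← card_stab_radQ, show q ^ 3 = (q ^ 2) ^ 1 * q by ring, ← card_radQ hF (d := 1)]
    exact Subgroup.card_le_card_group _
  · rw [← card_nonzero hF]
    exact Set.ncard_le_ncard fun k hk => hk.1

variable {Ω : Type*} [MulAction (Cfsg.SU (2 + 1) F q) Ω] [Finite Ω]

theorem orbit_mul_pointLine (htr : ∀ x y : Ω, ∃ g : G3, g • x = y) (ω : Ω) :
    Nat.card (MulAction.orbit (MulAction.stabilizer G3 ω) (vaLine hF)) *
        (Nat.card Ω * Nat.card (pointLine hF ω)) =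
      (q ^ 3 + 1) * (q ^ 3 * (q ^ 2 - 1)) := by
  have := isoLine_pretransitive (n := 2 + 1) (F := F) hF le_rfl
  have : MulAction.IsPretransitive G3 Ω := ⟨htr⟩
  set H := MulAction.stabilizer G3 ω
  have h1 : Nat.card (MulAction.orbit H (vaLine hF)) * Nat.card (MulAction.stabilizer H (vaLine hF)) =
      Nat.card H := by
    rw [← Nat.card_prod]
    exact Nat.card_congr (MulAction.orbitProdStabilizerEquivGroup H (vaLine hF))
  have h2 : Nat.card (MulAction.stabilizer H (vaLine hF)) = Nat.card (pointLine hF ω) :=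
    Nat.card_congr
      { toFun := fun x => ⟨x.1.1, x.2, x.1.2⟩
        invFun := fun x => ⟨⟨x.1, x.2.2⟩, x.2.1⟩
        left_inv := fun _ => rfl
        right_inv := fun _ => rfl }
  have h4 : Nat.card Ω * Nat.card H = Nat.card (IsoLine (2 + 1) F q) * Nat.card (lineStab hF) := by
    rw [← MulAction.index_stabilizer_of_transitive G3 ω,
      ← MulAction.index_stabilizer_of_transitive G3 (vaLine hF), mul_comm, Subgroup.card_mul_index,
      mul_comm, lineStab, Subgroup.card_mul_index]
  rw [← card_lineStab hF, ← card_isoLine_three hF, ← h4, ← h1, h2]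
  ring

/-- The stabiliser of a point is transitive on the isotropic lines. -/
theorem lines_transitive (htr : ∀ x y : Ω, ∃ g : G3, g • x = y) (hN : Nat.card Ω ≤ q ^ 3) (ω : Ω)
    (L : IsoLine (2 + 1) F q) : L ∈ MulAction.orbit (MulAction.stabilizer G3 ω) (vaLine hF) := by
  classical
  have hpre := isoLine_pretransitive (n := 2 + 1) (F := F) hF le_rfl
  have : Finite (IsoLine (2 + 1) F q) := Subtype.finite
  by_cases hall : ∀ ω' : Ω, ∃ e ∈ radQ hF 1, e ≠ 1 ∧ e • ω' = ω'
  · obtain ⟨p, hp, -, hpow⟩ := radQ_pgroup hF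
    refine mem_orbit_of_fix hp (fun L => ?_) _ _
    obtain ⟨g0, hg0⟩ := MulAction.exists_smul_eq G3 L (vaLine hF)
    obtain ⟨e, he, hne, heω⟩ := hall (g0 • ω)
    refine ⟨⟨g0⁻¹ * e * g0, ?_⟩, ?_, fun M => ?_⟩
    · rw [MulAction.mem_stabilizer_iff, mul_smul, mul_smul, heω, inv_smul_smul]
    · obtain ⟨n, hn⟩ := hpow e he
      refine ⟨n, Subtype.ext ?_⟩
      show (g0⁻¹ * e * g0) ^ p ^ n = 1
      have := conj_pow (i := p ^ n) (a := g0⁻¹) (b := e)
      rw [inv_inv] at this
      rw [this, hn, mul_one, inv_mul_cancel]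
    · show (g0⁻¹ * e * g0) • M = M ↔ _
      rw [mul_smul, mul_smul, inv_smul_eq_iff, radQ_fix_line hF he hne, ← hg0, smul_left_cancel_iff]
  · simp only [not_forall, not_exists, not_and] at hall
    obtain ⟨ω1, hω1⟩ := hall
    have hbot : Nat.card (Xof hF 1 ω1) * Nat.card (Zof hF 1 ω1) = 1 := by
      rw [← card_stab_radQ, Subgroup.card_eq_one, Subgroup.eq_bot_iff_forall]
      intro x hx
      by_contra hne
      exact hω1 x.1 x.2 (fun h => hne (Subtype.ext h)) hx
    have hT : Nat.card (pointLine hF ω1) ≤ q ^ 2 - 1 := by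
      refine (card_stab_le hF ω1).trans ?_
      rw [hbot, one_mul, ← card_nonzero hF]
      exact Set.ncard_le_ncard fun k hk => hk.1
    have hO := orbit_mul_pointLine hF htr ω1
    have hpos : 0 < q ^ 3 * (q ^ 2 - 1) := by
      have : 4 ≤ q ^ 2 := Nat.pow_le_pow_left (two_le_q hF) 2
      exact Nat.mul_pos (Nat.pow_pos (by have := two_le_q hF; omega)) (by omega)
    have hall' : ∀ M, M ∈ MulAction.orbit (MulAction.stabilizer G3 ω1) (vaLine hF) := by
      have hle : q ^ 3 + 1 ≤ Nat.card (MulAction.orbit (MulAction.stabilizer G3 ω1) (vaLine hF)) :=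
        Nat.le_of_mul_le_mul_right (hO ▸ Nat.mul_le_mul_left _ (Nat.mul_le_mul hN hT)) hpos
      rw [← card_isoLine_three hF, Nat.card_coe_set_eq] at hle
      intro M
      rw [Set.eq_of_subset_of_ncard_le
        (Set.subset_univ (MulAction.orbit (MulAction.stabilizer G3 ω1) (vaLine hF)))
        (by rwa [Set.ncard_univ])]
      exact Set.mem_univ _
    have hsym : ∀ M M', ∃ h : G3, h • ω1 = ω1 ∧ h • M = M' := fun M M' => by
      obtain ⟨a, ha⟩ := hall' M
      obtain ⟨b, hb⟩ := hall' M'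
      refine ⟨(b : G3) * (a : G3)⁻¹, ?_, ?_⟩
      · have ha' : (a : G3) • ω1 = ω1 := a.2
        have hb' : (b : G3) • ω1 = ω1 := b.2
        rw [mul_smul, inv_smul_eq_iff.2 ha'.symm, hb']
      · have ha' : (a : G3) • vaLine hF = M := ha
        have hb' : (b : G3) • vaLine hF = M' := hb
        rw [mul_smul, inv_smul_eq_iff.2 ha'.symm, hb']
    obtain ⟨g, hg⟩ := htr ω1 ω
    obtain ⟨h, hh1, hh2⟩ := hsym (g⁻¹ • vaLine hF) (g⁻¹ • L)
    refine ⟨⟨g * h * g⁻¹, ?_⟩, ?_⟩
    · rw [MulAction.mem_stabilizer_iff, mul_smul, mul_smul, inv_smul_eq_iff.2 hg.symm, hh1, hg]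
    · show (g * h * g⁻¹) • vaLine hF = L
      rw [mul_smul, mul_smul, hh2, smul_inv_smul]

/-- The exact size of the stabiliser of a point and a line. -/
theorem points_mul_pointLine (htr : ∀ x y : Ω, ∃ g : G3, g • x = y) (hN : Nat.card Ω ≤ q ^ 3) (ω : Ω) :
    Nat.card Ω * Nat.card (pointLine hF ω) = q ^ 3 * (q ^ 2 - 1) ∧
      q ^ 2 - 1 ≤ Nat.card (pointLine hF ω) := by
  have hO := orbit_mul_pointLine hF htr ω
  have : MulAction.orbit (MulAction.stabilizer G3 ω) (vaLine hF) = Set.univ :=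
    Set.eq_univ_of_forall (lines_transitive hF htr hN ω)
  rw [this, Nat.card_coe_set_eq, Set.ncard_univ, card_isoLine_three hF] at hO
  have h := Nat.eq_of_mul_eq_mul_left (Nat.succ_pos _) hO
  refine ⟨h, ?_⟩
  refine Nat.le_of_mul_le_mul_left ?_ (show 0 < q ^ 3 by have := two_le_q hF; positivity)
  rw [← h]
  exact Nat.mul_le_mul_right _ hN

end Cfsg.Agent.MinIndexU
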