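import Cfsg.Agent.Lib.MinIndexU.ThreeSmall
/-
q = 9 with three central elements is impossible.
* three_case
-/
set_option autoImplicit false

namespace Cfsg.Agent.MinIndexU

open Cfsg.Agent.Unitary
open Cfsg.Agent.SUMinDegree
open scoped Matrix

variable {F : Type*} [Field F] [Fintype F] (hF : Fintype.card F = 9 ^ 2)
variable {Ω : Type*} [MulAction (Cfsg.SU (2 + 1) F 9) Ω] [Finite Ω]

include hF in
theorem three_case (htr : ∀ x y : Ω, ∃ g : Cfsg.SU (2 + 1) F 9, g • x = y) (hN : Nat.card Ω ≤ 9 ^ 3)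
    {ω : Ω} (hk : Nat.card (Zof hF 1 ω) = 3) : False := by
  classical
  have h3' : (3 : F) = 0 := by
    have h := FiniteField.cast_card_eq_zero F
    rw [hF] at h
    have h' : ((3 : F) ^ 4) = 0 := by rw [← h]; norm_num
    exact (pow_eq_zero_iff (by norm_num)).1 h'
  have h2 : (2 : F) ≠ 0 := fun h => one_ne_zero (α := F) (by linear_combination h3' - h)
  obtain ⟨θ, hθ, hθ0⟩ : ∃ z ∈ Zof hF 1 ω, z ≠ 0 := by
    rcases (Zof hF 1 ω).bot_or_exists_ne_zero with h | h
    · rw [h, AddSubgroup.card_bot] at hk; omega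
    · exact h
  have hmult : AddSubgroup.zmultiples θ = Zof hF 1 ω := by
    have hle : AddSubgroup.zmultiples θ ≤ Zof hF 1 ω := AddSubgroup.zmultiples_le_of_mem hθ
    refine AddSubgroup.eq_of_le_of_card_ge hle ?_
    rw [hk]
    rcases (Nat.dvd_prime Nat.prime_three).1 (hk ▸ AddSubgroup.card_dvd_of_le hle) with h | h
    · rw [AddSubgroup.card_eq_one, AddSubgroup.zmultiples_eq_bot] at h; exact absurd h hθ0
    · omega
  have : CharP F 3 := (CharP.charP_iff_prime_eq_zero Nat.prime_three).2 (by exact_mod_cast h3')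
  -- at most nine first coordinates
  let K : AddSubgroup F :=
    { carrier := {f | f - f ^ 9 ∈ Zof hF 1 ω}
      zero_mem' := by
        show (0 : F) - 0 ^ 9 ∈ Zof hF 1 ω
        rw [zero_pow (by norm_num), sub_zero]; exact zero_mem _
      add_mem' := fun {a b} (ha : a - a ^ 9 ∈ Zof hF 1 ω) (hb : b - b ^ 9 ∈ Zof hF 1 ω) => by
        show a + b - (a + b) ^ 9 ∈ Zof hF 1 ω
        rw [add_pow_q hF, show a + b - (a ^ 9 + b ^ 9) = a - a ^ 9 + (b - b ^ 9) by ring]
        exact add_mem ha hb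
      neg_mem' := fun {a} (ha : a - a ^ 9 ∈ Zof hF 1 ω) => by
        show -a - (-a) ^ 9 ∈ Zof hF 1 ω
        rw [neg_pow_q hF, show -a - -a ^ 9 = -(a - a ^ 9) by ring]
        exact neg_mem ha }
  haveI : NeZero (2 : F) := ⟨h2⟩
  have hK : K ≠ ⊤ := by
    intro hK
    have hsk : skewGrp hF ≤ Zof hF 1 ω := by
      intro c (hc : c + c ^ 9 = 0)
      have hf : c / 2 - (c / 2) ^ 9 ∈ Zof hF 1 ω :=
        (show c / 2 ∈ K from hK ▸ AddSubgroup.mem_top _)
      have e9 : (2 : F) ^ 9 = 2 := by linear_combination (170 : F) * h3'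
      rwa [div_pow, e9, show c ^ 9 = -c by linear_combination hc, neg_div, sub_neg_eq_add,
        add_halves] at hf
    have := Nat.card_le_card_of_injective _ (AddSubgroup.inclusion_injective hsk)
    rw [hk, card_skewGrp hF] at this
    omega
  have hX9 : Nat.card (Xof hF 1 ω) ≤ 9 := by
    have hpair : ∀ a ∈ Xof hF 1 ω, ∀ b ∈ Xof hF 1 ω, Cfsg.hermForm 1 F 9 a b ∈ K := fun a ha b hb => by
      show Cfsg.hermForm 1 F 9 a b - Cfsg.hermForm 1 F 9 a b ^ 9 ∈ Zof hF 1 ω
      rw [← (hermForm_isHerm hF 1).conj_symm a b]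
      exact commutator_mem hF ω ha hb
    have := card_le_pow hF hK hpair
    rwa [pow_one] at this
  obtain ⟨R, hT, hRS, -⟩ := exists_scalars hF ω
  have hR20 : ∀ u ∈ R, u ^ 20 = 1 := by
    intro u hu
    obtain ⟨hu0, -, hz⟩ := hRS u hu
    have h := hz θ hθ
    rw [← hmult, AddSubgroup.mem_zmultiples_iff] at h
    obtain ⟨n, hn⟩ := h
    rw [zsmul_eq_mul] at hn
    have hn' : (n : F) = (u : F) ^ (9 + 1) := mul_right_cancel₀ hθ0 hn
    have : Fact (Nat.Prime 3) := ⟨Nat.prime_three⟩
    have hfr : (n : F) ^ 3 = n := map_intCast (frobenius F 3) n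
    have hn0 : (n : F) ≠ 0 := hn' ▸ pow_ne_zero _ hu0
    have hn2 : (n : F) ^ 2 = 1 := mul_left_cancel₀ hn0 (by rw [mul_one, ← pow_succ']; exact hfr)
    refine Units.ext ?_
    rw [Units.val_pow_eq_pow_val, Units.val_one, show 20 = (9 + 1) * 2 from rfl, pow_mul, ← hn', hn2]
  have hRd : Nat.card R ∣ 20 := by
    obtain ⟨g, hg⟩ := IsCyclic.exists_ofOrder_eq_natCard (α := R)
    rw [← hg]
    exact orderOf_dvd_of_pow_eq_one (Subtype.ext (hR20 _ g.2))
  have hinj : Function.Injective ((cfacHom F 9).comp R.subtype) := by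
    rw [injective_iff_map_eq_one]
    intro u hu
    have h17 : (u : Fˣ) ^ 17 = 1 := hu
    refine Subtype.ext ?_
    have : (u : Fˣ) ^ Nat.gcd 17 20 = 1 := pow_gcd_eq_one.2 ⟨h17, hR20 u u.2⟩
    simpa using this
  have hC : Nat.card (R.map (cfacHom F 9)) = Nat.card R := by
    rw [← Subgroup.range_subtype R, MonoidHom.map_range, Subgroup.range_subtype]
    exact (Nat.card_congr (MonoidHom.ofInjective hinj).toEquiv).symm
  have hlow := (points_mul_pointLine hF htr hN ω).2
  rw [hT, hk] at hlow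
  have hXd : Nat.card (Xof hF 1 ω) ∈ Nat.divisors 81 := by
    refine Nat.mem_divisors.2 ⟨?_, by norm_num⟩
    have h := AddSubgroup.card_addSubgroup_dvd_card (Xof hF 1 ω)
    rwa [card_V hF, pow_one, show (9 : ℕ) ^ 2 = 81 by norm_num] at h
  have hR : Nat.card R ∈ Nat.divisors 20 := Nat.mem_divisors.2 ⟨hRd, by norm_num⟩
  rw [show Nat.divisors 81 = {1, 3, 9, 27, 81} by decide +kernel] at hXd
  rw [show Nat.divisors 20 = {1, 2, 4, 5, 10, 20} by decide +kernel] at hR
  simp only [Finset.mem_insert, Finset.mem_singleton] at hXd hR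
  obtain ⟨x0, hx0, hx00⟩ : ∃ y ∈ Xof hF 1 ω, y ≠ 0 := by
    rcases (Xof hF 1 ω).bot_or_exists_ne_zero with h | h
    · rw [h, AddSubgroup.card_bot] at hlow
      omega
    · exact h
  obtain ⟨hC1, hC2⟩ := card_scal_le (Xof hF 1 ω) _ (scal_map_le hF hRS) hx0 hx00
  rw [hC] at hC1 hC2
  have hT108 : Nat.card (pointLine hF ω) = 108 := by
    rw [hT, hk]
    rcases hXd with e | e | e | e | e <;> rw [e] at hlow hC1 hC2 hX9 ⊢ <;> omega
  have hH := card_stabilizer_eq hF htr hN ω
  rw [hT108] at hH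
  set S := MulAction.stabilizer (Cfsg.SU (2 + 1) F 9) ω
  have : Fact (Nat.Prime 73) := ⟨by norm_num⟩
  obtain ⟨P⟩ : Nonempty (Sylow 73 S) := inferInstance
  have hP : Nat.card P = 73 := by
    rw [P.card_eq_multiplicity, hH]
    have : (78840 : ℕ).factorization 73 = 1 := by
      rw [show (78840 : ℕ) = 73 * 1080 by norm_num, Nat.factorization_mul (by norm_num) (by norm_num)]
      simp [Nat.Prime.factorization_self (by norm_num : Nat.Prime 73),
        Nat.factorization_eq_zero_of_not_dvd (by norm_num : ¬ 73 ∣ 1080)]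
    norm_num [this]
  have hn : Nat.card (Sylow 73 S) = 1 := by
    have h := P.card_dvd_index
    have h' := (P : Subgroup S).card_mul_index
    rw [show Nat.card (P : Subgroup S) = 73 from hP, hH] at h'
    rw [show (P : Subgroup S).index = 1080 by omega] at h
    have hd : Nat.card (Sylow 73 S) ∈ (Nat.divisors 1080).filter (fun n => n % 73 = 1) :=
      Finset.mem_filter.2 ⟨Nat.mem_divisors.2 ⟨h, by norm_num⟩, card_sylow_modEq_one 73 S⟩
    rw [show (Nat.divisors 1080).filter (fun n => n % 73 = 1) = {1} by decide +kernel] at hd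
    simpa using hd
  have hnorm : (P : Subgroup S).Normal := by
    have h := P.card_eq_index_normalizer
    rw [hn] at h
    rw [← Subgroup.normalizer_eq_top_iff]
    exact Subgroup.index_eq_one.1 h.symm
  obtain ⟨x, hx⟩ := exists_prime_orderOf_dvd_card' (G := P) 73 (by rw [hP])
  set x' := ((x : S) : Cfsg.SU (2 + 1) F 9)
  have hx' : orderOf x' = 73 := by rw [Subgroup.orderOf_coe, Subgroup.orderOf_coe, hx]
  have hmove := no_fixed_line hF htr hN (show x' • ω = ω from (x : S).2) (by rw [hT108, hx']; norm_num)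
  -- an element of order three centralising it
  have h3C : 3 ∣ Nat.card (MulAut.conjNormal (H := (P : Subgroup S))).ker := by
    set φ := MulAut.conjNormal (H := (P : Subgroup S))
    have hPcyc : IsCyclic (P : Subgroup S) := isCyclic_of_prime_card hP
    have h1 := φ.ker.card_mul_index
    rw [Subgroup.index_ker, hH] at h1
    have h2' : Nat.card φ.range ∣ 72 := by
      have h := Subgroup.card_subgroup_dvd_card φ.range
      rwa [IsCyclic.card_mulAut, show Nat.card (P : Subgroup S) = 73 from hP,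
        Nat.totient_prime (by norm_num)] at h
    have hd : Nat.card φ.range ∈ Nat.divisors 72 := Nat.mem_divisors.2 ⟨h2', by norm_num⟩
    rw [show Nat.divisors 72 = {1, 2, 3, 4, 6, 8, 9, 12, 18, 24, 36, 72} by decide +kernel] at hd
    simp only [Finset.mem_insert, Finset.mem_singleton] at hd
    rcases hd with e | e | e | e | e | e | e | e | e | e | e | e <;> rw [e] at h1 <;> omega
  have : Fact (Nat.Prime 3) := ⟨Nat.prime_three⟩
  obtain ⟨y, hy⟩ := exists_prime_orderOf_dvd_card'
    (G := (MulAut.conjNormal (H := (P : Subgroup S))).ker) 3 h3C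
  set y' := ((y : S) : Cfsg.SU (2 + 1) F 9)
  have hy' : orderOf y' = 3 := by rw [Subgroup.orderOf_coe, Subgroup.orderOf_coe, hy]
  have hxy : y' * x' = x' * y' := by
    have h := congrArg (fun f : MulAut (P : Subgroup S) => ((f x : (P : Subgroup S)) : S)) (MonoidHom.mem_ker.1 y.2)
    simp only [MulAut.conjNormal_apply, MulAut.one_apply] at h
    have e := congrArg (Subtype.val : S → Cfsg.SU (2 + 1) F 9) h
    simp only [Subgroup.coe_mul, Subgroup.coe_inv] at e
    exact mul_inv_eq_iff_eq_mul.1 e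
  have hy3 : y' ^ 3 = 1 := by rw [← hy', pow_orderOf_eq_one]
  have hyω : y' • ω = ω := (y : S).2
  have hP3 : IsPGroup 3 (Subgroup.zpowers y') := by
    intro w
    refine ⟨1, ?_⟩
    obtain ⟨i, hi⟩ := Subgroup.mem_zpowers_iff.1 w.2
    refine Subtype.ext ?_
    rw [Subgroup.coe_pow, ← hi, pow_one, ← zpow_natCast (y' ^ i), ← zpow_mul, mul_comm, zpow_mul,
      zpow_natCast, hy3, one_zpow, Subgroup.coe_one]
  have : Finite (IsoLine (2 + 1) F 9) := Subtype.finite
  obtain ⟨L, hL⟩ := hP3.nonempty_fixed_point_of_prime_not_dvd_card (IsoLine (2 + 1) F 9)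
    (by rw [card_isoLine_three hF]; norm_num)
  have hyL : y' • L = L := hL ⟨y', Subgroup.mem_zpowers y'⟩
  obtain ⟨h, -, hhL, hm⟩ := conj_pointLine hF htr hN hyω hyL
  set z := h⁻¹ * y' * h with hz
  have hz3 : z ^ 3 = 1 := by
    have := conj_pow (i := 3) (a := h⁻¹) (b := y')
    rw [inv_inv] at this
    rw [hz, this, hy3, mul_one, inv_mul_cancel]
  have hk1 : kap hF z = 1 := by
    have e2 := kap_mul_lineStab hF hm.1 hm.1
    have e3 := kap_mul_lineStab hF (mul_mem hm.1 hm.1) hm.1
    rw [e2, ← sq z, ← pow_succ, hz3, kap_one] at e3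
    have : (kap hF z - 1) ^ 3 = 0 := by
      linear_combination -e3 - (kap hF z ^ 2 - kap hF z) * h3'
    exact sub_eq_zero.1 ((pow_eq_zero_iff (by norm_num)).1 this)
  have hz1 : z ≠ 1 := fun e => by
    have e' : h * z * h⁻¹ = y' := by simp [hz, mul_assoc]
    rw [e, mul_one, mul_inv_cancel] at e'
    rw [← e', orderOf_one] at hy'
    omega
  refine hmove L ?_
  have hiff : ∀ M, y' • M = M → M = L := by
    intro M hM
    have h' : z • (h⁻¹ • M) = h⁻¹ • M := by rw [hz, mul_smul, mul_smul, smul_inv_smul, hM]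
    have := (radQ_fix_line hF (radQ_of_kap hF hm.1 hk1) hz1 _).1 h'
    rw [inv_smul_eq_iff] at this
    rw [this, hhL]
  exact hiff _ (by rw [← mul_smul, hxy, mul_smul, hyL])

end Cfsg.Agent.MinIndexU
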