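import Cfsg.Agent.Lib.MinIndexU.ThreeCaseA
import Cfsg.Agent.Lib.MinIndexU.ThreeCaseB
import Cfsg.Agent.Lib.MinIndexU.ThreeNine
/-
The minimal index of proper subgroups of PSU_3(q).
* three_lower, index_psu_three_lower, exists_index_three
-/
set_option autoImplicit false

namespace Cfsg.Agent.MinIndexU

open Cfsg.Agent.Unitary
open Cfsg.Agent.SUMinDegree

variable {F : Type*} [Field F] [Fintype F] {q : ℕ} (hF : Fintype.card F = q ^ 2)

local notation "G3" => Cfsg.SU (2 + 1) F q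

variable {Ω : Type*} [MulAction (Cfsg.SU (2 + 1) F q) Ω] [Finite Ω]

include hF in
theorem three_lower (hq : 3 ≤ q) (h5 : q ≠ 5) (htr : ∀ x y : Ω, ∃ g : G3, g • x = y)
    (hnt : ∃ (g : G3) (ω : Ω), g • ω ≠ ω) : q ^ 3 + 1 ≤ Nat.card Ω := by
  classical
  by_contra hlt
  have hN : Nat.card Ω ≤ q ^ 3 := by omega
  obtain ⟨g, ω0, hg⟩ := hnt
  refine hg (full_fixed hF hq (fun ω => ?_) g ω0)
  by_contra hnot
  change ¬ skewGrp hF ≤ Zof hF 1 ω at hnot
  by_cases hZ : Zof hF 1 ω = ⊥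
  · obtain ⟨ω', r, hZ', hT, hlift, hkap, hcase⟩ := bot_cases hF hq h5 htr hN hZ
    rcases hcase with ⟨hX, rfl⟩ | ⟨hq32, hodd, hX, hr⟩
    · exact caseA hF hq h5 htr hN hZ' hX (by rw [hT, hX, one_mul]) hlift
    · exact caseB hF h5 htr hN hq32 hodd hZ' (by rw [hT, hX]) hr hlift hkap
  · rcases transv_cases hF htr hN hZ hnot with ⟨h2, hk⟩ | ⟨rfl, hk⟩
    · exact two_case hF htr hN h2 hnot hk
    · exact three_case hF htr hN hk

include hF in
theorem index_psu_three_lower (hq : 3 ≤ q) (h5 : q ≠ 5) (H : Subgroup (Cfsg.PSU (2 + 1) F q))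
    (hH : H ≠ ⊤) : q ^ 3 + 1 ≤ H.index := by
  let K := H.comap (QuotientGroup.mk' (Subgroup.center (Cfsg.SU (2 + 1) F q)))
  have hi : K.index = H.index := H.index_comap_of_surjective (QuotientGroup.mk'_surjective _)
  have hK : K ≠ ⊤ := fun e => hH (Subgroup.index_eq_one.1 (hi ▸ Subgroup.index_eq_one.2 e))
  obtain ⟨htr, hnt⟩ := index_action K hK
  rw [← hi]
  exact three_lower hF hq h5 htr hnt

include hF in
theorem exists_index_three : ∃ H : Subgroup (Cfsg.PSU (2 + 1) F q), H.index = q ^ 3 + 1 := by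
  obtain ⟨H, hH⟩ := exists_index_isoLine (F := F) hF (2 + 1) le_rfl
  refine ⟨H, ?_⟩
  have hq := two_le_q hF
  have h4 : 4 ≤ q ^ 2 := Nat.pow_le_pow_left hq 2
  refine Nat.eq_of_mul_eq_mul_right (show 0 < q ^ 2 - 1 by omega) ?_
  rw [hH, isoC, if_neg (by decide), cmin]

end Cfsg.Agent.MinIndexU
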