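import Cfsg.Agent.Lib.MinIndexU.ThreeTorus
/-
The stabiliser of a point and of the pole of a plane.
* lev_ptLine, lev_fix_plane; poleStab, pole, poleHom; radQ_pole, ratio_radQ; exists_mover
-/
set_option autoImplicit false

namespace Cfsg.Agent.MinIndexU

open Cfsg.Agent.Unitary
open Cfsg.Agent.SUMinDegree
open scoped Matrix

variable {F : Type*} [Field F] [Fintype F] {q : ℕ} (hF : Fintype.card F = q ^ 2)

local notation "h3" => Cfsg.hermForm (2 + 1) F q
local notation "G3" => Cfsg.SU (2 + 1) F q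

/-- A Levi element multiplies the finite points by the norm of its scalar. -/
theorem lev_ptLine {l : G3} (hl : l ∈ lev hF 1) {r r' : fixF hF}
    (h : (r' : F) = kap hF l ^ (q + 1) * r) : l • ptLine hF r = ptLine hF r' := by
  have hk0 := (kap_spec hl).2
  rw [ptLine, IsoLine.smul_mk]
  refine IsoLine.mk_eq_iff.2 ⟨(kap hF l ^ q)⁻¹, ?_⟩
  rw [suAct_add, suAct_smul, (kap_spec hl).1, lev_vb hF hl, smul_add, smul_smul, smul_smul, h, pow_succ]
  congr 2
  field_simp

/-- A Levi element of non-trivial norm fixes two lines of the plane. -/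
theorem lev_fix_plane {l : G3} (hl : l ∈ lev hF 1) (hn : kap hF l ^ (q + 1) ≠ 1)
    {L : IsoLine (2 + 1) F q} (hL : ∀ v ∈ L.1, h3 v (eW F) = 0) (h : l • L = L) :
    L = vaLine hF ∨ L = ptLine hF 0 := by
  rcases plane_cases hF hL with e | ⟨r, rfl⟩
  · exact Or.inl e
  refine Or.inr (congrArg _ ?_)
  have hfix : (kap hF l ^ (q + 1) * r) ∈ fixF hF :=
    mul_mem ((mem_fixF hF).2 (pow_q_succ_fixed hF _)) r.2
  rw [lev_ptLine hF hl (r' := ⟨_, hfix⟩) rfl] at h
  have e : kap hF l ^ (q + 1) * (r : F) = r := congrArg Subtype.val (ptLine_injective hF h)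
  refine Subtype.ext (by_contra fun hr => hn ?_)
  exact mul_right_cancel₀ hr (e.trans (one_mul _).symm)

theorem lev_fix_zero {l : G3} (hl : l ∈ lev hF 1) : l • ptLine hF 0 = ptLine hF 0 :=
  lev_ptLine hF hl (by simp)

/-- The elements fixing the pole up to a scalar. -/
def poleStab (F : Type*) [Field F] (q : ℕ) : Subgroup (Cfsg.SU (2 + 1) F q) where
  carrier := {g | ∃ c : F, suAct g (eW F) = c • eW F}
  one_mem' := ⟨1, by rw [suAct_one, one_smul]⟩
  mul_mem' := fun {a b} ⟨c, hc⟩ ⟨e, he⟩ => ⟨e * c, by rw [suAct_mul, he, suAct_smul, hc, smul_smul]⟩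
  inv_mem' := fun {a} ⟨c, hc⟩ => ⟨c⁻¹, by
    have h := suAct_inv_suAct a (eW F)
    rw [hc, suAct_smul] at h
    by_cases hc0 : c = 0
    · subst hc0
      rw [zero_smul] at h
      have h1 := suAct_zero a⁻¹
      rw [← h, zero_smul] at *
      rw [suAct_zero, inv_zero, zero_smul]
    · exact (eq_inv_smul_iff₀ hc0).2 h⟩

/-- The scalar at the pole. -/
noncomputable def pole (g : Cfsg.SU (2 + 1) F q) : F :=
  Cfsg.hermForm (2 + 1) F q (suAct g (eW F)) (eW F)

theorem pole_of_smul (hF : Fintype.card F = q ^ 2) {g : G3} {c : F} (h : suAct g (eW F) = c • eW F) :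
    pole g = c := by
  rw [pole, h, (hermForm_isHerm hF (2 + 1)).smul_left, eW_eW hF, mul_one]

theorem pole_spec (hF : Fintype.card F = q ^ 2) {g : G3} (h : g ∈ poleStab F q) :
    suAct g (eW F) = pole g • eW F := by
  obtain ⟨c, hc⟩ := h
  rw [pole_of_smul hF hc, hc]

theorem pole_ne_zero (hF : Fintype.card F = q ^ 2) {g : G3} (h : g ∈ poleStab F q) : pole g ≠ 0 := by
  intro e
  have h1 := suAct_herm g (eW F) (eW F)
  rw [pole_spec hF h, e, zero_smul, (hermForm_isHerm hF (2 + 1)).zero_left, eW_eW hF] at h1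
  exact zero_ne_one h1

theorem pole_mul (hF : Fintype.card F = q ^ 2) {g g' : G3} (h : g ∈ poleStab F q)
    (h' : g' ∈ poleStab F q) : pole (g * g') = pole g * pole g' :=
  pole_of_smul hF (by rw [suAct_mul, pole_spec hF h', suAct_smul, pole_spec hF h, smul_smul, mul_comm])

include hF in
theorem inPlane_smul {g : G3} (hg : g ∈ poleStab F q) {L : IsoLine (2 + 1) F q}
    (hL : ∀ v ∈ L.1, h3 v (eW F) = 0) : ∀ v ∈ (g • L).1, h3 v (eW F) = 0 :=
  smul_inPlane hF (pole_spec hF hg) hL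

theorem lev_le_poleStab {l : G3} (hl : l ∈ lev hF 1) : l ∈ poleStab F q := ⟨_, lev_eW hF hl⟩

variable {Ω : Type*} [MulAction (Cfsg.SU (2 + 1) F q) Ω]

/-- Radical elements at a point without transvections move the pole. -/
theorem radQ_pole {g : G3} (hg : g ∈ radQ hF 1) (hp : g ∈ poleStab F q) {ω : Ω} (hω : g • ω = ω)
    (hZ : Zof hF 1 ω = ⊥) : g = 1 := by
  have H := hermForm_isHerm hF (2 + 1)
  obtain ⟨w, z, he⟩ := id hg
  have hw : w = 0 := by
    have h := congrArg (fun x => h3 x (vb hF 1)) ((he (eW F)).symm.trans (pole_spec hF hp))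
    rw [eW, inW_va hF, inW_inW hF] at h
    simp only [zero_smul, add_zero, mul_zero, H.sub_left, H.smul_left, inW_vb hF, va_vb hF, mul_one,
      zero_sub, neg_eq_zero] at h
    funext i
    rw [Subsingleton.elim i 0]
    have h0 : w 0 = 0 ∧ ¬ q = 0 := by simpa [Cfsg.hermForm] using h
    exact h0.1
  subst hw
  have hz : z ∈ Zof hF 1 ω := ⟨g, he, hω⟩
  rw [hZ, AddSubgroup.mem_bot] at hz
  subst hz
  exact he.unique isE_one

/-- Two elements fixing the point and the line with the same scalar differ in the radical. -/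
theorem ratio_radQ {ω : Ω} {g l : G3} (hg : g ∈ pointLine hF ω) (hl : l ∈ pointLine hF ω)
    (hk : kap hF g = kap hF l) : g * l⁻¹ ∈ radQ hF 1 ∧ (g * l⁻¹) • ω = ω := by
  have hgl : g * l⁻¹ ∈ pointLine hF ω := mul_mem hg (inv_mem hl)
  refine ⟨radQ_of_kap hF hgl.1 ?_, hgl.2⟩
  have h := kap_mul_lineStab hF hgl.1 hl.1
  rw [inv_mul_cancel_right, hk] at h
  exact mul_right_cancel₀ (kap_ne_zero hF hl.1) (h.symm.trans (one_mul _).symm)

variable [Finite Ω]

/-- A scalar on the plane makes the stabiliser of the pole transitive on the plane. -/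
theorem exists_mover (htr : ∀ x y : Ω, ∃ g : G3, g • x = y) (hN : Nat.card Ω ≤ q ^ 3) {ω : Ω}
    (hZ : Zof hF 1 ω = ⊥) {ρ : G3} (hρ : ρ ∈ lev hF 1) (hρω : ρ • ω = ω)
    (hn : kap hF ρ ^ (q + 1) = 1) (hc : kap hF ρ ^ 3 ≠ 1)
    (hX : ∀ x ∈ Xof hF 1 ω, ∃ x' ∈ Xof hF 1 ω, x' + x - cfac q (kap hF ρ) • x' = 0)
    {L : IsoLine (2 + 1) F q} (hL : ∀ v ∈ L.1, h3 v (eW F) = 0) :
    ∃ a : G3, a • ω = ω ∧ a ∈ poleStab F q ∧ a • vaLine hF = L := by
  have H := hermForm_isHerm hF (2 + 1)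
  obtain ⟨hk, hk0⟩ := kap_spec hρ
  set k := kap hF ρ with hkdef
  have hkb : suAct ρ (vb hF 1) = k • vb hF 1 := by
    rw [lev_vb hF hρ]
    congr 1
    exact inv_eq_of_mul_eq_one_left (by rw [← pow_succ', hn])
  have hplane : ∀ v, h3 v (eW F) = 0 → suAct ρ v = k • v := fun v hv => by
    rw [decomp_eW hF v, hv, zero_smul, zero_add, suAct_add, suAct_smul, suAct_smul, hk, hkb, smul_add,
      smul_comm k, smul_comm k]
  obtain ⟨⟨h, hh⟩, hhL⟩ := lines_transitive hF htr hN ω L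
  have hh' : h • ω = ω := hh
  have hhL' : h • vaLine hF = L := hhL
  have hperp : h3 (suAct h (va hF 1)) (eW F) = 0 := by
    refine hL _ ?_
    rw [← hhL', vaLine, IsoLine.smul_mk]
    exact Submodule.mem_span_singleton_self _
  set y := h⁻¹ * ρ * h with hy
  have hyva : suAct y (va hF 1) = k • va hF 1 := by
    rw [hy, suAct_mul, suAct_mul, hplane _ hperp, suAct_smul, suAct_inv_suAct]
  have hyω : y • ω = ω := by rw [hy, mul_smul, mul_smul, hh', hρω, inv_smul_eq_iff, hh']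
  obtain ⟨e, ⟨x, z, he⟩, l, hl, hel, hkl⟩ := exists_rad_lev hF ((mem_lineStab hF).2 ⟨k, hyva⟩)
  rw [lev_ext hF hl hρ (by rw [hkl, kap_of_smul hF hyva])] at hel
  have heω : e • ω = ω := by
    rw [hel, mul_smul, hρω] at hyω; exact hyω
  obtain ⟨x', ⟨a, z', ha, haω⟩, hx'⟩ := hX x ⟨e, z, he, heω⟩
  obtain ⟨ζ, -, hE, -⟩ := conj_step hF he ha hρ
  rw [← hkdef, hx'] at hE
  have hfix : (a * (e * ρ) * a⁻¹ * ρ⁻¹) • ω = ω := by
    rw [mul_smul, mul_smul, mul_smul, mul_smul, inv_smul_eq_iff.2 hρω.symm, inv_smul_eq_iff.2 haω.symm,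
      hρω, heω, haω]
  have hζ : ζ ∈ Zof hF 1 ω := ⟨_, hE, hfix⟩
  rw [hZ, AddSubgroup.mem_bot] at hζ
  rw [hζ] at hE
  have hcomm := hE.unique isE_one
  rw [← hel] at hcomm
  set m := h * a⁻¹ with hm
  have hρm : ρ * m = m * ρ := by
    have e1 : a * y * a⁻¹ = ρ := mul_inv_eq_one.1 hcomm
    calc ρ * m = h * a⁻¹ * (a * (h⁻¹ * ρ * h) * a⁻¹) := by rw [hm]; group
      _ = m * ρ := by rw [← hy, e1, hm]
  refine ⟨m, ?_, ?_, ?_⟩
  · rw [hm, mul_smul, inv_smul_eq_iff.2 haω.symm, hh']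
  · have hcf : k ^ q * k ^ (q - 1) ≠ 1 := fun h1 => hc (kernel_cube hF hk0 h1)
    have hx : suAct ρ (suAct m (eW F)) = k ^ (q - 1) • suAct m (eW F) := by
      rw [← suAct_mul, hρm, suAct_mul, lev_eW hF hρ, suAct_smul]
    have horth : ∀ v, suAct ρ v = k • v → h3 (suAct m (eW F)) v = 0 := fun v hv => by
      have h1 := suAct_herm ρ (suAct m (eW F)) v
      rw [hx, hv, H.smul_left, H.smul_right, ← mul_assoc, mul_comm (k ^ (q - 1))] at h1
      by_contra h0
      exact hcf (mul_right_cancel₀ h0 (h1.trans (one_mul _).symm))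
    refine ⟨h3 (suAct m (eW F)) (eW F), ?_⟩
    conv_lhs => rw [decomp_eW hF (suAct m (eW F)), horth _ hk, horth _ hkb]
    simp
  · rw [hm, mul_smul, inv_smul_eq_iff.2 (radQ_le_lineStab hF ⟨_, _, ha⟩ : a • vaLine hF = vaLine hF).symm,
      hhL']

end Cfsg.Agent.MinIndexU
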