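import Cfsg.Agent.Lib.MinIndexU.ThreeIota
/-
The stabiliser of a point: order, the group of scalars, and elements without fixed lines.
* card_stabilizer_eq, exists_scalars, conj_pointLine, no_fixed_line, radQ_of_kap
-/
set_option autoImplicit false

namespace Cfsg.Agent.MinIndexU

open Cfsg.Agent.Unitary
open Cfsg.Agent.SUMinDegree
open scoped Matrix

variable {F : Type*} [Field F] [Fintype F] {q : ℕ} (hF : Fintype.card F = q ^ 2)

local notation "h3" => Cfsg.hermForm (2 + 1) F q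
local notation "G3" => Cfsg.SU (2 + 1) F q

theorem kap_of_smul {g : G3} {a : F} (hg : suAct g (va hF 1) = a • va hF 1) : kap hF g = a := by
  rw [kap, hg, (hermForm_isHerm hF (2 + 1)).smul_left, va_vb hF, mul_one]

/-- An element fixing the line with scalar one is in the radical. -/
theorem radQ_of_kap {g : G3} (hg : g ∈ lineStab hF) (h : kap hF g = 1) : g ∈ radQ hF 1 := by
  obtain ⟨e, he, l, hl, rfl, hk⟩ := exists_rad_lev hF hg
  rw [show l = 1 from lev_ext hF hl (one_mem _) (by rw [hk, h, kap_one]), mul_one]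
  exact he

theorem kap_mul_lineStab {g g' : G3} (hg : g ∈ lineStab hF) (hg' : g' ∈ lineStab hF) :
    kap hF (g * g') = kap hF g * kap hF g' := by
  obtain ⟨a, ha⟩ := (mem_lineStab hF).1 hg
  obtain ⟨b, hb⟩ := (mem_lineStab hF).1 hg'
  rw [kap_of_smul hF ha, kap_of_smul hF hb]
  exact kap_of_smul hF (by rw [suAct_mul, hb, suAct_smul, ha, smul_smul, mul_comm])

theorem kap_ne_zero {g : G3} (hg : g ∈ lineStab hF) : kap hF g ≠ 0 := by
  obtain ⟨e, -, l, hl, -, hk⟩ := exists_rad_lev hF hg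
  rw [← hk]
  exact (kap_spec hl).2

variable {Ω : Type*} [MulAction (Cfsg.SU (2 + 1) F q) Ω]

/-- The scalars of the elements fixing the point and the line. -/
theorem exists_scalars (ω : Ω) : ∃ R : Subgroup Fˣ,
    Nat.card (pointLine hF ω) = Nat.card (Xof hF 1 ω) * Nat.card (Zof hF 1 ω) * Nat.card R ∧
      (∀ u ∈ R, (u : F) ∈ Sof hF ω) ∧
      (∀ u ∈ R, ∃ g ∈ pointLine hF ω, kap hF g = u) ∧
      ∀ g ∈ pointLine hF ω, ∃ u ∈ R, (u : F) = kap hF g := by
  let φ : pointLine hF ω →* Fˣ := MonoidHom.mk'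
    (fun g => Units.mk0 (kap hF g.1) (kap_ne_zero hF g.2.1))
    (fun a b => Units.ext (kap_mul_lineStab hF a.2.1 b.2.1))
  have hval : ∀ g, ((φ g : Fˣ) : F) = kap hF g.1 := fun _ => rfl
  refine ⟨φ.range, ?_, ?_, ?_, fun g hg => ⟨φ ⟨g, hg⟩, ⟨_, rfl⟩, hval ⟨g, hg⟩⟩⟩
  · rw [← Subgroup.index_ker, ← card_stab_radQ]
    have hk : Nat.card φ.ker = Nat.card (MulAction.stabilizer (radQ hF 1) ω) := by
      refine Nat.card_congr
        { toFun := fun x => ⟨⟨x.1.1, radQ_of_kap hF x.1.2.1 ?_⟩, x.1.2.2⟩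
          invFun := fun y => ⟨⟨y.1.1, radQ_le_lineStab hF y.1.2, y.2⟩, ?_⟩
          left_inv := fun _ => rfl
          right_inv := fun _ => rfl }
      · rw [← hval x.1, MonoidHom.mem_ker.1 x.2, Units.val_one]
      · obtain ⟨w, z, he⟩ := y.1.2
        refine MonoidHom.mem_ker.2 (Units.ext ?_)
        rw [hval, Units.val_one]
        exact kap_of_smul hF (by rw [va_of_isE hF he, one_smul])
    rw [← hk, Subgroup.card_mul_index]
  · rintro _ ⟨g, rfl⟩
    rw [hval]
    exact kap_mem_Sof hF g.2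
  · rintro _ ⟨g, rfl⟩
    exact ⟨g.1, g.2, (hval g).symm⟩

variable [Finite Ω]

/-- The order of the stabiliser of a point. -/
theorem card_stabilizer_eq (htr : ∀ x y : Ω, ∃ g : G3, g • x = y) (hN : Nat.card Ω ≤ q ^ 3) (ω : Ω) :
    Nat.card (MulAction.stabilizer G3 ω) = (q ^ 3 + 1) * Nat.card (pointLine hF ω) := by
  set H := MulAction.stabilizer G3 ω
  rw [← card_isoLine_three hF, ← Nat.card_congr (MulAction.orbitProdStabilizerEquivGroup H (vaLine hF)),
    Nat.card_prod, Set.eq_univ_of_forall (lines_transitive hF htr hN ω), Nat.card_coe_set_eq,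
    Set.ncard_univ]
  congr 1
  exact Nat.card_congr
    { toFun := fun x => ⟨x.1.1, x.2, x.1.2⟩
      invFun := fun x => ⟨⟨x.1, x.2.2⟩, x.2.1⟩
      left_inv := fun _ => rfl
      right_inv := fun _ => rfl }

/-- An element fixing the point and a line is conjugate into the stabiliser of the point and `va`. -/
theorem conj_pointLine (htr : ∀ x y : Ω, ∃ g : G3, g • x = y) (hN : Nat.card Ω ≤ q ^ 3) {ω : Ω}
    {x : G3} (hx : x • ω = ω) {L : IsoLine (2 + 1) F q} (hL : x • L = L) :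
    ∃ h : G3, h • ω = ω ∧ h • vaLine hF = L ∧ h⁻¹ * x * h ∈ pointLine hF ω := by
  obtain ⟨⟨h, hh⟩, hhL⟩ := lines_transitive hF htr hN ω L
  have hh' : h • ω = ω := hh
  have hhL' : h • vaLine hF = L := hhL
  refine ⟨h, hh', hhL', ?_, ?_⟩
  · show (h⁻¹ * x * h) • vaLine hF = vaLine hF
    rw [mul_smul, mul_smul, hhL', hL, inv_smul_eq_iff, hhL']
  · show (h⁻¹ * x * h) • ω = ω
    rw [mul_smul, mul_smul, hh', hx, inv_smul_eq_iff, hh']

/-- An element whose order is prime to the stabiliser of a line moves every line. -/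
theorem no_fixed_line (htr : ∀ x y : Ω, ∃ g : G3, g • x = y) (hN : Nat.card Ω ≤ q ^ 3) {ω : Ω}
    {x : G3} (hx : x • ω = ω) (hord : ¬ orderOf x ∣ Nat.card (pointLine hF ω))
    (L : IsoLine (2 + 1) F q) : x • L ≠ L := by
  intro hL
  obtain ⟨h, -, -, hm⟩ := conj_pointLine hF htr hN hx hL
  have := orderOf_dvd_natCard (⟨_, hm⟩ : pointLine hF ω)
  rw [← Subgroup.orderOf_coe] at this
  refine hord ?_
  have e : MulAut.conj h⁻¹ x = h⁻¹ * x * h := by simp
  rw [← MulEquiv.orderOf_eq (MulAut.conj h⁻¹) x, e]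
  exact this

end Cfsg.Agent.MinIndexU
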