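import Cfsg.Agent.Lib.MinIndexU.ThreeTransv
import Cfsg.Agent.Lib.MinIndexU.ThreeStab
/-
The two small configurations: q = 8 with two central elements and q = 9 with three.
* cfacHom, card_scal_le; two_case, three_case
-/
set_option autoImplicit false

namespace Cfsg.Agent.MinIndexU

open Cfsg.Agent.Unitary
open Cfsg.Agent.SUMinDegree
open scoped Matrix

variable {F : Type*} [Field F] [Fintype F] {q : ℕ} (hF : Fintype.card F = q ^ 2)

local notation "h3" => Cfsg.hermForm (2 + 1) F q
local notation "G3" => Cfsg.SU (2 + 1) F q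

/-- The action on the first coordinate as a homomorphism of scalars. -/
def cfacHom (F : Type*) [Field F] (q : ℕ) : Fˣ →* Fˣ := powMonoidHom (q + (q - 1))

omit [Fintype F] in
theorem cfacHom_val (u : Fˣ) : ((cfacHom F q u : Fˣ) : F) = cfac q (u : F) := by
  simp [cfacHom, cfac, pow_add]

/-- Scalars preserving a non-trivial additive group act freely on it. -/
theorem card_scal_le {V : Type*} [AddCommGroup V] [Module F V] [Finite V] (X : AddSubgroup V)
    (C : Subgroup Fˣ) (hC : ∀ u ∈ C, ∀ w ∈ X, (u : F) • w ∈ X) {x0 : V} (hx0 : x0 ∈ X) (hne : x0 ≠ 0) :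
    Nat.card C + 1 ≤ Nat.card X ∧ (Nat.card C + 1 < Nat.card X → 2 * Nat.card C + 1 ≤ Nat.card X) := by
  classical
  have : Fintype C := Fintype.ofFinite C
  have horb : ∀ w : V, w ∈ X → w ≠ 0 → ((fun u : C => ((u : Fˣ) : F) • w) '' Set.univ).ncard = Nat.card C ∧
      ((fun u : C => ((u : Fˣ) : F) • w) '' Set.univ) ⊆ (X : Set V) \ {0} := by
    intro w hw hw0
    refine ⟨?_, ?_⟩
    · rw [Set.ncard_image_of_injective _ fun a b h =>
        Subtype.ext (Units.ext (smul_left_injective F hw0 h)), Set.ncard_univ]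
    · rintro _ ⟨u, -, rfl⟩
      exact ⟨hC _ u.2 w hw, fun h => hw0 ((smul_eq_zero.1 h).resolve_left (Units.ne_zero _))⟩
  have hX : ((X : Set V) \ {0}).ncard + 1 = Nat.card X := by
    rw [Set.ncard_sdiff_singleton_add_one X.zero_mem]
    exact (Nat.card_coe_set_eq _).symm
  obtain ⟨h1, h1'⟩ := horb x0 hx0 hne
  have hle := Set.ncard_le_ncard h1'
  refine ⟨by omega, fun hlt => ?_⟩
  obtain ⟨y, hy, hy'⟩ := Set.exists_mem_notMem_of_ncard_lt_ncard
    (s := (fun u : C => ((u : Fˣ) : F) • x0) '' Set.univ) (t := (X : Set V) \ {0}) (by omega)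
  obtain ⟨h2, h2'⟩ := horb y hy.1 hy.2
  have hdis : Disjoint ((fun u : C => ((u : Fˣ) : F) • x0) '' Set.univ)
      ((fun u : C => ((u : Fˣ) : F) • y) '' Set.univ) := by
    rw [Set.disjoint_left]
    rintro _ ⟨u, -, rfl⟩ ⟨v, -, hv⟩
    refine hy' ⟨v⁻¹ * u, trivial, ?_⟩
    show ((v⁻¹ * u : C) : Fˣ).1 • x0 = y
    have hv' : ((v : Fˣ) : F) • y = ((u : Fˣ) : F) • x0 := hv
    rw [Subgroup.coe_mul, Units.val_mul, mul_smul, ← hv', smul_smul, Subgroup.coe_inv, Units.inv_mul,
      one_smul]
  have := Set.ncard_le_ncard (Set.union_subset h1' h2')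
  rw [Set.ncard_union_eq hdis (Set.toFinite _) (Set.toFinite _), h1, h2] at this
  omega

variable {Ω : Type*} [MulAction (Cfsg.SU (2 + 1) F q) Ω]

theorem scal_map_le {ω : Ω} {R : Subgroup Fˣ} (hR : ∀ u ∈ R, (u : F) ∈ Sof hF ω) :
    ∀ u ∈ R.map (cfacHom F q), ∀ w ∈ Xof hF 1 ω, (u : F) • w ∈ Xof hF 1 ω := by
  rintro _ ⟨u, hu, rfl⟩ w hw
  rw [cfacHom_val]
  exact (hR u hu).2.1 w hw

variable [Finite Ω]

include hF in
/-- A vector and its orthogonal lines. -/
theorem exists_fixed_line_of_fixed_vec {x : G3} {r : ℕ} [Fact r.Prime] (hx : x ^ r = 1) (hr : ¬ r ∣ q + 1)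
    {e : Fin (2 + 1) → F} (he : e ≠ 0) (hxe : suAct x e = e) :
    ∃ L : IsoLine (2 + 1) F q, x • L = L := by
  classical
  have H := hermForm_isHerm hF (2 + 1)
  by_cases hiso : h3 e e = 0
  · exact ⟨IsoLine.mk e he hiso, by rw [IsoLine.smul_mk]; exact IsoLine.mk_eq_iff.2 ⟨1, by rw [one_smul, hxe]⟩⟩
  obtain ⟨s, hs⟩ := exists_norm_eq hF (H.self_fixed e)
  have hs0 : s ≠ 0 := fun h => hiso (by rw [← hs, h, zero_pow (Nat.succ_ne_zero q)])
  set e1 := s⁻¹ • e
  have he1 : h3 e1 e1 = 1 := by
    rw [H.smul_left, H.smul_right, ← mul_assoc, ← pow_succ', inv_pow, hs, inv_mul_cancel₀ hiso]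
  have hxe1 : suAct x e1 = e1 := by rw [suAct_smul, hxe]
  have hne1 : eW F ≠ 0 := fun h => by
    have := eW_eW hF
    rw [h, H.zero_left] at this
    exact zero_ne_one this
  obtain ⟨g, hg⟩ := move_one hF (le_refl 3) hne1 (smul_ne_zero (inv_ne_zero hs0) he)
    ((eW_eW hF).trans he1.symm)
  have hy : suAct (g⁻¹ * x * g) (eW F) = (1 : F) • eW F := by
    rw [one_smul, suAct_mul, suAct_mul, show suAct g (eW F) = e1 from hg, hxe1,
      ← show suAct g (eW F) = e1 from hg, suAct_inv_suAct]
  set y := g⁻¹ * x * g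
  have hyr : y ^ r = 1 := by
    have := conj_pow (i := r) (a := g⁻¹) (b := x)
    rw [inv_inv] at this
    rw [this, hx, mul_one, inv_mul_cancel]
  have : Finite (IsoLine (2 + 1) F q) := Subtype.finite
  let P : SubMulAction (Subgroup.zpowers y) (IsoLine (2 + 1) F q) :=
    { carrier := {L | ∀ v ∈ L.1, h3 v (eW F) = 0}
      smul_mem' := fun a L hL => by
        obtain ⟨i, hi⟩ := Subgroup.mem_zpowers_iff.1 a.2
        show ∀ v ∈ ((a : G3) • L).1, _
        refine smul_inPlane hF (c := 1) ?_ hL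
        have hst : ∀ j : ℤ, suAct (y ^ j) (eW F) = eW F := by
          intro j
          induction j using Int.induction_on with
          | zero => rw [zpow_zero, suAct_one]
          | succ j ih => rw [zpow_add_one, suAct_mul, hy, one_smul, ih]
          | pred j ih =>
            rw [zpow_sub_one, suAct_mul]
            have h1 : suAct y⁻¹ (eW F) = eW F := by
              have := suAct_inv_suAct y (eW F)
              rwa [hy, one_smul] at this
            rw [h1, ih]
        rw [← hi, one_smul, hst] }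
  have hP : IsPGroup r (Subgroup.zpowers y) := by
    intro w
    refine ⟨1, ?_⟩
    obtain ⟨i, hi⟩ := Subgroup.mem_zpowers_iff.1 w.2
    refine Subtype.ext ?_
    rw [Subgroup.coe_pow, ← hi, pow_one, ← zpow_natCast (y ^ i), ← zpow_mul, mul_comm, zpow_mul, zpow_natCast,
      hyr, one_zpow, Subgroup.coe_one]
  have hcard : Nat.card P = q + 1 := card_planeLine hF
  obtain ⟨L, hL⟩ := hP.nonempty_fixed_point_of_prime_not_dvd_card P (hcard ▸ hr)
  refine ⟨g • L.1, ?_⟩
  have h := congrArg Subtype.val (hL ⟨y, Subgroup.mem_zpowers y⟩)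
  change y • L.1 = L.1 at h
  rw [← mul_smul, show x * g = g * y by simp [y, mul_assoc], mul_smul, h]

/-- Two central elements of a line can occur only if the point count is large. -/
theorem two_case (htr : ∀ x y : Ω, ∃ g : G3, g • x = y) (hN : Nat.card Ω ≤ q ^ 3) {ω : Ω}
    (h2 : (2 : F) = 0) (hnot : ¬ skewGrp hF ≤ Zof hF 1 ω) (hk : Nat.card (Zof hF 1 ω) = 2) : False := by
  classical
  have H := hermForm_isHerm hF (2 + 1)
  have H1 := hermForm_isHerm hF 1
  obtain ⟨p, m, hp, hchar, hpm, hm⟩ := exists_prime_pow hF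
  have hqq := two_le_q hF
  obtain rfl : p = 2 := by
    have := (CharP.cast_eq_zero_iff F p 2).1 (by exact_mod_cast h2)
    exact (Nat.prime_dvd_prime_iff_eq hp Nat.prime_two).1 this
  have hm2 : 2 ≤ m := by
    by_contra h
    refine hnot (AddSubgroup.eq_of_le_of_card_ge (Zof_le_skew hF ω) ?_).ge
    rw [hk, card_skewGrp hF, hpm, show m = 1 by omega]
    norm_num
  obtain ⟨θ, hθ, hθ0⟩ : ∃ z ∈ Zof hF 1 ω, z ≠ 0 := by
    rcases (Zof hF 1 ω).bot_or_exists_ne_zero with h | h
    · rw [h, AddSubgroup.card_bot] at hk; omega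
    · exact h
  have hZ : ∀ z ∈ Zof hF 1 ω, z = 0 ∨ z = θ := by
    intro z hz
    by_contra h
    simp only [not_or] at h
    have hle : Nat.card ({0, θ, z} : Finset F) ≤ Nat.card (Zof hF 1 ω) := by
      refine Nat.card_le_card_of_injective (fun a => ⟨a.1, ?_⟩) fun a b e => Subtype.ext (congrArg Subtype.val e :)
      have := a.2
      simp only [Finset.mem_insert, Finset.mem_singleton] at this
      rcases this with e | e | e <;> rw [e]
      exacts [zero_mem _, hθ, hz]
    rw [hk, Nat.card_eq_finsetCard, Finset.card_insert_of_notMem (by simp [hθ0.symm, Ne.symm h.1]),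
      Finset.card_insert_of_notMem (by simpa using Ne.symm h.2), Finset.card_singleton] at hle
    omega
  -- squares
  have hnorm : ∀ x ∈ Xof hF 1 ω, x ≠ 0 → Cfsg.hermForm 1 F q x x = θ := by
    rintro x ⟨g, z, hg, hgω⟩ hx0
    have hgg := hg.mul hg
    have e1 : x + x = 0 := by
      funext i; simp only [Pi.add_apply, Pi.zero_apply, ← two_mul, h2, zero_mul]
    rw [e1] at hgg
    have hmem : z + z - Cfsg.hermForm 1 F q x x ∈ Zof hF 1 ω :=
      ⟨g * g, hgg, by rw [mul_smul, hgω, hgω]⟩
    rw [show z + z - Cfsg.hermForm 1 F q x x = Cfsg.hermForm 1 F q x x by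
      linear_combination (z - Cfsg.hermForm 1 F q x x) * h2] at hmem
    exact (hZ _ hmem).resolve_left fun h => hx0 (herm_one_eq_zero hF h)
  have hX4 : Nat.card (Xof hF 1 ω) ≤ 4 := by
    by_cases hX : ∃ y ∈ Xof hF 1 ω, y ≠ 0
    · obtain ⟨y, hy, hy0⟩ := hX
      rw [show Nat.card (Xof hF 1 ω) = (Xof hF 1 ω : Set (Fin 1 → F)).ncard from Nat.card_coe_set_eq _,
        show 4 = 2 * (↑({0, θ} : Finset F) : Set F).ncard by
          rw [Set.ncard_coe_finset, Finset.card_pair hθ0.symm]]
      refine ncard_le_fibre (Set.toFinite _) (Set.toFinite _)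
        (fun x => Cfsg.hermForm 1 F q x y - Cfsg.hermForm 1 F q y x) (fun x hx => ?_) _ fun b _ => ?_
      · rcases hZ _ (commutator_mem hF ω hx hy) with e | e <;> simp [e]
      rcases Set.eq_empty_or_nonempty {x ∈ (Xof hF 1 ω : Set (Fin 1 → F)) |
          Cfsg.hermForm 1 F q x y - Cfsg.hermForm 1 F q y x = b} with he | ⟨x1, hx1, hb1⟩
      · rw [he]; simp
      refine le_trans (Set.ncard_le_ncard (t := (↑({x1, x1 + y} : Finset (Fin 1 → F)) : Set (Fin 1 → F))) ?_)
        (by rw [Set.ncard_coe_finset]; exact Finset.card_le_two)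
      rintro x ⟨hx, hb⟩
      have hd : Cfsg.hermForm 1 F q (x - x1) y = Cfsg.hermForm 1 F q y (x - x1) := by
        rw [H1.sub_left, H1.sub_right hF]
        linear_combination hb - hb1
      simp only [Finset.coe_insert, Finset.coe_singleton, Set.mem_insert_iff, Set.mem_singleton_iff]
      by_cases h0 : x - x1 = 0
      · exact Or.inl (sub_eq_zero.1 h0)
      right
      have n1 := hnorm _ ((Xof hF 1 ω).sub_mem hx hx1) h0
      have n2 := hnorm _ hy hy0
      have : x - x1 = y := by
        funext i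
        rw [Subsingleton.elim i 0]
        simp [Cfsg.hermForm] at n1 n2 hd
        set u := x 0 - x1 0
        have hy00 : y 0 ≠ 0 := fun e => hθ0 (by rw [← n2, e, zero_mul])
        show u = y 0
        have hsq : (u - y 0) * (u - y 0) * y 0 ^ q = 0 := by
          linear_combination u * hd + y 0 * (n1 - n2) + (y 0 * y 0 * y 0 ^ q - u * y 0 * y 0 ^ q) * h2
        exact sub_eq_zero.1 (mul_self_eq_zero.1 ((mul_eq_zero.1 hsq).resolve_right (pow_ne_zero _ hy00)))
      rw [← this]; abel
    · simp only [not_exists, not_and, not_not] at hX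
      have hb : Xof hF 1 ω = ⊥ := eq_bot_iff.2 fun x hx => AddSubgroup.mem_bot.2 (hX x hx)
      rw [hb, AddSubgroup.card_bot]; omega
  obtain ⟨R, hT, hRS, -⟩ := exists_scalars hF ω
  have hRn : ∀ u ∈ R, u ^ (q + 1) = 1 := by
    intro u hu
    obtain ⟨hu0, -, hz⟩ := hRS u hu
    refine Units.ext ?_
    rw [Units.val_pow_eq_pow_val, Units.val_one]
    refine mul_right_cancel₀ hθ0 (((hZ _ (hz θ hθ)).resolve_left ?_).trans (one_mul θ).symm)
    exact mul_ne_zero (pow_ne_zero _ hu0) hθ0
  have hRd : Nat.card R ∣ q + 1 := by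
    obtain ⟨g, hg⟩ := IsCyclic.exists_ofOrder_eq_natCard (α := R)
    rw [← hg]
    exact orderOf_dvd_of_pow_eq_one (Subtype.ext (hRn _ g.2))
  have hR1 : Nat.card R ≤ q + 1 := Nat.le_of_dvd (by omega) hRd
  -- the kernel has at most three elements
  have hker : ∀ u ∈ R, cfacHom F q u = 1 → u ^ 3 = 1 := by
    intro u hu h
    have h' : u ^ (q + (q - 1)) = 1 := h
    calc u ^ 3 = u ^ 3 * u ^ (q + (q - 1)) := by rw [h', mul_one]
      _ = (u ^ (q + 1)) ^ 2 := by rw [← pow_add, ← pow_mul]; congr 1; omega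
      _ = 1 := by rw [hRn u hu, one_pow]
  have hR3 : Nat.card R ≤ 3 * Nat.card (R.map (cfacHom F q)) := by
    have h1 := ((cfacHom F q).comp R.subtype).ker.card_mul_index
    rw [Subgroup.index_ker, MonoidHom.range_comp, Subgroup.range_subtype] at h1
    rw [← h1]
    refine Nat.mul_le_mul_right _ ?_
    refine le_trans (Nat.card_le_card_of_injective
      (fun x => (⟨(x.1.1 : Fˣ), hker _ x.1.2 x.2⟩ : {u : Fˣ // u ^ 3 = 1})) fun a b e => ?_) ?_
    · exact Subtype.ext (Subtype.ext (congrArg Subtype.val e :))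
    · have := IsCyclic.card_powMonoidHom_ker (G := Fˣ) 3
      refine le_trans (le_of_eq ?_) (Nat.le_of_dvd (by norm_num) (this ▸ Nat.gcd_dvd_right _ 3))
      exact Nat.card_congr (Equiv.subtypeEquivRight fun u => by simp [MonoidHom.mem_ker])
  have hlow := (points_mul_pointLine hF htr hN ω).2
  rw [hT, hk] at hlow
  have hq4 : 4 ≤ q := by rw [hpm]; exact le_trans (by norm_num) (Nat.pow_le_pow_right two_pos hm2)
  obtain ⟨x0, hx0, hx00⟩ : ∃ y ∈ Xof hF 1 ω, y ≠ 0 := by
    by_contra hX
    simp only [not_exists, not_and, not_not] at hX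
    have hb : Xof hF 1 ω = ⊥ := eq_bot_iff.2 fun x hx => AddSubgroup.mem_bot.2 (hX x hx)
    rw [hb, AddSubgroup.card_bot] at hlow
    have : q * q ≤ 2 * (q + 1) + 1 := by rw [← sq]; omega
    nlinarith
  obtain ⟨hC, -⟩ := card_scal_le (Xof hF 1 ω) _ (scal_map_le hF hRS) hx0 hx00
  by_cases hm4 : 4 ≤ m
  · have : 16 ≤ q := hpm ▸ le_trans (by norm_num) (Nat.pow_le_pow_right two_pos hm4)
    have : 256 ≤ q ^ 2 := le_trans (by norm_num) (Nat.pow_le_pow_left this 2)
    have : Nat.card (Xof hF 1 ω) * 2 * Nat.card R ≤ 4 * 2 * 9 :=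
      Nat.mul_le_mul (Nat.mul_le_mul_right _ hX4) (hR3.trans (by omega))
    omega
  interval_cases m
  · -- four
    have hq : q = 4 := by rw [hpm]; norm_num
    subst hq
    rcases (Nat.dvd_prime Nat.prime_five).1 hRd with h | h
    · rw [h, mul_one] at hlow
      omega
    · have hinj : Function.Injective ((cfacHom F 4).comp R.subtype) := by
        rw [injective_iff_map_eq_one]
        intro u hu
        have h7 : (u : Fˣ) ^ 7 = 1 := hu
        have h5 := hRn u u.2
        refine Subtype.ext ?_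
        have : (u : Fˣ) ^ Nat.gcd 7 5 = 1 := pow_gcd_eq_one.2 ⟨h7, h5⟩
        simpa using this
      have hc : Nat.card (R.map (cfacHom F 4)) = 5 := by
        rw [← h]
        have h1 := ((cfacHom F 4).comp R.subtype).ker.card_mul_index
        rw [(MonoidHom.ker_eq_bot_iff _).2 hinj, Subgroup.card_bot, one_mul, Subgroup.index_bot] at h1
        rw [← Subgroup.range_subtype R, MonoidHom.map_range, Subgroup.range_subtype]
        exact (Nat.card_congr (MonoidHom.ofInjective hinj).toEquiv).symm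
      omega
  · -- eight
    have hq : q = 8 := by rw [hpm]; norm_num
    subst hq
    have hR9 : Nat.card R = 9 := by
      have hd : Nat.card R ∈ Nat.divisors 9 := Nat.mem_divisors.2 ⟨hRd, by norm_num⟩
      have : Nat.card (Xof hF 1 ω) * 2 ≤ 8 := Nat.mul_le_mul_right 2 hX4
      have := Nat.mul_le_mul_right (Nat.card R) this
      rw [show Nat.divisors 9 = {1, 3, 9} by decide +kernel] at hd
      simp only [Finset.mem_insert, Finset.mem_singleton] at hd
      omega
    have hX : Nat.card (Xof hF 1 ω) = 4 := by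
      rw [hR9] at hlow
      omega
    rw [hR9, hX, hk] at hT
    have hH := card_stabilizer_eq hF htr hN ω
    rw [hT] at hH
    set S := MulAction.stabilizer (Cfsg.SU (2 + 1) F 8) ω
    have : Fact (Nat.Prime 19) := ⟨by norm_num⟩
    obtain ⟨P⟩ : Nonempty (Sylow 19 S) := inferInstance
    have hP : Nat.card P = 19 := by
      rw [P.card_eq_multiplicity, hH]
      have : (36936 : ℕ).factorization 19 = 1 := by
        rw [show (36936 : ℕ) = 19 * 1944 by norm_num, Nat.factorization_mul (by norm_num) (by norm_num)]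
        simp [Nat.Prime.factorization_self (by norm_num : Nat.Prime 19),
          Nat.factorization_eq_zero_of_not_dvd (by norm_num : ¬ 19 ∣ 1944)]
      norm_num [this]
    obtain ⟨x, hx⟩ := exists_prime_orderOf_dvd_card' (G := P) 19 (by rw [hP])
    have hx' : orderOf ((x : S) : Cfsg.SU (2 + 1) F 8) = 19 := by
      rw [Subgroup.orderOf_coe, Subgroup.orderOf_coe, hx]
    set x' := ((x : S) : Cfsg.SU (2 + 1) F 8)
    have hxω : x' • ω = ω := (x : S).2
    have hmove := no_fixed_line hF htr hN hxω (by rw [hT, hx']; norm_num)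
    -- an involution inverting it
    have hn : Nat.card (Sylow 19 S) ∣ 1944 := by
      have h := P.card_dvd_index
      have h' := (P : Subgroup S).card_mul_index
      rw [show Nat.card (P : Subgroup S) = 19 from hP, hH] at h'
      rwa [show (P : Subgroup S).index = 1944 by omega] at h
    have hn' : Nat.card (Sylow 19 S) = 1 ∨ Nat.card (Sylow 19 S) = 324 := by
      have h19 := card_sylow_modEq_one 19 S
      have hd : Nat.card (Sylow 19 S) ∈ (Nat.divisors 1944).filter (fun n => n % 19 = 1) :=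
        Finset.mem_filter.2 ⟨Nat.mem_divisors.2 ⟨hn, by norm_num⟩, h19⟩
      rw [show (Nat.divisors 1944).filter (fun n => n % 19 = 1) = {1, 324} by decide +kernel] at hd
      simpa using hd
    have heven : 2 ∣ Nat.card (Subgroup.normalizer (P : Set S)) := by
      have h := P.card_eq_index_normalizer
      have h' := (Subgroup.normalizer (P : Set S)).card_mul_index
      rw [← h, hH] at h'
      rcases hn' with e | e <;> rw [e] at h' <;> omega
    obtain ⟨y, hy⟩ := exists_prime_orderOf_dvd_card'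
      (G := Subgroup.normalizer (P : Set S)) 2 heven
    have hy' : orderOf ((y : S) : Cfsg.SU (2 + 1) F 8) = 2 := by
      rw [Subgroup.orderOf_coe, Subgroup.orderOf_coe, hy]
    set y' := ((y : S) : Cfsg.SU (2 + 1) F 8)
    have hyy : y' * y' = 1 := by
      have := pow_orderOf_eq_one y'
      rwa [hy', sq] at this
    have hyω : y' • ω = ω := (y : S).2
    -- involutions fix one line only
    have hinv : ∀ z : Cfsg.SU (2 + 1) F 8, z • ω = ω → z * z = 1 → z ≠ 1 →
        ∃ L : IsoLine (2 + 1) F 8, (∀ M, z • M = M ↔ M = L) ∧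
          ∃ v, ∃ hv : Cfsg.hermForm (2 + 1) F 8 v v = 0, ∃ c, z = tv hF v hv c := by
      intro z hzω hz2 hz1
      have : Fact (Nat.Prime 2) := ⟨Nat.prime_two⟩
      have hP2 : IsPGroup 2 (Subgroup.zpowers z) := by
        intro w
        refine ⟨1, ?_⟩
        obtain ⟨i, hi⟩ := Subgroup.mem_zpowers_iff.1 w.2
        refine Subtype.ext ?_
        rw [Subgroup.coe_pow, ← hi, pow_one, ← zpow_natCast (z ^ i), ← zpow_mul, mul_comm, zpow_mul,
          zpow_natCast, sq, hz2, one_zpow, Subgroup.coe_one]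
      have : Finite (IsoLine (2 + 1) F 8) := Subtype.finite
      obtain ⟨L, hL⟩ := hP2.nonempty_fixed_point_of_prime_not_dvd_card (IsoLine (2 + 1) F 8)
        (by rw [card_isoLine_three hF]; norm_num)
      obtain ⟨h, -, hhL, hm⟩ := conj_pointLine hF htr hN hzω (hL ⟨z, Subgroup.mem_zpowers z⟩)
      set z' := h⁻¹ * z * h with hz'
      have hz'2 : z' * z' = 1 := by
        rw [hz', show h⁻¹ * z * h * (h⁻¹ * z * h) = h⁻¹ * (z * z) * h by group, hz2, mul_one,
          inv_mul_cancel]
      have hk1 : kap hF z' = 1 := by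
        have h' := kap_mul_lineStab hF hm.1 hm.1
        rw [hz'2, kap_one] at h'
        have : (kap hF z' - 1) * (kap hF z' - 1) = 0 := by
          linear_combination -h' + (1 - kap hF z') * h2
        exact sub_eq_zero.1 (mul_self_eq_zero.1 this)
      obtain ⟨w, c, hwc⟩ := radQ_of_kap hF hm.1 hk1
      have hz'1 : z' ≠ 1 := fun e => hz1 (by
        have e' : h * z' * h⁻¹ = z := by simp [hz', mul_assoc]
        rw [← e', e, mul_one, mul_inv_cancel])
      refine ⟨L, fun M => ?_, ?_⟩
      · rw [show z = h * z' * h⁻¹ by simp [hz', mul_assoc], mul_smul, mul_smul, ← eq_inv_smul_iff,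
          radQ_fix_line hF ⟨w, c, hwc⟩ hz'1, inv_smul_eq_iff, hhL]
      · have hgg := hwc.mul hwc
        rw [hz'2] at hgg
        obtain ⟨-, e0⟩ := hgg.coords isE_one
        have hw0 : w = 0 := herm_one_eq_zero hF (by linear_combination -e0 + c * h2)
        subst hw0
        have hsk : c + c ^ 8 = 0 := by simpa [H1.zero_left] using hwc.param
        refine ⟨suAct h (va hF 1), (suAct_herm h _ _).trans (va_va hF), ⟨c, hsk⟩, ?_⟩
        have e : z' = tv hF (va hF 1) (va_va hF) ⟨c, hsk⟩ := hwc.unique (isE_tv hF _)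
        rw [show z = h * z' * h⁻¹ by simp [hz', mul_assoc], e, tv_conj, mul_inv_cancel_right]
    have hy1 : y' ≠ 1 := fun e => by rw [e, orderOf_one] at hy'; omega
    obtain ⟨L, hLy, v, hv, c, hyt⟩ := hinv y' hyω hyy hy1
    -- the conjugate is the inverse
    have hconj : y' * x' * y' ∈ Subgroup.zpowers x' := by
      have hP' : (P : Subgroup S) = Subgroup.zpowers (x : S) := by
        refine (Subgroup.eq_of_le_of_card_ge (Subgroup.zpowers_le.2 x.2) ?_).symm
        rw [Nat.card_zpowers, Subgroup.orderOf_coe, hx]; exact le_of_eq hP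
      have hmem := (Subgroup.mem_normalizer_iff.1 y.2 (x : S)).1 x.2
      obtain ⟨i, hi⟩ := Subgroup.mem_zpowers_iff.1 ((le_of_eq hP') hmem)
      refine Subgroup.mem_zpowers_iff.2 ⟨i, ?_⟩
      have e := congrArg (Subtype.val : S → Cfsg.SU (2 + 1) F 8) hi
      simp only [Subgroup.coe_zpow, Subgroup.coe_mul, Subgroup.coe_inv] at e
      rw [e, inv_eq_of_mul_eq_one_right hyy]
    have hcomm : ∀ u ∈ Subgroup.zpowers x', Commute y' u → u = 1 := by
      intro u hu hc
      by_contra hu1
      have hu' : orderOf u = 19 := by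
        rcases (Nat.dvd_prime (by norm_num : Nat.Prime 19)).1
          (hx' ▸ orderOf_dvd_of_mem_zpowers hu) with h | h
        · exact absurd (orderOf_eq_one_iff.1 h) hu1
        · exact h
      have hgen : x' ∈ Subgroup.zpowers u := by
        have : Subgroup.zpowers u = Subgroup.zpowers x' := Subgroup.eq_of_le_of_card_ge
          (Subgroup.zpowers_le.2 hu) (by rw [Nat.card_zpowers, Nat.card_zpowers, hu', hx'])
        rw [this]; exact Subgroup.mem_zpowers x'
      obtain ⟨j, hj⟩ := Subgroup.mem_zpowers_iff.1 hgen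
      have hcj : Commute y' x' := hj ▸ hc.zpow_right j
      refine hmove L ((hLy _).1 ?_)
      rw [← mul_smul, hcj.eq, mul_smul, (hLy L).2 rfl]
    have hxy : y' * x' * y' = x'⁻¹ := by
      refine eq_inv_of_mul_eq_one_right (hcomm _ (mul_mem (Subgroup.mem_zpowers x') hconj) ?_)
      obtain ⟨i, hi⟩ := Subgroup.mem_zpowers_iff.1 hconj
      have hcx : Commute x' (y' * x' * y') := by rw [← hi]; exact (Commute.refl x').zpow_right i
      show y' * (x' * (y' * x' * y')) = x' * (y' * x' * y') * y'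
      calc y' * (x' * (y' * x' * y')) = y' * x' * y' * x' * y' := by group
        _ = x' * (y' * x' * y') * y' := by rw [hcx.eq]
    have hz2 : (y' * x') * (y' * x') = 1 := by
      rw [show (y' * x') * (y' * x') = (y' * x' * y') * x' by group, hxy, inv_mul_cancel]
    have hz1 : y' * x' ≠ 1 := fun e => by
      have : x' = y' := (eq_inv_of_mul_eq_one_right e).trans (inv_eq_of_mul_eq_one_right hyy)
      rw [this, hy'] at hx'
      omega
    obtain ⟨-, -, v', hv', c', hzt⟩ := hinv (y' * x') (by rw [mul_smul, hxω, hyω]) hz2 hz1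
    obtain ⟨e, he0, hev, hev'⟩ : ∃ e, e ≠ 0 ∧ Cfsg.hermForm (2 + 1) F 8 e v = 0 ∧
        Cfsg.hermForm (2 + 1) F 8 e v' = 0 := by
      have hcard := card_perp hF (m := 2 + 1) ![v, v']
      have : (⊥ : Submodule F (Fin (2 + 1) → F)) ≠ perp hF ![v, v'] := by
        intro h
        rw [← h] at hcard
        simp at hcard
      obtain ⟨e, he, he0⟩ := Submodule.exists_mem_ne_zero_of_ne_bot this.symm
      exact ⟨e, he0, he 0, he 1⟩
    have hxe : suAct x' e = e := by
      have h1 : suAct y' e = e := by rw [hyt, suAct_tv, hev, mul_zero, zero_smul, add_zero]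
      have h2' : suAct (y' * x') e = e := by rw [hzt, suAct_tv, hev', mul_zero, zero_smul, add_zero]
      calc suAct x' e = suAct y' (suAct (y' * x') e) := by rw [← suAct_mul, ← mul_assoc, hyy, one_mul]
        _ = e := by rw [h2', h1]
    obtain ⟨M, hM⟩ := exists_fixed_line_of_fixed_vec hF (r := 19) (by rw [← hx', pow_orderOf_eq_one])
      (by norm_num) he0 hxe
    exact hmove M hM

end Cfsg.Agent.MinIndexU
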