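import Cfsg.Agent.Lib.MinIndexU.ThreeSmall
import Cfsg.Agent.Lib.MinIndexU.ThreeFive
/-
Points without transvections: the normalised torus.
* conj_step, lev_conj, bot_cases, exists_mover, fixed_pair
-/
set_option autoImplicit false

namespace Cfsg.Agent.MinIndexU

open Cfsg.Agent.Unitary
open Cfsg.Agent.SUMinDegree
open scoped Matrix

variable {F : Type*} [Field F] [Fintype F] {q : ℕ} (hF : Fintype.card F = q ^ 2)

local notation "h3" => Cfsg.hermForm (2 + 1) F q
local notation "G3" => Cfsg.SU (2 + 1) F q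

include hF in
theorem kernel_cube {u : F} (hu : u ≠ 0) (h : cfac q u = 1) : u ^ 3 = 1 := by
  have hq := two_le_q hF
  have h1 : u ^ (q + (q - 1)) = 1 := by rw [pow_add]; exact h
  have h2 : u ^ (q ^ 2 - 1) = 1 := by
    have := FiniteField.pow_card_sub_one_eq_one u hu
    rwa [hF] at this
  have e : (q + (q - 1)) * (2 * q + 1) = (q ^ 2 - 1) * 4 + 3 := by
    obtain ⟨j, rfl⟩ : ∃ j, q = j + 1 := ⟨q - 1, by omega⟩
    have a1 : 1 ≤ (j + 1) ^ 2 := Nat.one_le_pow _ _ (by omega)
    rw [Nat.add_sub_cancel]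
    zify [a1]
    ring
  calc u ^ 3 = (u ^ (q ^ 2 - 1)) ^ 4 * u ^ 3 := by rw [h2, one_pow, one_mul]
    _ = u ^ ((q + (q - 1)) * (2 * q + 1)) := by rw [e, pow_add, pow_mul]
    _ = 1 := by rw [pow_mul, h1, one_pow]

/-- One conjugation step inside the line stabiliser. -/
theorem conj_step {e a l : G3} {x x' : Fin 1 → F} {z z' : F} (he : IsE hF e x z) (ha : IsE hF a x' z')
    (hl : l ∈ lev hF 1) :
    ∃ ζ : F, a * (e * l) * a⁻¹ * l⁻¹ ∈ radQ hF 1 ∧
      IsE hF (a * (e * l) * a⁻¹ * l⁻¹) (x' + x - cfac q (kap hF l) • x') ζ ∧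
      (x = 0 → x' = 0 → ζ = z' + z - kap hF l ^ (q + 1) * z') := by
  have h := (ha.mul he).mul (ha.inv.conj hl)
  have e1 : a * e * (l * a⁻¹ * l⁻¹) = a * (e * l) * a⁻¹ * l⁻¹ := by group
  rw [e1] at h
  have e2 : x' + x + kap hF l ^ q • gam l (-x') = x' + x - cfac q (kap hF l) • x' := by
    rw [gam_one_dim hF hl, smul_smul, smul_neg, ← sub_eq_add_neg]; rfl
  refine ⟨_, ⟨_, _, h⟩, e2 ▸ h, fun h0 h0' => ?_⟩
  subst h0 h0'
  have g0 : gam l (-(0 : Fin 1 → F)) = 0 := by rw [gam_one_dim hF hl, neg_zero, smul_zero]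
  simp only [g0, smul_zero, (hermForm_isHerm hF 1).zero_left, (hermForm_isHerm hF 1).zero_right hF]
  ring

/-- A torus element is conjugate into the Levi subgroup. -/
theorem lev_conj {g : G3} (hg : g ∈ lineStab hF) (hc : cfac q (kap hF g) ≠ 1)
    (hn : kap hF g ^ (q + 1) ≠ 1) : ∃ a ∈ radQ hF 1, a * g * a⁻¹ ∈ lev hF 1 := by
  obtain ⟨e, ⟨x, z, he⟩, l, hl, rfl, hk⟩ := exists_rad_lev hF hg
  rw [← hk] at hc hn
  set c := cfac q (kap hF l) with hcdef
  have H := hermForm_isHerm hF 1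
  set x' : Fin 1 → F := (c - 1)⁻¹ • x
  obtain ⟨z', hz'⟩ := exists_trace_eq hF (c := -(Cfsg.hermForm 1 F q x' x')) (by
    rw [neg_pow_q hF, H.self_fixed])
  obtain ⟨a, ha⟩ := exists_isE (hF := hF) (w := x') (z := z') (by linear_combination hz')
  obtain ⟨ζ, hmem, hE, -⟩ := conj_step hF he ha hl
  have hx : x' + x - c • x' = 0 := by
    have h1 : (c - 1) • x' = x := smul_inv_smul₀ (sub_ne_zero.2 hc) x
    linear_combination (norm := module) -h1
  rw [← hcdef, hx] at hE
  have hζ : ζ + ζ ^ q = 0 := by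
    have := hE.param
    rwa [H.zero_left, add_zero] at this
  have hNfix := pow_q_succ_fixed hF (kap hF l)
  set z'' := ζ / (kap hF l ^ (q + 1) - 1)
  obtain ⟨b, hb⟩ := exists_isE (hF := hF) (w := (0 : Fin 1 → F)) (z := z'') (by
    rw [H.zero_left, add_zero, div_pow, sub_pow_q hF, hNfix, one_pow, ← add_div, hζ, zero_div])
  obtain ⟨ζ', -, hE', hval⟩ := conj_step hF hE hb hl
  have hζ' : ζ' = 0 := by
    rw [hval rfl rfl]
    have : z'' * (kap hF l ^ (q + 1) - 1) = ζ := div_mul_cancel₀ _ (sub_ne_zero.2 hn)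
    linear_combination -this
  rw [hζ', smul_zero, add_zero, sub_zero] at hE'
  have h1 := hE'.unique isE_one
  refine ⟨b * a, mul_mem ⟨_, _, hb⟩ ⟨_, _, ha⟩, ?_⟩
  have e : b * (a * (e * l) * a⁻¹ * l⁻¹ * l) * b⁻¹ * l⁻¹ = b * a * (e * l) * (b * a)⁻¹ * l⁻¹ := by group
  rw [e] at h1
  rw [mul_inv_eq_one.1 h1]
  exact hl

variable {Ω : Type*} [MulAction (Cfsg.SU (2 + 1) F q) Ω] [Finite Ω]

include hF in
/-- Without transvections: either a full torus, or a line of regular elements and a large torus. -/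
theorem bot_cases (hq3 : 3 ≤ q) (h5 : q ≠ 5) (htr : ∀ x y : Ω, ∃ g : G3, g • x = y)
    (hN : Nat.card Ω ≤ q ^ 3) {ω : Ω} (hZ : Zof hF 1 ω = ⊥) :
    ∃ (ω' : Ω) (r : ℕ), Zof hF 1 ω' = ⊥ ∧
      Nat.card (pointLine hF ω') = Nat.card (Xof hF 1 ω') * r ∧
      (∀ κ : F, κ ^ r = 1 → ∃ l ∈ lev hF 1, l • ω' = ω' ∧ kap hF l = κ) ∧
      (∀ g ∈ pointLine hF ω', kap hF g ^ r = 1) ∧
      ((Nat.card (Xof hF 1 ω') = 1 ∧ r = q ^ 2 - 1) ∨
        (q % 3 = 2 ∧ Odd q ∧ Nat.card (Xof hF 1 ω') = q ∧ (r = 3 * (q - 1) ∨ 2 * r = 3 * (q - 1)))) := by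
  classical
  have H1 := hermForm_isHerm hF 1
  obtain ⟨R, hT, hRS, hRg, hRall⟩ := exists_scalars hF ω
  have hlow := (points_mul_pointLine hF htr hN ω).2
  rw [hT, hZ, AddSubgroup.card_bot, mul_one] at hlow
  set r := Nat.card R
  -- generator
  obtain ⟨u0, hu0⟩ := IsCyclic.exists_ofOrder_eq_natCard (α := R)
  have hord : orderOf (u0 : Fˣ) = r := by rw [Subgroup.orderOf_coe, hu0]
  have hrd : r ∣ q ^ 2 - 1 := by rw [← card_units hF]; exact Subgroup.card_subgroup_dvd_card R
  have hRiff : ∀ κ : F, κ ^ r = 1 → ∃ u ∈ R, (u : F) = κ := by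
    intro κ hκ
    have hκ0 : κ ≠ 0 := fun h => by
      rw [h, zero_pow (Nat.card_pos (α := R)).ne'] at hκ
      exact zero_ne_one hκ
    refine ⟨Units.mk0 κ hκ0, ?_, rfl⟩
    have hle : R ≤ (powMonoidHom r : Fˣ →* Fˣ).ker := fun u hu =>
      congrArg Subtype.val (pow_card_eq_one' (x := (⟨u, hu⟩ : R)))
    have heq := Subgroup.eq_of_le_of_card_ge hle (by
      rw [IsCyclic.card_powMonoidHom_ker, card_units hF, Nat.gcd_eq_right hrd])
    rw [heq]
    exact Units.ext hκ
  have hcase : (Nat.card (Xof hF 1 ω) = 1 ∧ r = q ^ 2 - 1) ∨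
      (q % 3 = 2 ∧ Odd q ∧ Nat.card (Xof hF 1 ω) = q ∧ (r = 3 * (q - 1) ∨ 2 * r = 3 * (q - 1))) := by
    rcases (Xof hF 1 ω).bot_or_exists_ne_zero with hb | ⟨x0, hx0, hx00⟩
    · refine Or.inl ⟨by rw [hb, AddSubgroup.card_bot], ?_⟩
      rw [hb, AddSubgroup.card_bot, one_mul] at hlow
      have : 4 ≤ q ^ 2 := Nat.pow_le_pow_left (two_le_q hF) 2
      exact le_antisymm (Nat.le_of_dvd (by omega) hrd) hlow
    right
    obtain ⟨p, m, hp, hchar, hpm, hm⟩ := exists_prime_pow hF
    have hodd : p ≠ 2 := by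
      intro hp2
      subst hp2
      have h2 : (2 : F) = 0 := by exact_mod_cast CharP.cast_eq_zero F 2
      obtain ⟨g, z, hg, hgω⟩ := id hx0
      have hgg := hg.mul hg
      have e1 : x0 + x0 = 0 := by
        funext i; simp only [Pi.add_apply, Pi.zero_apply, ← two_mul, h2, zero_mul]
      rw [e1] at hgg
      have hmem : z + z - Cfsg.hermForm 1 F q x0 x0 ∈ Zof hF 1 ω := ⟨g * g, hgg, by rw [mul_smul, hgω, hgω]⟩
      rw [hZ, AddSubgroup.mem_bot] at hmem
      exact hx00 (herm_one_eq_zero hF (by linear_combination -hmem + z * h2))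
    have hqodd : Odd q := hpm ▸ (hp.odd_of_ne_two hodd).pow
    have hXle : Nat.card (Xof hF 1 ω) ≤ q := by
      have := card_le_pow hF (fixG_ne_top hF) (herm_fixed_of_Zof_bot hF hZ)
      rwa [pow_one] at this
    have hXd : Nat.card (Xof hF 1 ω) ∣ p ^ (2 * m) := by
      have := AddSubgroup.card_addSubgroup_dvd_card (Xof hF 1 ω)
      have e : (q ^ 2) ^ 1 = p ^ (2 * m) := by rw [pow_one, hpm, ← pow_mul, mul_comm]
      exact ((card_V hF (m := 1)).trans e) ▸ this
    obtain ⟨hC, -⟩ := card_scal_le (Xof hF 1 ω) _ (scal_map_le hF hRS) hx0 hx00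
    have hker3 : Nat.card ((cfacHom F q).comp R.subtype).ker ≤ 3 := by
      refine le_trans (Nat.card_le_card_of_injective (β := {u : Fˣ // u ^ 3 = 1})
        (fun x => ⟨(x.1.1 : Fˣ), Units.ext ?_⟩) fun a b e => ?_) ?_
      · rw [Units.val_pow_eq_pow_val, Units.val_one]
        refine kernel_cube hF (Units.ne_zero _) ?_
        rw [← cfacHom_val]
        exact congrArg Units.val (MonoidHom.mem_ker.1 x.2)
      · exact Subtype.ext (Subtype.ext (congrArg Subtype.val e :))
      · have := IsCyclic.card_powMonoidHom_ker (G := Fˣ) 3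
        refine le_trans (le_of_eq ?_) (Nat.le_of_dvd (by norm_num) (this ▸ Nat.gcd_dvd_right _ 3))
        exact Nat.card_congr (Equiv.subtypeEquivRight fun u => by simp [MonoidHom.mem_ker])
    have hrC := ((cfacHom F q).comp R.subtype).ker.card_mul_index
    rw [Subgroup.index_ker, MonoidHom.range_comp, Subgroup.range_subtype] at hrC
    have hr3 : r ≤ 3 * Nat.card (R.map (cfacHom F q)) :=
      le_trans hrC.ge (Nat.mul_le_mul_right _ hker3)
    have hXq : Nat.card (Xof hF 1 ω) = q := by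
      by_contra hne
      obtain ⟨i, -, hi⟩ := (Nat.dvd_prime_pow hp).1 hXd
      have him : i < m := by
        by_contra hcon
        exact hne (le_antisymm hXle (by rw [hi, hpm]; exact Nat.pow_le_pow_right hp.pos (by omega)))
      have h3X : 3 * Nat.card (Xof hF 1 ω) ≤ q := by
        rw [hi, hpm]
        calc 3 * p ^ i ≤ p * p ^ i := Nat.mul_le_mul_right _ (by
              have := hp.two_le; omega)
          _ = p ^ (i + 1) := (pow_succ' p i).symm
          _ ≤ p ^ m := Nat.pow_le_pow_right hp.pos him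
      have : 3 * (Nat.card (Xof hF 1 ω) * r) ≤ q * q :=
        calc _ ≤ 3 * (Nat.card (Xof hF 1 ω) * (3 * Nat.card (Xof hF 1 ω))) :=
              Nat.mul_le_mul_left _ (Nat.mul_le_mul_left _ (hr3.trans (by omega)))
          _ = 3 * Nat.card (Xof hF 1 ω) * (3 * Nat.card (Xof hF 1 ω)) := by ring
          _ ≤ _ := Nat.mul_le_mul h3X h3X
      have : 9 ≤ q * q := Nat.mul_le_mul hq3 hq3
      have := sq q
      omega
    -- the scalars on the line lie in the fixed field
    have hfix : ∀ u ∈ R, cfac q (u : F) ^ q = cfac q (u : F) := by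
      intro u hu
      have h := herm_fixed_of_Zof_bot hF hZ _ ((hRS u hu).2.1 x0 hx0) _ hx0
      change _ ^ q = _ at h
      rw [H1.smul_left, mul_pow, H1.self_fixed] at h
      exact mul_right_cancel₀ (fun e => hx00 (herm_one_eq_zero hF e)) h
    have hrdvd : r ∣ 3 * (q - 1) := by
      rw [← hord]
      refine orderOf_dvd_of_pow_eq_one (Units.ext ?_)
      rw [Units.val_pow_eq_pow_val, Units.val_one, mul_comm, pow_mul]
      refine kernel_cube hF (pow_ne_zero _ (Units.ne_zero _)) ?_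
      have h0 : cfac q ((u0 : Fˣ) : F) ≠ 0 := cfac_ne (Units.ne_zero _)
      have : cfac q ((u0 : Fˣ) : F) ^ (q - 1) = 1 := (fixed_iff hF h0).1 (hfix _ u0.2)
      rw [cfac, ← pow_add, ← pow_mul] at this
      rw [cfac, ← pow_add, ← pow_mul, mul_comm]
      exact this
    have hbig : q - 1 < r := by
      by_contra h
      rw [hXq] at hlow
      have h' := Nat.mul_le_mul_left q (not_lt.1 h)
      rw [Nat.mul_sub, mul_one, ← sq] at h'
      have : q ≤ q ^ 2 := Nat.le_self_pow two_ne_zero q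
      omega
    refine ⟨?_, hqodd, hXq, ?_⟩
    · by_contra hq32
      have hker1 : Nat.card ((cfacHom F q).comp R.subtype).ker = 1 := by
        rw [Subgroup.card_eq_one, Subgroup.eq_bot_iff_forall]
        intro u hu
        have h1 : cfac q ((u : Fˣ) : F) = 1 := by
          rw [← cfacHom_val]; exact congrArg Units.val (MonoidHom.mem_ker.1 hu)
        have hc := kernel_cube hF (Units.ne_zero _) h1
        rw [cfac, ← pow_add] at h1
        have hg : ((u : Fˣ) : F) ^ Nat.gcd (q + (q - 1)) 3 = 1 := pow_gcd_eq_one.2 ⟨h1, hc⟩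
        have hcop : Nat.gcd (q + (q - 1)) 3 = 1 := by
          rcases (Nat.dvd_prime Nat.prime_three).1 (Nat.gcd_dvd_right (q + (q - 1)) 3) with e | e
          · exact e
          · have := e ▸ Nat.gcd_dvd_left (q + (q - 1)) 3
            omega
        rw [hcop, pow_one] at hg
        exact Subtype.ext (Units.ext hg)
      rw [hker1, one_mul] at hrC
      rw [hXq] at hC
      omega
    · obtain ⟨j, hj⟩ := hrdvd
      have hj3 : j < 3 := by
        by_contra h
        have := Nat.mul_le_mul_left r (not_lt.1 h)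
        omega
      interval_cases j <;> omega
  -- the generator is conjugate into the Levi subgroup
  have hrbig : 3 < r ∧ ¬ r ∣ q + 1 := by
    rcases hcase with ⟨-, hr⟩ | ⟨hq2, hodd, -, hr⟩
    · have h9 : 3 * q ≤ q ^ 2 := by rw [sq]; exact Nat.mul_le_mul_right _ hq3
      exact ⟨by omega, fun h => by have := Nat.le_of_dvd (by omega) h; omega⟩
    · have h11 : 11 ≤ q := by have := Nat.odd_iff.1 hodd; omega
      refine ⟨by omega, fun h => ?_⟩
      have hrdvd : r ∣ 3 * (q - 1) := by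
        rcases hr with e | e
        · rw [e]
        · exact ⟨2, by omega⟩
      have h6 : r ∣ 6 := by
        have := Nat.dvd_sub (h.mul_left 3) hrdvd
        rwa [show 3 * (q + 1) - 3 * (q - 1) = 6 by omega] at this
      have := Nat.le_of_dvd (by norm_num) h6
      omega
  obtain ⟨g0, hg0, hk0⟩ := hRg _ u0.2
  have hk0ord : orderOf (kap hF g0) = r := by rw [hk0, orderOf_units, hord]
  obtain ⟨a, ha, hal⟩ := lev_conj hF hg0.1
    (fun h => by
      have := Nat.le_of_dvd (by norm_num) (hk0ord ▸ orderOf_dvd_of_pow_eq_one (kernel_cube hF (kap_ne_zero hF hg0.1) h))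
      omega)
    (fun h => hrbig.2 (hk0ord ▸ orderOf_dvd_of_pow_eq_one h))
  obtain ⟨hlX, hlZ⟩ := lab_radQ hF ha ω
  have hfixa : ∀ g : G3, g • ω = ω → (a * g * a⁻¹) • (a • ω) = a • ω := fun g hg => by
    rw [← mul_smul, inv_mul_cancel_right, mul_smul, hg]
  have hka : ∀ {w : Fin 1 → F} {z : F}, IsE hF a w z → kap hF a = 1 := fun h =>
    kap_of_smul hF (by rw [va_of_isE hF h, one_smul])
  have hconj : ∀ g ∈ lineStab hF, kap hF (a * g * a⁻¹) = kap hF g := by
    intro g hg
    have haL := radQ_le_lineStab hF ha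
    obtain ⟨w, z, hw⟩ := id ha
    have hinv : kap hF a⁻¹ = 1 := kap_of_smul hF (by rw [va_of_isE hF hw.inv, one_smul])
    rw [kap_mul_lineStab hF (mul_mem haL hg) (inv_mem haL), kap_mul_lineStab hF haL hg, hka hw, one_mul,
      hinv, mul_one]
  refine ⟨a • ω, r, by rw [hlZ, hZ], ?_, ?_, ?_, by rw [hlX]; exact hcase⟩
  · rw [hlX]
    have h1 := (points_mul_pointLine hF htr hN ω).1
    have h2 := (points_mul_pointLine hF htr hN (a • ω)).1
    rw [hT, hZ, AddSubgroup.card_bot, mul_one] at h1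
    have : Nonempty Ω := ⟨ω⟩
    exact Nat.eq_of_mul_eq_mul_left Nat.card_pos (h2.trans h1.symm)
  · intro κ hκ
    obtain ⟨u, hu, rfl⟩ := hRiff κ hκ
    obtain ⟨n, hn⟩ : ∃ n : ℕ, (u0 : Fˣ) ^ n = u := by
      have hgen : (⟨u, hu⟩ : R) ∈ Submonoid.powers u0 := by
        rw [mem_powers_iff_mem_zpowers]
        exact (Subgroup.eq_top_iff' (Subgroup.zpowers u0)).1
          (Subgroup.eq_top_of_card_eq _ (by rw [Nat.card_zpowers, hu0])) _
      obtain ⟨n, hn⟩ := hgen
      exact ⟨n, congrArg Subtype.val hn⟩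
    refine ⟨(a * g0 * a⁻¹) ^ n, pow_mem hal n, ?_, ?_⟩
    · exact MulAction.mem_stabilizer_iff.1 (pow_mem (MulAction.mem_stabilizer_iff.2 (hfixa g0 hg0.2)) n)
    · have key : ∀ n : ℕ, kap hF ((a * g0 * a⁻¹) ^ n) = kap hF g0 ^ n := by
        intro n
        induction n with
        | zero => rw [pow_zero, pow_zero, kap_one]
        | succ n ih => rw [pow_succ, kap_mul (pow_mem hal n) hal, ih, pow_succ, hconj g0 hg0.1]
      rw [key, hk0, ← Units.val_pow_eq_pow_val, hn]
  · intro g hg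
    have hg' : a⁻¹ * g * a ∈ pointLine hF ω := by
      have haL := radQ_le_lineStab hF ha
      refine ⟨(lineStab hF).mul_mem ((lineStab hF).mul_mem ((lineStab hF).inv_mem haL) hg.1) haL, ?_⟩
      show (a⁻¹ * g * a) • ω = ω
      rw [mul_smul, mul_smul, show g • (a • ω) = a • ω from hg.2, inv_smul_smul]
    have hk : kap hF (a⁻¹ * g * a) = kap hF g := by
      have := hconj _ hg'.1
      rw [show a * (a⁻¹ * g * a) * a⁻¹ = g by group] at this
      exact this.symm
    obtain ⟨u, hu, hu'⟩ := hRall _ hg'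
    rw [← hk, ← hu', ← Units.val_pow_eq_pow_val,
      show u ^ r = 1 from congrArg Subtype.val (pow_card_eq_one' (x := (⟨u, hu⟩ : R))), Units.val_one]

end Cfsg.Agent.MinIndexU
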