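import Cfsg.Agent.Lib.MinIndexU.ThreeIota
/-
A point whose stabiliser contains some, but not all, transvections at a line.
* plA, plane_pelement, plane_dvd; transv_cases
-/
set_option autoImplicit false

namespace Cfsg.Agent.MinIndexU

open Cfsg.Agent.Unitary
open Cfsg.Agent.SUMinDegree
open scoped Matrix

variable {F : Type*} [Field F] [Fintype F] {q : ℕ} (hF : Fintype.card F = q ^ 2)

local notation "h3" => Cfsg.hermForm (2 + 1) F q
local notation "G3" => Cfsg.SU (2 + 1) F q

variable {Ω : Type*} [MulAction (Cfsg.SU (2 + 1) F q) Ω]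

/-- The matrices whose images fix a point. -/
noncomputable def plA (ω : Ω) : Subgroup (PSL2.SL2 (fixF hF)) :=
  (MulAction.stabilizer G3 ω).comap (iota hF)

theorem iota_neg_one_smul (L : PlaneLine (F := F) (q := q)) : iota hF (-1) • L.1 = L.1 := by
  obtain ⟨⟨_, v, hv, hv0, rfl⟩, hL⟩ := L
  have hve := hL v (Submodule.mem_span_singleton_self v)
  show iota hF (-1) • IsoLine.mk v hv hv0 = IsoLine.mk v hv hv0
  rw [IsoLine.smul_mk]
  refine IsoLine.mk_eq_iff.2 ⟨-1, ?_⟩
  rw [decomp_eW hF v, hve, zero_smul, zero_add, suAct_add, suAct_smul, suAct_smul, iota_va, iota_vb]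
  simp

variable [Finite Ω]

/-- For every line of the plane there is a `p`-element fixing only that line. -/
theorem plane_pelement (htr : ∀ x y : Ω, ∃ g : G3, g • x = y) (hN : Nat.card Ω ≤ q ^ 3) {ω : Ω}
    (hZ : Zof hF 1 ω ≠ ⊥) {p : ℕ} (hpow : ∀ g ∈ radQ hF 1, ∃ n : ℕ, g ^ p ^ n = 1)
    (L : PlaneLine (F := F) (q := q)) :
    ∃ M ∈ plA hF ω, (∃ n : ℕ, M ^ p ^ n = 1) ∧
      ∀ L' : PlaneLine (F := F) (q := q), iota hF M • L'.1 = L'.1 ↔ L' = L := by
  have H := hermForm_isHerm hF (2 + 1)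
  obtain ⟨⟨h, hh⟩, hhL⟩ := lines_transitive hF htr hN ω L.1
  have hh' : h • ω = ω := hh
  have hhL' : h • vaLine hF = L.1 := hhL
  obtain ⟨z, hz, hz0⟩ : ∃ z ∈ Zof hF 1 ω, z ≠ 0 :=
    (Zof hF 1 ω).bot_or_exists_ne_zero.resolve_left hZ
  obtain ⟨t, ht, htω⟩ := id hz
  have htq : t ∈ radQ hF 1 := ⟨_, _, ht⟩
  have ht1 : t ≠ 1 := fun e => hz0 (ht.coords (e ▸ isE_one)).2
  have hte : t = tv hF (va hF 1) (va_va hF) ⟨z, Zof_le_skew hF ω hz⟩ :=
    ht.unique (isE_tv hF ⟨z, Zof_le_skew hF ω hz⟩)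
  have hperp : h3 (suAct h (va hF 1)) (eW F) = 0 := by
    refine L.2 _ ?_
    rw [← hhL', vaLine, IsoLine.smul_mk]
    exact Submodule.mem_span_singleton_self _
  have hfix : suAct (h * t * h⁻¹) (eW F) = eW F := by
    rw [hte, tv_conj, mul_inv_cancel_right, suAct_tv, (H.eq_zero_symm hF).1 hperp, mul_zero,
      zero_smul, add_zero]
  obtain ⟨M, hM⟩ := exists_iota_of_fix hF hfix
  refine ⟨M, ?_, ?_, fun L' => ?_⟩
  · show iota hF M • ω = ω
    rw [hM, mul_smul, mul_smul, inv_smul_eq_iff.2 hh'.symm, htω, hh']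
  · obtain ⟨n, hn⟩ := hpow t htq
    refine ⟨n, iota_injective hF ?_⟩
    rw [map_pow, hM, conj_pow, hn, mul_one, mul_inv_cancel, map_one]
  · rw [hM, mul_smul, mul_smul, ← eq_inv_smul_iff, radQ_fix_line hF htq ht1, inv_smul_eq_iff, hhL']
    exact ⟨fun e => Subtype.ext e, fun e => congrArg Subtype.val e⟩

/-- The plane subgroup is transitive on the lines of the plane. -/
theorem plane_dvd (htr : ∀ x y : Ω, ∃ g : G3, g • x = y) (hN : Nat.card Ω ≤ q ^ 3) {ω : Ω}
    (hZ : Zof hF 1 ω ≠ ⊥) : q + 1 ∣ Nat.card (plA hF ω) := by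
  classical
  obtain ⟨p, hp, -, hpow⟩ := radQ_pgroup hF
  letI := planeAct hF
  have : Finite (IsoLine (2 + 1) F q) := Subtype.finite
  have : Finite (PlaneLine (F := F) (q := q)) := Subtype.finite
  let L0 : PlaneLine (F := F) (q := q) :=
    ⟨vaLine hF, mk_inPlane hF (va_ne_zero hF) (va_va hF) (va_eW hF)⟩
  have horb : MulAction.orbit (plA hF ω) L0 = Set.univ := Set.eq_univ_of_forall fun L => by
    refine mem_orbit_of_fix hp (fun L => ?_) _ _
    obtain ⟨M, hM, ⟨n, hn⟩, hfix⟩ := plane_pelement hF htr hN hZ hpow L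
    refine ⟨⟨M, hM⟩, ⟨n, Subtype.ext hn⟩, fun L' => ?_⟩
    exact Iff.trans Subtype.ext_iff (hfix L')
  refine ⟨Nat.card (MulAction.stabilizer (plA hF ω) L0), ?_⟩
  rw [← card_planeLine hF, ← Nat.card_congr (MulAction.orbitProdStabilizerEquivGroup (plA hF ω) L0),
    Nat.card_prod, horb, Nat.card_coe_set_eq, Set.ncard_univ]

/-- A proper non-trivial transvection group forces one of two small configurations. -/
theorem transv_cases (htr : ∀ x y : Ω, ∃ g : G3, g • x = y) (hN : Nat.card Ω ≤ q ^ 3) {ω : Ω}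
    (hZ : Zof hF 1 ω ≠ ⊥) (hnot : ¬ skewGrp hF ≤ Zof hF 1 ω) :
    ((2 : F) = 0 ∧ Nat.card (Zof hF 1 ω) = 2) ∨ (q = 9 ∧ Nat.card (Zof hF 1 ω) = 3) := by
  classical
  obtain ⟨p, hp, hcharF, hpow⟩ := radQ_pgroup hF
  obtain ⟨p', m, hp', hchar', hpm, hm⟩ := exists_prime_pow hF
  obtain rfl : p' = p := CharP.eq F hchar' hcharF
  have : Fact p'.Prime := ⟨hp⟩
  set K := fixF hF
  have hKp : CharP K p' := ⟨fun n => by rw [← CharP.cast_eq_zero_iff F p' n, Subtype.ext_iff]; simp⟩
  have hKc : Nat.card K = q := card_fixF hF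
  set π := QuotientGroup.mk' (Subgroup.center (PSL2.SL2 K))
  set A := plA hF ω
  set B := A.map π
  -- order of the image
  have hker : Nat.card A ∣ 2 * Nat.card B := by
    have h1 := (π.comp A.subtype).ker.card_mul_index
    rw [Subgroup.index_ker, MonoidHom.range_comp, Subgroup.range_subtype] at h1
    have h2 : Nat.card (π.comp A.subtype).ker ≤ 2 := by
      refine le_trans (Nat.card_le_card_of_injective
        (β := ({1, -1} : Finset (PSL2.SL2 K))) (fun x => ⟨x.1.1, ?_⟩) ?_) ?_
      · have hx : (QuotientGroup.mk x.1.1 : PSL2.PSL2 K) = 1 := x.2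
        rcases PSL2.mk_one_iff.1 hx with e | e <;> simp [e]
      · intro x y h
        exact Subtype.ext (Subtype.ext (congrArg Subtype.val h :))
      · rw [Nat.card_eq_finsetCard]; exact Finset.card_le_two
    have hk0 : 0 < Nat.card (π.comp A.subtype).ker := Nat.card_pos
    rw [← h1]
    exact Nat.mul_dvd_mul_right (by interval_cases (Nat.card (π.comp A.subtype).ker) <;> norm_num) _
  have hq1 : q + 1 ∣ 2 * Nat.card B := (plane_dvd hF htr hN hZ).trans hker
  -- upper transvections
  let Z' : AddSubgroup K :=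
    { carrier := {r | r.1 * skw hF ∈ Zof hF 1 ω}
      zero_mem' := by show (0 : F) * skw hF ∈ Zof hF 1 ω; rw [zero_mul]; exact zero_mem _
      add_mem' := fun {a b} (ha : a.1 * skw hF ∈ Zof hF 1 ω) (hb : b.1 * skw hF ∈ Zof hF 1 ω) => by
        show (a.1 + b.1) * skw hF ∈ Zof hF 1 ω; rw [add_mul]; exact add_mem ha hb
      neg_mem' := fun {a} (ha : a.1 * skw hF ∈ Zof hF 1 ω) => by
        show (-a.1) * skw hF ∈ Zof hF 1 ω; rw [neg_mul]; exact neg_mem ha }
  have hup : ∀ r : K, r ∈ Z' ↔ PSL2.upT r ∈ A := by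
    intro r
    show r.1 * skw hF ∈ Zof hF 1 ω ↔ iota hF (PSL2.upT r) • ω = ω
    rw [iota_upT]
    constructor
    · rintro ⟨t, ht, htω⟩
      rwa [ht.unique (isE_tv hF ⟨r.1 * skw hF, mul_skw_skew hF r.2⟩)] at htω
    · intro h
      exact ⟨_, isE_tv hF _, h⟩
  have hZ' : Nat.card Z' = Nat.card (Zof hF 1 ω) := by
    refine Nat.card_eq_of_bijective (fun r => (⟨r.1.1 * skw hF, r.2⟩ : Zof hF 1 ω)) ⟨?_, ?_⟩
    · intro a b h
      exact Subtype.ext (Subtype.ext (mul_right_cancel₀ (skw_ne hF) (congrArg Subtype.val h :)))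
    · rintro ⟨c, hc⟩
      have hc' : c + c ^ q = 0 := Zof_le_skew hF ω hc
      have hd : c / skw hF ∈ K := by
        rw [mem_fixF, div_pow, skw_skew hF, show c ^ q = -c by linear_combination hc', neg_div_neg_eq]
      exact ⟨⟨⟨_, hd⟩, by show c / skw hF * skw hF ∈ Zof hF 1 ω; rwa [div_mul_cancel₀ _ (skw_ne hF)]⟩,
        Subtype.ext (div_mul_cancel₀ _ (skw_ne hF))⟩
  have hupadd : ∀ a b : K, PSL2.upT (a + b) = PSL2.upT a * PSL2.upT b := fun a b => Subtype.ext (by
    rw [Matrix.SpecialLinearGroup.coe_mul]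
    ext i j
    fin_cases i <;> fin_cases j <;> simp [PSL2.upT, Matrix.mul_apply, Fin.sum_univ_two, add_comm])
  have hkB : Nat.card Z' ∣ Nat.card B := by
    let ψ : Multiplicative Z' →* B := MonoidHom.mk'
      (fun r => ⟨π (PSL2.upT r.toAdd.1), Subgroup.mem_map_of_mem π ((hup _).1 r.toAdd.2)⟩)
      (fun a b => Subtype.ext (by
        show π (PSL2.upT (a.toAdd.1 + b.toAdd.1)) = π _ * π _
        rw [hupadd, map_mul]))
    have hinj : Function.Injective ψ := by
      refine (injective_iff_map_eq_one ψ).2 fun r hr => ?_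
      by_contra hne
      have h0 : r.toAdd.1 ≠ 0 := fun e => hne (Multiplicative.toAdd.injective (Subtype.ext e))
      have h := PSL2.mk_upT_order p' h0
      rw [show (QuotientGroup.mk (PSL2.upT r.toAdd.1) : PSL2.PSL2 K) = 1 from congrArg Subtype.val hr,
        orderOf_one] at h
      exact hp.one_lt.ne h
    have := Subgroup.card_dvd_of_injective ψ hinj
    rwa [Nat.card_congr Multiplicative.toAdd] at this
  -- the size of the transvection group
  obtain ⟨i, hi, hki⟩ : ∃ i, i ≤ m ∧ Nat.card (Zof hF 1 ω) = p' ^ i :=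
    (Nat.dvd_prime_pow hp).1 (by
      have h := AddSubgroup.card_dvd_of_le (Zof_le_skew hF (d := 1) ω)
      rw [card_skewGrp hF] at h
      exact hpm ▸ h)
  have hi1 : 1 ≤ i := Nat.one_le_iff_ne_zero.2 fun h => hZ (AddSubgroup.eq_bot_of_card_eq _ (by rw [hki, h, pow_zero]))
  have him : i < m := lt_of_le_of_ne hi fun h => hnot (AddSubgroup.eq_of_le_of_card_ge (Zof_le_skew hF ω)
    (by rw [hki, h, card_skewGrp hF, hpm])).ge
  have hpB : p' ∣ Nat.card B := (dvd_pow_self p' (by omega)).trans (hki ▸ hZ' ▸ hkB)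
  have hq4 : 4 ≤ q := by
    rw [hpm]
    calc 4 = 2 ^ 2 := rfl
      _ ≤ p' ^ 2 := Nat.pow_le_pow_left hp.two_le 2
      _ ≤ p' ^ m := Nat.pow_le_pow_right hp.pos (by omega)
  rcases PSL2.psl_dickson p' B with ⟨-, S, hS⟩ | ⟨h, -⟩ | ⟨n, -, hn, -, hc, hp2, -⟩ | ⟨h, -⟩ |
    ⟨hp3, hc, -⟩ | ⟨R, j, hj, hR, hiso⟩
  · exfalso
    obtain ⟨x, hx, -, hxc, -⟩ := PSL2.card_psl_split (F := K) p'
    have hSq : Nat.card S ≤ q := by
      obtain ⟨a, ha⟩ := IsPGroup.iff_card.1 S.2
      have hd : Nat.card S ∣ Nat.card K * x := hxc ▸ Subgroup.card_subgroup_dvd_card _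
      refine Nat.le_of_dvd (by omega) (hKc ▸ Nat.Coprime.dvd_of_dvd_mul_right ?_ hd)
      rw [ha]
      exact Nat.Coprime.pow_left _ (hp.coprime_iff_not_dvd.2 hx)
    have hmem : ∀ y ∈ B, (∃ n : ℕ, y ^ p' ^ n = 1) → y ∈ (S : Subgroup (PSL2.PSL2 K)) := by
      intro y hy ⟨n, hn⟩
      have hP : IsPGroup p' (Subgroup.zpowers y) := by
        intro w
        refine ⟨n, ?_⟩
        obtain ⟨i, hi⟩ := Subgroup.mem_zpowers_iff.1 w.2
        refine Subtype.ext ?_
        rw [Subgroup.coe_pow, ← hi, ← zpow_natCast (y ^ i), ← zpow_mul, mul_comm, zpow_mul, zpow_natCast, hn,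
          one_zpow, Subgroup.coe_one]
      have hsup := hP.to_sup_of_normal_right' S.2 (Subgroup.zpowers_le.2 (hS hy))
      have := S.3 hsup le_sup_right
      rw [← this]
      exact Subgroup.mem_sup_left (Subgroup.mem_zpowers y)
    choose M hM hMp hMfix using plane_pelement hF htr hN hZ hpow
    have hinj : q + 1 ≤ Nat.card {y : (S : Subgroup (PSL2.PSL2 K)) // y ≠ 1} := by
      rw [← card_planeLine hF]
      refine Nat.card_le_card_of_injective (fun L => ⟨⟨π (M L), hmem _ (Subgroup.mem_map_of_mem π (hM L))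
        ((hMp L).imp fun n hn => by rw [← map_pow, hn, map_one])⟩, fun e => ?_⟩) fun L L' e => ?_
      · have h1 : (QuotientGroup.mk (M L) : PSL2.PSL2 K) = 1 := congrArg Subtype.val e
        have hall : ∀ L' : PlaneLine (F := F) (q := q), L' = L := fun L' => (hMfix L L').1 (by
          rcases PSL2.mk_one_iff.1 h1 with e' | e' <;> rw [e']
          · rw [map_one, one_smul]
          · exact iota_neg_one_smul hF L')
        have : Subsingleton (PlaneLine (F := F) (q := q)) := ⟨fun a b => (hall a).trans (hall b).symm⟩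
        have h2 := Finite.card_le_one_iff_subsingleton.2 this
        rw [card_planeLine hF] at h2
        omega
      · have h1 : (QuotientGroup.mk (M L) : PSL2.PSL2 K) = QuotientGroup.mk (M L') :=
          congrArg (fun z => z.1.1) e
        refine ((hMfix L' L).1 ?_)
        have hL : iota hF (M L) • L.1 = L.1 := (hMfix L L).2 rfl
        rcases PSL2.mk_eq_mk_iff.1 h1 with e' | e'
        · rw [← e', hL]
        · rw [show M L' = -M L by rw [e', neg_neg], ← neg_one_mul (M L), map_mul, mul_smul, hL,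
            iota_neg_one_smul]
    have : Nat.card {y : (S : Subgroup (PSL2.PSL2 K)) // y ≠ 1} ≤ Nat.card S :=
      Nat.card_le_card_of_injective _ Subtype.val_injective
    omega
  · exact absurd hpB h
  · -- dihedral
    rcases hp2 with h | h
    · exact absurd hpB h
    · subst h
      refine Or.inl ⟨by exact_mod_cast CharP.cast_eq_zero F 2, ?_⟩
      have hd : 2 ^ i ∣ 2 * n := hc ▸ hki ▸ hZ' ▸ hkB
      have hcop : Nat.Coprime (2 ^ i) n := Nat.Coprime.pow_left _ (Nat.prime_two.coprime_iff_not_dvd.2 hn)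
      have hle := Nat.le_of_dvd two_pos (hcop.dvd_of_dvd_mul_right hd)
      have : 2 ^ 1 ≤ 2 ^ i := Nat.pow_le_pow_right two_pos hi1
      omega
  · exact absurd hpB h
  · -- the icosahedral case in characteristic three
    subst hp3
    refine Or.inr ?_
    have hd : 3 ^ i ∣ 3 * 20 := by rw [← show (60 : ℕ) = 3 * 20 from rfl, ← hc]; exact hki ▸ hZ' ▸ hkB
    have hd' : 3 ^ i ∣ 3 :=
      (Nat.Coprime.pow_left i (by norm_num : Nat.Coprime 3 20)).dvd_of_dvd_mul_right hd
    have hi' : i = 1 := by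
      have h1 := Nat.le_of_dvd (by norm_num) hd'
      have h2 : i < 2 := by
        by_contra h
        have : 3 ^ 2 ≤ 3 ^ i := Nat.pow_le_pow_right (by norm_num) (by omega)
        omega
      omega
    rw [hi', pow_one] at hki
    refine ⟨?_, hki⟩
    rw [hc, hpm] at hq1
    have hm4 : m ≤ 4 := by
      by_contra h
      have : 3 ^ 5 ≤ 3 ^ m := Nat.pow_le_pow_right (by norm_num) (by omega)
      have := Nat.le_of_dvd (by norm_num) hq1
      omega
    rw [hpm]
    interval_cases m <;> first | omega | (norm_num at hq1 <;> norm_num)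
  · -- subfield groups
    exfalso
    rcases Nat.eq_or_lt_of_le hj with hj1 | hj2
    · subst hj1
      rw [pow_one] at hR
      obtain ⟨⟨e⟩⟩ | ⟨-, hev, -⟩ := hiso
      · have htop : B = ⊤ := Subgroup.eq_top_of_card_eq _
          ((Nat.card_congr e.toEquiv).trans (PSL2.card_psl_congr hR))
        refine hnot fun c hc => ?_
        have hc' : c + c ^ q = 0 := hc
        have hall : ∀ r : K, r ∈ Z' := by
          intro r
          have key : ∀ s : K, PSL2.upT s ∈ A ∨ -PSL2.upT s ∈ A := by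
            intro s
            obtain ⟨g, hg, hgs⟩ : π (PSL2.upT s) ∈ B := htop ▸ Subgroup.mem_top _
            rcases PSL2.mk_eq_mk_iff.1 hgs with e' | e'
            · exact Or.inl (e' ▸ hg)
            · exact Or.inr (e' ▸ hg)
          refine (hup r).2 ?_
          by_cases h2 : (2 : K) = 0
          · rcases key r with h | h
            · exact h
            · rwa [show -PSL2.upT r = PSL2.upT r from Subtype.ext (by
                rw [Matrix.SpecialLinearGroup.coe_neg]
                ext i j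
                exact neg_eq_of_add_eq_zero_left (by
                  rw [← two_mul, show (2 : F) = 0 from congrArg Subtype.val h2, zero_mul]))] at h
          · have e2 : r / 2 + r / 2 = r := by rw [← two_mul, mul_div_cancel₀ _ h2]
            rcases key (r / 2) with h | h
            · have := mul_mem h h
              rwa [← hupadd, e2] at this
            · have := mul_mem h h
              rwa [neg_mul_neg, ← hupadd, e2] at this
        have hd : c / skw hF ∈ K := by
          rw [mem_fixF, div_pow, skw_skew hF, show c ^ q = -c by linear_combination hc', neg_div_neg_eq]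
        have := hall ⟨_, hd⟩
        change c / skw hF * skw hF ∈ Zof hF 1 ω at this
        rwa [div_mul_cancel₀ _ (skw_ne hF)] at this
      · simp at hev
    · have hBd : Nat.card B ∣ Nat.card R * (Nat.card R ^ 2 - 1) := by
        rcases hiso with ⟨⟨e⟩⟩ | ⟨-, -, ⟨e⟩⟩
        · rw [Nat.card_congr e.toEquiv, GLOrder.sq_sub_one, ← PSL2.card_psl_mul]
          exact Dvd.intro_left _ rfl
        · rw [Nat.card_congr e.toEquiv, GLOrder.card_PGL_two]
      set r := Nat.card R
      rw [hKc] at hR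
      have hr2 : 2 ≤ r := Finite.one_lt_card
      have hcop : Nat.Coprime (q + 1) r := by
        have hrq : r ∣ q := hR ▸ dvd_pow_self r (by omega)
        exact Nat.Coprime.coprime_dvd_right hrq (Nat.coprime_self_add_left.2 (Nat.coprime_one_left q))
      have hd : q + 1 ∣ 2 * (r ^ 2 - 1) := by
        have := hq1.trans (Nat.mul_dvd_mul_left 2 hBd)
        rw [mul_left_comm] at this
        exact hcop.dvd_of_dvd_mul_left this
      have hr4 : 4 ≤ r ^ 2 := Nat.pow_le_pow_left hr2 2
      have hle := Nat.le_of_dvd (by omega) hd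
      by_cases hj3 : 3 ≤ j
      · have hr3 : r ^ 3 ≤ q := hR ▸ Nat.pow_le_pow_right (by omega) hj3
        have : 2 * r ^ 2 ≤ r ^ 3 := by rw [pow_succ r 2, mul_comm (r ^ 2) r]; exact Nat.mul_le_mul_right _ hr2
        omega
      · obtain rfl : j = 2 := by omega
        obtain ⟨c, hc⟩ := hd
        rw [← hR] at hc
        rcases Nat.lt_or_ge c 2 with h | h
        · interval_cases c
          · omega
          · have : r ^ 2 = 3 := by omega
            omega
        · have : (r ^ 2 + 1) * 2 ≤ (r ^ 2 + 1) * c := Nat.mul_le_mul_left _ h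
          omega

end Cfsg.Agent.MinIndexU
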